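import Mathlib

/-!
# Simple transitive groups of fixity at most four: basic facts

`Ctx G Ω` collects the hypotheses used throughout: `G` is simple non-abelian, transitive on `Ω`,
no non-identity element fixes more than four points, and there are more than four points.
-/

set_option autoImplicit false

namespace Cfsg.Agent.FixFour

open MulAction Pointwise
open scoped commutatorElement

universe u v

variable {G : Type u} [Group G] {Ω : Type v} [MulAction G Ω]

/-- The standing hypotheses. -/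
structure Ctx (G : Type u) [Group G] (Ω : Type v) [MulAction G Ω] : Prop where
  simple : IsSimpleGroup G
  na : ¬ IsMulCommutative G
  trans : MulAction.IsPretransitive G Ω
  le4 : ∀ g : G, g ≠ 1 → Nat.card (MulAction.fixedBy Ω g) ≤ 4
  five : 5 ≤ Nat.card Ω

theorem fix_conj (g x : G) : fixedBy Ω (g * x * g⁻¹) = g • fixedBy Ω x := by
  ext a
  rw [Set.mem_smul_set_iff_inv_smul_mem, mem_fixedBy, mem_fixedBy, mul_smul, mul_smul, smul_eq_iff_eq_inv_smul]

theorem smul_fix_of_comm {g x : G} (h : g * x = x * g) : g • fixedBy Ω x = fixedBy Ω x := by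
  rw [← fix_conj, h, mul_inv_cancel_right]

theorem card_fix_conj (g x : G) : Nat.card (fixedBy Ω (g * x * g⁻¹)) = Nat.card (fixedBy Ω x) := by
  rw [fix_conj]
  exact (Nat.card_congr ((MulAction.toPerm g).image (fixedBy Ω x))).symm

theorem card_smul (g : G) (Q : Set Ω) : Nat.card (g • Q : Set Ω) = Nat.card Q :=
  (Nat.card_congr ((MulAction.toPerm g).image Q)).symm

theorem fix_pow_subset (g : G) (k : ℕ) : fixedBy Ω g ⊆ fixedBy Ω (g ^ k) := fun a ha => by
  induction k with
  | zero => simp
  | succ k ih => rw [mem_fixedBy, pow_succ, mul_smul, ha]; exact ih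

/-- The elements fixing `Q` pointwise. -/
def pointStab (Q : Set Ω) : Subgroup G := fixingSubgroup G Q

theorem mem_pointStab {Q : Set Ω} {g : G} : g ∈ pointStab Q ↔ ∀ a ∈ Q, g • a = a :=
  mem_fixingSubgroup_iff G

theorem pointStab_le (Q : Set Ω) : pointStab Q ≤ stabilizer G Q := fun g hg => by
  rw [mem_pointStab] at hg
  refine mem_stabilizer_iff.2 (Set.ext fun a => ⟨?_, fun ha => ⟨a, ha, hg a ha⟩⟩)
  rintro ⟨b, hb, rfl⟩
  show g • b ∈ Q
  rwa [hg b hb]

theorem mem_stabilizer_fix (x : G) : x ∈ stabilizer G (fixedBy Ω x) :=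
  mem_stabilizer_iff.2 (smul_fix_of_comm rfl)

theorem centralizer_le_stabilizer (x : G) :
    Subgroup.centralizer ({x} : Set G) ≤ stabilizer G (fixedBy Ω x) := fun _ hg =>
  mem_stabilizer_iff.2 (smul_fix_of_comm (Subgroup.mem_centralizer_singleton_iff.1 hg))

theorem conj_pointStab {g k : G} {Q : Set Ω} (hk : k ∈ pointStab Q) :
    g * k * g⁻¹ ∈ pointStab (g • Q) := by
  rw [mem_pointStab] at hk ⊢
  rintro _ ⟨a, ha, rfl⟩
  rw [mul_smul, mul_smul, inv_smul_smul, hk a ha]

theorem normal_pointStab {g k : G} {Q : Set Ω} (hg : g ∈ stabilizer G Q) (hk : k ∈ pointStab Q) :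
    g * k * g⁻¹ ∈ pointStab Q := by
  have h := conj_pointStab (g := g) hk
  rwa [mem_stabilizer_iff.1 hg] at h

/-- The four-point bound in the form used most often. -/
theorem Ctx.fix_eq (h : Ctx G Ω) [Finite Ω] {x : G} (hx : x ≠ 1) {Q : Set Ω} (hQ : Q ⊆ fixedBy Ω x)
    (h4 : Nat.card Q = 4) : fixedBy Ω x = Q := by
  refine (Set.eq_of_subset_of_ncard_le hQ ?_ (Set.toFinite _)).symm
  rw [← Nat.card_coe_set_eq, ← Nat.card_coe_set_eq, h4]
  exact h.le4 x hx

theorem Ctx.stabilizer_ne_top (h : Ctx G Ω) {Q : Set Ω} (hne : Q.Nonempty) (hu : Q ≠ Set.univ) :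
    stabilizer G Q ≠ ⊤ := by
  intro ht
  obtain ⟨a, ha⟩ := hne
  refine hu (Set.eq_univ_of_forall fun b => ?_)
  obtain ⟨g, hg⟩ := h.trans.exists_smul_eq a b
  rw [← hg, ← mem_stabilizer_iff.1 (show g ∈ stabilizer G Q by rw [ht]; trivial)]
  exact Set.smul_mem_smul_set ha

theorem Ctx.ne_univ (h : Ctx G Ω) {Q : Set Ω} (hQ : Nat.card Q ≤ 4) : Q ≠ Set.univ := fun e => by
  rw [e, Nat.card_univ] at hQ
  have := h.five
  omega

/-- A `p`-subgroup all of whose non-identity elements fix no point of an invariant set has order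
dividing the size of that set. -/
theorem card_dvd_of_free [Finite G] [Finite Ω] (T : Subgroup G) (A : Set Ω)
    (hinv : ∀ t ∈ T, ∀ a ∈ A, t • a ∈ A) (hfree : ∀ t ∈ T, t ≠ 1 → ∀ a ∈ A, t • a ≠ a) :
    Nat.card T ∣ Nat.card A := by
  letI : MulAction T A :=
    { smul := fun t a => ⟨(t : G) • (a : Ω), hinv t t.2 a a.2⟩
      one_smul := fun a => Subtype.ext (one_smul G (a : Ω))
      mul_smul := fun s t a => Subtype.ext (mul_smul (s : G) (t : G) (a : Ω)) }
  have hst : ∀ a : A, stabilizer T a = ⊥ := fun a => eq_bot_iff.2 fun t ht => by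
    rw [Subgroup.mem_bot]
    by_contra hne
    exact hfree t t.2 (fun e => hne (Subtype.ext e)) a a.2 (congrArg Subtype.val (mem_stabilizer_iff.1 ht))
  have hsz : ∀ a : A, Nat.card (orbit T a) = Nat.card T := fun a => by
    rw [Nat.card_congr (orbitEquivQuotientStabilizer T a), hst a]
    exact Subgroup.index_bot
  letI := Fintype.ofFinite (Quotient (orbitRel T A))
  rw [Nat.card_congr (selfEquivSigmaOrbits T A), Nat.card_sigma]
  exact Finset.dvd_sum fun ω _ => (hsz _).symm.dvd

/-- A finite group with a homomorphism-like invariant on a Sylow subgroup is not perfect: here the focal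
subgroup form. -/
theorem exists_fused_out [Finite G] (h : Ctx G Ω) {p : ℕ} [Fact p.Prime] (P : Sylow p G) (T : Subgroup G)
    (hT : T < (P : Subgroup G)) :
    ∃ x g : G, x ∈ (P : Subgroup G) ∧ g * x * g⁻¹ ∈ (P : Subgroup G) ∧ (g * x * g⁻¹) * x⁻¹ ∉ T := by
  haveI := h.simple
  by_contra hc
  push Not at hc
  have hf : Subgroup.focalSubgroup (P : Subgroup G) ≤ T := by
    rw [Subgroup.focalSubgroup_def, Subgroup.closure_le]
    rintro _ ⟨hgP, x, hx, u, rfl⟩
    have hz : u * x⁻¹ * u⁻¹ ∈ (P : Subgroup G) := by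
      rw [show u * x⁻¹ * u⁻¹ = x⁻¹ * ⁅x, u⁆ by rw [commutatorElement_def]; group]
      exact mul_mem (inv_mem hx) hgP
    have hz' : u * x * u⁻¹ ∈ (P : Subgroup G) := by
      have := inv_mem hz
      simpa [mul_assoc] using this
    have h1 := inv_mem (hc x u hx hz')
    rw [show ⁅x, u⁆ = ((u * x * u⁻¹) * x⁻¹)⁻¹ by rw [commutatorElement_def]; group]
    exact h1
  have hperf : commutator G = ⊤ := by
    rcases Subgroup.Normal.eq_bot_or_eq_top (inferInstance : (commutator G).Normal) with he | he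
    · refine absurd ⟨⟨fun a b => ?_⟩⟩ h.na
      exact (commutatorElement_eq_one_iff_mul_comm (g₁ := a) (g₂ := b)).1 (by
        have : ⁅a, b⁆ ∈ commutator G := Subgroup.commutator_mem_commutator (Subgroup.mem_top a) (Subgroup.mem_top b)
        rwa [he, Subgroup.mem_bot] at this)
    · exact he
  have := Subgroup.commutator_inf_eq_focalSubgroup P
  rw [hperf, top_inf_eq] at this
  exact absurd (this.le.trans hf) (not_le_of_gt hT)

/-- Every element of a simple non-abelian group acts as an even permutation. -/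
theorem sign_toPerm [Fintype Ω] [DecidableEq Ω] (h : Ctx G Ω) (g : G) :
    Equiv.Perm.sign (MulAction.toPermHom G Ω g) = 1 := by
  haveI := h.simple
  let f := (Equiv.Perm.sign (α := Ω)).comp (MulAction.toPermHom G Ω)
  rcases Subgroup.Normal.eq_bot_or_eq_top (inferInstance : f.ker.Normal) with he | he
  · refine absurd ⟨⟨fun a b => (MonoidHom.ker_eq_bot_iff f).1 he ?_⟩⟩ h.na
    rw [map_mul, map_mul, mul_comm]
  · exact MonoidHom.mem_ker.1 (show g ∈ f.ker by rw [he]; trivial)

/-- An involution fixes a number of points congruent to the degree modulo four. -/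
theorem invol_parity [Finite Ω] (h : Ctx G Ω) {t : G} (ht : orderOf t = 2) :
    4 ∣ Nat.card Ω - Nat.card (fixedBy Ω t) := by
  classical
  letI := Fintype.ofFinite Ω
  set π : Equiv.Perm Ω := MulAction.toPermHom G Ω t
  have hπ2 : π ^ 2 = 1 := by
    rw [← map_pow, show t ^ 2 = 1 by rw [← ht]; exact pow_orderOf_eq_one t, map_one]
  have hall : ∀ c ∈ π.cycleType, c = 2 := fun c hc => by
    have h2 : c ∣ 2 := (Equiv.Perm.dvd_of_mem_cycleType hc).trans (orderOf_dvd_of_pow_eq_one hπ2)
    exact le_antisymm (Nat.le_of_dvd two_pos h2) (Equiv.Perm.two_le_of_mem_cycleType hc)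
  have hrep := Multiset.eq_replicate_card.2 hall
  have hs := Equiv.Perm.sign_of_cycleType π
  rw [sign_toPerm h t, hrep, Multiset.sum_replicate, Multiset.card_replicate, smul_eq_mul] at hs
  have heven : Even (π.cycleType.card * 2 + π.cycleType.card) := by
    rw [← neg_one_pow_eq_one_iff_even (R := ℤˣ) (by decide)]
    exact hs.symm
  have hsupp : π.support.card = π.cycleType.card * 2 := by
    rw [← Equiv.Perm.sum_cycleType, hrep, Multiset.sum_replicate, Multiset.card_replicate, smul_eq_mul]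
  have hc : Nat.card (fixedBy Ω t) + π.support.card = Nat.card Ω := by
    rw [show Nat.card (fixedBy Ω t) = (π.supportᶜ).card from ?_, Finset.card_compl_add_card, Nat.card_eq_fintype_card]
    rw [Nat.card_eq_fintype_card, ← Set.toFinset_card]
    congr 1
    ext a
    simp [π]
  obtain ⟨k, hk⟩ := heven
  omega

/-- A fixed-point-free element of order four, with fixed-point-free square, needs a degree divisible by eight. -/
theorem free_four_parity [Finite Ω] (h : Ctx G Ω) {g : G} (hg : g ^ 4 = 1)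
    (hfree : fixedBy Ω (g ^ 2) = ∅) : 8 ∣ Nat.card Ω := by
  classical
  letI := Fintype.ofFinite Ω
  set π : Equiv.Perm Ω := MulAction.toPermHom G Ω g
  have hπ4 : π ^ 4 = 1 := by rw [← map_pow, hg, map_one]
  have hmove : ∀ a : Ω, (π ^ 2) a ≠ a := fun a ha => by
    rw [← map_pow] at ha
    have : a ∈ fixedBy Ω (g ^ 2) := ha
    rw [hfree] at this
    exact this
  have hall : ∀ c ∈ π.cycleType, c = 4 := by
    intro c hc
    have h4 : c ∣ 4 := (Equiv.Perm.dvd_of_mem_cycleType hc).trans (orderOf_dvd_of_pow_eq_one hπ4)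
    rw [Equiv.Perm.cycleType_def, Multiset.mem_map] at hc
    obtain ⟨σ, hσ, rfl⟩ := hc
    rw [Finset.mem_val, Equiv.Perm.mem_cycleFactorsFinset_iff] at hσ
    obtain ⟨a, ha⟩ := hσ.1.nonempty_support
    have hge : 2 ≤ (Function.comp Finset.card Equiv.Perm.support σ) := hσ.1.two_le_card_support
    have hle := Nat.le_of_dvd (by norm_num) h4
    rcases (by omega : (Function.comp Finset.card Equiv.Perm.support σ) = 2 ∨
        (Function.comp Finset.card Equiv.Perm.support σ) = 3 ∨
        (Function.comp Finset.card Equiv.Perm.support σ) = 4) with h2 | h3 | h4'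
    · exfalso
      have hs2 : σ ^ 2 = 1 := by
        have ho := hσ.1.orderOf
        rw [show σ.support.card = 2 from h2] at ho
        rw [← ho]; exact pow_orderOf_eq_one σ
      refine hmove a ?_
      have hsa : σ a = π a := hσ.2 a ha
      have hsa' : σ a ∈ σ.support := Equiv.Perm.apply_mem_support.2 ha
      calc (π ^ 2) a = π (π a) := by rw [pow_two, Equiv.Perm.mul_apply]
        _ = σ (σ a) := by rw [← hsa]; exact (hσ.2 _ hsa').symm
        _ = (σ ^ 2) a := by rw [pow_two, Equiv.Perm.mul_apply]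
        _ = a := by rw [hs2]; rfl
    · rw [h3] at h4; norm_num at h4
    · exact h4'
  have hrep := Multiset.eq_replicate_card.2 hall
  have hs := Equiv.Perm.sign_of_cycleType π
  rw [sign_toPerm h g, hrep, Multiset.sum_replicate, Multiset.card_replicate, smul_eq_mul] at hs
  have heven : Even (π.cycleType.card * 4 + π.cycleType.card) := by
    rw [← neg_one_pow_eq_one_iff_even (R := ℤˣ) (by decide)]
    exact hs.symm
  have hsupp : π.support = Finset.univ := Finset.eq_univ_of_forall fun a =>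
    Equiv.Perm.mem_support.2 fun ha => hmove a (by rw [pow_two, Equiv.Perm.mul_apply, ha, ha])
  have hn : Nat.card Ω = π.cycleType.card * 4 := by
    rw [Nat.card_eq_fintype_card, ← Finset.card_univ, ← hsupp, ← Equiv.Perm.sum_cycleType, hrep,
      Multiset.sum_replicate, Multiset.card_replicate, smul_eq_mul]
  obtain ⟨k, hk⟩ := heven
  omega

/-- If every `p`-element of a Sylow subgroup has the same fixed set, its stabilizer is strongly
`p`-embedded. -/
theorem se_of_uniform [Finite G] [Finite Ω] (h : Ctx G Ω) {p : ℕ} [hp : Fact p.Prime] (P : Sylow p G)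
    (hdvd : p ∣ Nat.card G) (Q : Set Ω) (hQ : Q.Nonempty) (hQu : Q ≠ Set.univ)
    (hfix : ∀ x ∈ (P : Subgroup G), x ≠ 1 → fixedBy Ω x = Q) :
    ∃ H : Subgroup G, H ≠ ⊤ ∧ p ∣ Nat.card H ∧
      ∀ g : G, g ∉ H → ¬ p ∣ Nat.card ↥(H ⊓ H.map (MulAut.conj g).toMonoidHom) := by
  set H := stabilizer G Q with hH
  have hPH : (P : Subgroup G) ≤ H := fun x hx => by
    by_cases h1 : x = 1
    · rw [h1]; exact one_mem _
    · rw [hH, ← hfix x hx h1]; exact mem_stabilizer_fix x
  have hfixH : ∀ x ∈ H, orderOf x = p → fixedBy Ω x = Q := by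
    intro x hx hxo
    have hpx : IsPGroup p (Subgroup.zpowers (⟨x, hx⟩ : H)) := IsPGroup.of_card (n := 1) (by
      rw [Nat.card_zpowers, ← Subgroup.orderOf_coe, pow_one]; exact hxo)
    obtain ⟨R, hR⟩ := hpx.exists_le_sylow
    obtain ⟨k, hk⟩ := MulAction.exists_smul_eq H (P.subtype hPH) R
    have hxR : (⟨x, hx⟩ : H) ∈ (R : Subgroup H) := hR (Subgroup.mem_zpowers _)
    rw [← hk, Sylow.coe_subgroup_smul, Subgroup.mem_pointwise_smul_iff_inv_smul_mem] at hxR
    rw [← map_inv] at hxR
    change (k⁻¹ : H) * ⟨x, hx⟩ * (k⁻¹ : H)⁻¹ ∈ (P : Subgroup G).subgroupOf H at hxR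
    simp only [Subgroup.mem_subgroupOf, Subgroup.coe_mul, Subgroup.coe_inv, inv_inv, Subgroup.coe_mk] at hxR
    have hne : (k : G)⁻¹ * x * k ≠ 1 := fun e => by
      rw [mul_assoc, inv_mul_eq_iff_eq_mul, mul_one] at e
      have e : x = 1 := mul_eq_right.1 e
      rw [e, orderOf_one] at hxo
      exact hp.out.one_lt.ne hxo
    have := hfix _ hxR hne
    have h2 := fix_conj (Ω := Ω) (k : G) ((k : G)⁻¹ * x * k)
    rw [this, show (k : G) * ((k : G)⁻¹ * x * k) * (k : G)⁻¹ = x by group] at h2
    rw [h2]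
    exact mem_stabilizer_iff.1 k.2
  refine ⟨H, h.stabilizer_ne_top hQ hQu, ?_, ?_⟩
  · refine (P.dvd_card_of_dvd_card hdvd).trans ?_
    exact Subgroup.card_dvd_of_le hPH
  · intro g hg hd
    obtain ⟨x, hx⟩ := exists_prime_orderOf_dvd_card' p hd
    have hxo : orderOf (x : G) = p := by rw [Subgroup.orderOf_coe, hx]
    obtain ⟨h1, y, hy, hyx⟩ := x.2
    have hyx' : g * y * g⁻¹ = (x : G) := hyx
    have hyo : orderOf y = p := by
      rw [← hxo, ← hyx']
      exact (MulEquiv.orderOf_eq (MulAut.conj g) y).symm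
    have hf := fix_conj (Ω := Ω) g y
    rw [hyx', hfixH _ h1 hxo, hfixH y hy hyo] at hf
    exact hg (mem_stabilizer_iff.2 hf.symm)

end Cfsg.Agent.FixFour
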