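import Mathlib
import Cfsg.Prelude.Def_CaseTheorems
import Cfsg.Agent.SecRankFour.Basic
import Cfsg.Agent.S0501

/-!
A 2-group with an elementary abelian subgroup `E` of order 16 which contains a four-group `D` with
`C(d) = E` for `d ∈ D#` and `D` TI modulo `E` has sectional 2-rank at most four.
-/

set_option autoImplicit false
set_option linter.style.haveILetI false

namespace Cfsg.Agent.FixFour

open Subgroup Pointwise

universe u

namespace ESixteen

variable {P : Type u} [Group P]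

/-- The hypotheses on the pair `D ≤ E`. -/
structure Data (E D : Subgroup P) : Prop where
  le : D ≤ E
  comm : ∀ a ∈ E, ∀ b ∈ E, a * b = b * a
  sq : ∀ a ∈ E, a * a = 1
  card16 : Nat.card E = 16
  card4 : Nat.card D = 4
  cent : ∀ d ∈ D, d ≠ 1 → ∀ s : P, s * d = d * s → s ∈ E
  ti : ∀ g : P, ∀ d ∈ D, d ≠ 1 → g * d * g⁻¹ ∈ D → g ∈ E

theorem card_mul_card_le' [Finite P] (H K : Subgroup P) :
    Nat.card H * Nat.card K ≤ Nat.card (H ⊔ K : Subgroup P) * Nat.card (H ⊓ K : Subgroup P) := by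
  have h1 : Nat.card (H ⊓ K : Subgroup P) * (H ⊓ K).relIndex K = Nat.card K := by
    rw [← relIndex_bot_left, ← relIndex_bot_left, relIndex_mul_relIndex _ _ _ bot_le inf_le_right]
  have h2 : Nat.card H * H.relIndex (H ⊔ K) = Nat.card (H ⊔ K : Subgroup P) := by
    rw [← relIndex_bot_left, ← relIndex_bot_left, relIndex_mul_relIndex _ _ _ bot_le le_sup_left]
  have h3 : H.relIndex K ≤ H.relIndex (H ⊔ K) :=
    relIndex_le_of_le_right le_sup_right FiniteIndex.index_ne_zero
  rw [inf_relIndex_right] at h1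
  calc Nat.card H * Nat.card K
      = Nat.card H * (Nat.card (H ⊓ K : Subgroup P) * H.relIndex K) := by rw [h1]
    _ ≤ Nat.card H * (Nat.card (H ⊓ K : Subgroup P) * H.relIndex (H ⊔ K)) :=
        Nat.mul_le_mul le_rfl (Nat.mul_le_mul le_rfl h3)
    _ = _ := by rw [← h2]; ring

theorem two_group_le_sixtyfour [Finite P] (hP : IsPGroup 2 P) (N : Subgroup P) (h : Nat.card N ≤ 80) :
    Nat.card N ≤ 64 := by
  haveI : Fact (Nat.Prime 2) := ⟨Nat.prime_two⟩
  obtain ⟨k, hk⟩ := (hP.to_subgroup N).exists_card_eq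
  rw [hk] at h ⊢
  have hk7 : k < 7 := by
    by_contra hc
    have := Nat.pow_le_pow_right (show 0 < 2 by norm_num) (not_lt.1 hc)
    omega
  calc 2 ^ k ≤ 2 ^ 6 := Nat.pow_le_pow_right (by norm_num) (by omega)
    _ = 64 := by norm_num

variable {E D : Subgroup P} (h : Data E D)
include h

/-- the normalizer of `E` has order at most 64 -/
theorem card_normalizer_le [Finite P] (hP : IsPGroup 2 P) :
    Nat.card (normalizer (E : Set P)) ≤ 64 := by
  classical
  refine two_group_le_sixtyfour hP _ ?_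
  let Ds : Set P := (D : Set P) \ {1}
  let Es : Set P := (E : Set P) \ {1}
  have hDs : Nat.card Ds = 3 := by
    rw [Nat.card_coe_set_eq, Set.ncard_sdiff_singleton_of_mem (by exact D.one_mem), ← Nat.card_coe_set_eq,
      show Nat.card ↥(D : Set P) = 4 from h.card4]
  have hEs : Nat.card Es = 15 := by
    rw [Nat.card_coe_set_eq, Set.ncard_sdiff_singleton_of_mem (by exact E.one_mem), ← Nat.card_coe_set_eq,
      show Nat.card ↥(E : Set P) = 16 from h.card16]
  let img : ↥(normalizer (E : Set P)) × Ds → Es := fun q =>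
    ⟨(q.1 : P) * q.2 * (q.1 : P)⁻¹, (mem_normalizer_iff.1 q.1.2 _).1 (h.le q.2.2.1), fun e =>
      q.2.2.2 (conj_eq_one_iff.1 e)⟩
  let rep : Es → P := fun x => if hx : ∃ q, img q = x then ((hx.choose).1 : P) else 1
  have hrep : ∀ q, ∃ q', img q' = img q ∧ rep (img q) = (q'.1 : P) := fun q => by
    have hx : ∃ q', img q' = img q := ⟨q, rfl⟩
    exact ⟨hx.choose, hx.choose_spec, dif_pos hx⟩
  have hmem : ∀ q, (rep (img q))⁻¹ * (q.1 : P) ∈ E := fun q => by
    obtain ⟨q', hq', hr⟩ := hrep q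
    rw [hr]
    refine h.ti _ q.2 q.2.2.1 q.2.2.2 ?_
    have e : (q'.1 : P) * q'.2 * (q'.1 : P)⁻¹ = q.1 * q.2 * (q.1 : P)⁻¹ := congrArg Subtype.val hq'
    have e2 : (q'.1 : P)⁻¹ * q.1 * q.2 * ((q'.1 : P)⁻¹ * q.1)⁻¹ = q'.2 := by
      rw [show (q'.1 : P)⁻¹ * q.1 * q.2 * ((q'.1 : P)⁻¹ * q.1)⁻¹
        = (q'.1 : P)⁻¹ * (q.1 * q.2 * (q.1 : P)⁻¹) * q'.1 by group, ← e]
      group
    rw [e2]
    exact q'.2.2.1
  have hinj : Function.Injective fun q => (img q, (⟨(rep (img q))⁻¹ * (q.1 : P), hmem q⟩ : E)) := by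
    intro a b hab
    simp only [Prod.mk.injEq] at hab
    obtain ⟨h1, h2⟩ := hab
    have h2' : (rep (img a))⁻¹ * (a.1 : P) = (rep (img b))⁻¹ * (b.1 : P) := congrArg Subtype.val h2
    rw [h1] at h2'
    have hn : (a.1 : P) = b.1 := mul_left_cancel h2'
    have h3 : (a.1 : P) * a.2 * (a.1 : P)⁻¹ = b.1 * b.2 * (b.1 : P)⁻¹ := congrArg Subtype.val h1
    rw [hn] at h3
    exact Prod.ext (Subtype.ext hn) (Subtype.ext (mul_left_cancel (mul_right_cancel h3)))
  have hle := Nat.card_le_card_of_injective _ hinj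
  rw [Nat.card_prod, Nat.card_prod, hDs, hEs, h.card16] at hle
  omega

/-- no element outside `E` commutes with a subgroup of order at least 8 of `E` -/
theorem exists_mem_D [Finite P] (X : Subgroup P) (hX : X ≤ E) (hX8 : 8 ≤ Nat.card X) :
    ∃ d ∈ D, d ≠ 1 ∧ d ∈ X := by
  by_contra hne
  push Not at hne
  have hb : X ⊓ D = ⊥ := eq_bot_iff.2 fun d hd => by
    rw [mem_bot]
    by_contra hd1
    exact hne d hd.2 hd1 hd.1
  have h1 := card_mul_card_le' X D
  rw [hb, card_bot, h.card4] at h1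
  have h2 : Nat.card (X ⊔ D : Subgroup P) ≤ 16 := h.card16 ▸ card_le_of_le (sup_le hX h.le)
  omega

/-- the case that `E` is normal -/
theorem good_of_normal [Finite P] (hP : IsPGroup 2 P) (hN : normalizer (E : Set P) = ⊤) :
    SecRankFour.Good (⊤ : Subgroup P) := by
  haveI : Fact (Nat.Prime 2) := ⟨Nat.prime_two⟩
  have h64 : Nat.card P ≤ 64 := by
    have := card_normalizer_le h hP
    rwa [hN, card_top] at this
  intro K M _ hMK hn hsq
  by_contra hlt
  obtain ⟨i, hi⟩ := (hP.to_subgroup M).exists_card_eq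
  obtain ⟨j, hj⟩ := (hP.to_subgroup K).exists_card_eq
  have h32 : 32 * Nat.card M ≤ Nat.card K := by
    rw [hi, hj] at hlt ⊢
    have h' : 2 ^ (4 + i) < 2 ^ j := by rw [pow_add]; norm_num; omega
    have h'' : 4 + i < j := (Nat.pow_lt_pow_iff_right (by norm_num)).1 h'
    calc 32 * 2 ^ i = 2 ^ (5 + i) := by rw [pow_add]; norm_num
      _ ≤ 2 ^ j := Nat.pow_le_pow_right (by norm_num) (by omega)
  have hKP : Nat.card K ≤ Nat.card P := Nat.card_le_card_of_injective _ K.subtype_injective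
  have hMpos : 0 < Nat.card M := Nat.card_pos
  rcases (show Nat.card M = 1 ∨ Nat.card M = 2 by omega) with hM | hM
  · have hMb : M = ⊥ := eq_bot_of_card_eq M hM
    have hKc : ∀ a ∈ K, ∀ b ∈ K, a * b = b * a := fun a ha b hb => by
      have h1 := SecRankFour.comm_mem hMK hn hsq ha hb
      rw [hMb, mem_bot, mul_inv_eq_one, mul_inv_eq_iff_eq_mul] at h1
      exact h1
    have h1 := card_mul_card_le' K E
    have h2 : Nat.card (K ⊔ E : Subgroup P) ≤ Nat.card P :=
      Nat.card_le_card_of_injective _ (K ⊔ E : Subgroup P).subtype_injective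
    have h3 : Nat.card (K ⊔ E : Subgroup P) * Nat.card (K ⊓ E : Subgroup P)
        ≤ 64 * Nat.card (K ⊓ E : Subgroup P) := Nat.mul_le_mul_right _ (h2.trans h64)
    rw [h.card16] at h1
    obtain ⟨d, hd, hd1, hdK⟩ := exists_mem_D h (K ⊓ E) inf_le_right (by omega)
    have hKE : K ≤ E := fun s hs => h.cent d hd hd1 s (hKc s hs d hdK.1)
    have := card_le_of_le hKE
    rw [h.card16] at this
    omega
  · have hK : K = ⊤ := Subgroup.eq_top_of_card_eq K (by omega)
    obtain ⟨a, ha⟩ : ∃ a : P, a ∉ E := by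
      by_contra hall
      push Not at hall
      have : E = ⊤ := eq_top_iff.2 fun x _ => hall x
      have e := h.card16
      rw [this, card_top] at e
      omega
    have hm : ∀ d : D, a * (d : P) * a⁻¹ * (d : P)⁻¹ ∈ M := fun d =>
      SecRankFour.comm_mem hMK hn hsq (hK ▸ mem_top a) (hK ▸ mem_top _)
    have hinj : Function.Injective fun d : D => (⟨_, hm d⟩ : M) := by
      intro x y hxy
      by_contra hne
      have e : a * (x : P) * a⁻¹ * (x : P)⁻¹ = a * (y : P) * a⁻¹ * (y : P)⁻¹ := congrArg Subtype.val hxy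
      have hy' : (y : P)⁻¹ = y := inv_eq_of_mul_eq_one_right (h.sq _ (h.le y.2))
      have hx' : (x : P)⁻¹ = x := inv_eq_of_mul_eq_one_right (h.sq _ (h.le x.2))
      refine ha (h.cent ((y : P)⁻¹ * x) (mul_mem (inv_mem y.2) x.2) ?_ a ?_)
      · exact fun e1 => hne (Subtype.ext (inv_mul_eq_one.1 e1).symm)
      · have e2 : a * ((y : P)⁻¹ * x) * a⁻¹ = (y : P)⁻¹ * x := by
          calc a * ((y : P)⁻¹ * x) * a⁻¹
              = (a * (y : P) * a⁻¹)⁻¹ * (a * (x : P) * a⁻¹ * (x : P)⁻¹) * x := by group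
            _ = (a * (y : P) * a⁻¹)⁻¹ * (a * (y : P) * a⁻¹ * (y : P)⁻¹) * x := by rw [e]
            _ = (y : P)⁻¹ * x := by group
        exact mul_inv_eq_iff_eq_mul.1 e2
    have := Nat.card_le_card_of_injective _ hinj
    rw [h.card4, hM] at this
    omega

/-- the case that `E` is not normal: no normal elementary abelian subgroup of order 8 -/
theorem normal_le_four [Finite P] (hP : IsPGroup 2 P) (hN : normalizer (E : Set P) ≠ ⊤)
    (A : Subgroup P) (hA : A.Normal) (_hAc : IsMulCommutative A) (hA2 : ∀ a ∈ A, a ^ 2 = 1) :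
    Nat.card A ≤ 4 := by
  haveI : Fact (Nat.Prime 2) := ⟨Nat.prime_two⟩
  haveI := hP.isNilpotent
  set N : Subgroup P := normalizer (E : Set P) with hNdef
  obtain ⟨h₀, hh₀, hh₀N⟩ := SetLike.exists_of_lt
    (Group.normalizerCondition_of_isNilpotent (G := P) N (lt_top_iff_ne_top.2 hN))
  set E' : Subgroup P := E.map (MulAut.conj h₀).toMonoidHom with hE'
  have hEN : E ≤ N := le_normalizer
  have hmem' : ∀ x : P, x ∈ E' ↔ h₀⁻¹ * x * h₀ ∈ E := fun x => by
    rw [hE', mem_map]
    constructor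
    · rintro ⟨y, hy, rfl⟩
      simpa [mul_assoc] using hy
    · intro hx
      exact ⟨_, hx, by simp [mul_assoc]⟩
  have hE'N : E' ≤ N := fun x hx => by
    have := (mem_normalizer_iff.1 hh₀ _).1 (hEN ((hmem' x).1 hx))
    simpa [mul_assoc] using this
  have hE'16 : Nat.card E' = 16 := by
    rw [hE', card_map_of_injective (MulAut.conj h₀).injective]
    exact h.card16
  have hE'c : ∀ a ∈ E', ∀ b ∈ E', a * b = b * a := fun a ha b hb => by
    have := h.comm _ ((hmem' a).1 ha) _ ((hmem' b).1 hb)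
    have e : ∀ u v : P, h₀⁻¹ * u * h₀ * (h₀⁻¹ * v * h₀) = h₀⁻¹ * (u * v) * h₀ := fun u v => by group
    rw [e, e] at this
    exact mul_left_cancel (mul_right_cancel this)
  have hne : ¬ E' ≤ E := fun hle => hh₀N (by
    refine mem_normalizer_fintype fun x hx => hle ?_
    rw [hmem']
    simpa [mul_assoc] using hx)
  set B : Subgroup P := E ⊓ E' with hB
  have hBD : ∀ d ∈ D, d ≠ 1 → d ∉ E' := fun d hd hd1 hdE' =>
    hne fun s hs => h.cent d hd hd1 s (hE'c s hs d hdE')
  have hBbot : B ⊓ D = ⊥ := eq_bot_iff.2 fun d hd => by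
    rw [mem_bot]
    by_contra hd1
    exact hBD d hd.2 hd1 hd.1.2
  have h64 : Nat.card N ≤ 64 := card_normalizer_le h hP
  have hsupN : Nat.card (E ⊔ E' : Subgroup P) ≤ Nat.card N := card_le_of_le (sup_le hEN hE'N)
  have h1 := card_mul_card_le' E E'
  have h2 := card_mul_card_le' B D
  rw [h.card16, hE'16] at h1
  rw [hBbot, card_bot, h.card4] at h2
  have h3 : Nat.card (B ⊔ D : Subgroup P) ≤ 16 := h.card16 ▸ card_le_of_le (sup_le inf_le_left h.le)
  have h5 : Nat.card (E ⊔ E' : Subgroup P) * Nat.card B ≤ 64 * Nat.card B :=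
    Nat.mul_le_mul_right _ (hsupN.trans h64)
  have h6 : Nat.card (E ⊔ E' : Subgroup P) * Nat.card (E ⊓ E' : Subgroup P)
      = Nat.card (E ⊔ E' : Subgroup P) * Nat.card B := rfl
  have hB4 : Nat.card B = 4 := by omega
  have hNeq : N = E ⊔ E' := by
    refine (Subgroup.eq_of_le_of_card_ge (sup_le hEN hE'N) ?_).symm
    rw [← hB, hB4] at h1
    omega
  -- the involutions of `N` lie in `E ∪ E'`
  have hinv : ∀ y ∈ N, y * y = 1 → y ∈ E ∨ y ∈ E' := by
    intro y hy hy2
    have hset := coe_mul_of_right_le_normalizer_left E E' hE'N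
    have hy' : y ∈ (↑(E ⊔ E' : Subgroup P) : Set P) := hNeq ▸ hy
    rw [hset] at hy'
    obtain ⟨e, he, f, hf, rfl⟩ := Set.mem_mul.1 hy'
    by_contra hcon
    push Not at hcon
    have hef : f * e = e * f := by
      have e1 : f * e * f = e := by
        have e0 : e⁻¹ = e := inv_eq_of_mul_eq_one_right (h.sq e he)
        calc f * e * f = e⁻¹ * (e * f * (e * f)) := by group
          _ = e := by rw [hy2, mul_one, e0]
      have f2 : f * f = 1 := by
        have := h.sq _ ((hmem' f).1 hf)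
        rw [show h₀⁻¹ * f * h₀ * (h₀⁻¹ * f * h₀) = h₀⁻¹ * (f * f) * h₀ by group] at this
        rwa [mul_eq_one_iff_eq_inv, inv_mul_eq_iff_eq_mul, mul_inv_cancel] at this
      calc f * e = f * e * (f * f) := by rw [f2, mul_one]
        _ = e * f := by rw [← mul_assoc, e1]
    have hfE : f ∉ E := fun hfE => hcon.1 (E.mul_mem he hfE)
    -- `e` centralises `f`, so lies in `B`
    have heB : e ∈ E' := by
      have hsup : e ∈ B ⊔ D := by
        have : B ⊔ D = E := Subgroup.eq_of_le_of_card_ge (sup_le inf_le_left h.le) (by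
          rw [h.card16]; omega)
        rwa [this]
      have hset2 := coe_mul_of_left_le_normalizer_right B D (fun b hb => mem_normalizer_fintype fun d hd => by
        rw [h.comm b (inf_le_left (b := E') hb) d (h.le hd), mul_inv_cancel_right]
        exact hd)
      have hsup' : e ∈ (↑(B ⊔ D : Subgroup P) : Set P) := hsup
      rw [hset2] at hsup'
      obtain ⟨b, hb, d, hd, rfl⟩ := Set.mem_mul.1 hsup'
      by_cases hd1 : d = 1
      · rw [hd1, mul_one]
        exact hb.2
      refine absurd (h.cent d hd hd1 f ?_) hfE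
      have hfb : f * b = b * f := hE'c f hf b hb.2
      calc f * d = b⁻¹ * (b * f) * d := by group
        _ = b⁻¹ * (f * (b * d)) := by rw [← hfb]; group
        _ = d * f := by rw [hef]; group
    exact hcon.2 (E'.mul_mem heB hf)
  have hAsq : ∀ a ∈ A, a * a = 1 := fun a ha => by rw [← pow_two]; exact hA2 a ha
  have hcases : A ⊓ N ≤ E ∨ A ⊓ N ≤ E' := by
    by_contra hcon
    push Not at hcon
    obtain ⟨⟨x, hx, hxE⟩, ⟨y, hy, hyE⟩⟩ :=
      And.intro (SetLike.not_le_iff_exists.1 hcon.1) (SetLike.not_le_iff_exists.1 hcon.2)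
    have hxE' := (hinv x hx.2 (hAsq x hx.1)).resolve_left hxE
    have hyE' := (hinv y hy.2 (hAsq y hy.1)).resolve_right hyE
    rcases hinv _ (mul_mem hx.2 hy.2) (hAsq _ (mul_mem hx.1 hy.1)) with q | q
    · exact hxE ((Subgroup.mul_mem_cancel_right E hyE').1 q)
    · exact hyE ((Subgroup.mul_mem_cancel_left E' hxE').1 q)
  have hconj : ∀ x ∈ A ⊓ N, h₀ * x * h₀⁻¹ ∈ A ⊓ N ∧ h₀⁻¹ * x * h₀ ∈ A ⊓ N := fun x hx =>
    ⟨⟨hA.conj_mem x hx.1 h₀, (mem_normalizer_iff.1 hh₀ x).1 hx.2⟩,
      ⟨by simpa using hA.conj_mem x hx.1 h₀⁻¹, (mem_normalizer_iff''.1 hh₀ x).1 hx.2⟩⟩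
  have hAB : A ⊓ N ≤ B := by
    intro x hx
    rcases hcases with q | q
    · exact ⟨q hx, (hmem' x).2 (q (hconj x hx).2)⟩
    · refine ⟨?_, q hx⟩
      have := (hmem' _).1 (q (hconj x hx).1)
      simpa [mul_assoc] using this
  have hAN : A ≤ N := by
    intro a ha
    obtain ⟨d, hd, hd1⟩ := D.bot_or_exists_ne_one.resolve_left fun e => by
      have := h.card4
      rw [e, card_bot] at this
      omega
    have hd' : d⁻¹ = d := inv_eq_of_mul_eq_one_right (h.sq d (h.le hd))
    have ha' : a⁻¹ = a := inv_eq_of_mul_eq_one_right (hAsq a ha)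
    set c := a * d * a⁻¹ * d with hc
    have hcA : c ∈ A := by
      rw [hc, mul_assoc (a * d), mul_assoc a d, ← mul_assoc d]
      refine mul_mem ha ?_
      have := hA.conj_mem _ (inv_mem ha) d
      rwa [hd'] at this
    have hcd : c * d = d * c := by
      have h1 := hAsq c hcA
      calc c * d = a * d * a⁻¹ * (d * d) := by rw [hc]; group
        _ = a * d * a⁻¹ := by rw [h.sq d (h.le hd), mul_one]
        _ = d * (d⁻¹ * a * d * a⁻¹ * d * d⁻¹) := by group
        _ = d * (d * a * d * a⁻¹ * (d * d)) := by rw [hd']; group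
        _ = d * c⁻¹ := by rw [h.sq d (h.le hd), hc]; simp [mul_assoc, hd', ha']
        _ = d * c := by rw [inv_eq_of_mul_eq_one_right h1]
    have hcE : c ∈ E := h.cent d hd hd1 c hcd
    have hcd' : a * d * a⁻¹ ∈ E := by
      have := E.mul_mem hcE (h.le hd)
      rwa [hc, mul_assoc (a * d * a⁻¹), h.sq d (h.le hd), mul_one] at this
    refine mem_normalizer_fintype fun e he => ?_
    -- `E = C(d)`, so `a⁻¹ E a ⊆ E`
    have key : ∀ x ∈ E, a⁻¹ * x * a ∈ E := fun x hx => h.cent d hd hd1 _ (by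
      have := h.comm x hx _ hcd'
      calc a⁻¹ * x * a * d = a⁻¹ * (x * (a * d * a⁻¹)) * a := by group
        _ = a⁻¹ * (a * d * a⁻¹ * x) * a := by rw [this]
        _ = d * (a⁻¹ * x * a) := by group)
    have := key e he
    rwa [ha'] at this ⊢
  have : A ≤ B := fun a ha => hAB ⟨ha, hAN ha⟩
  exact hB4 ▸ card_le_of_le this

/-- the type version of the bound -/
theorem sectional [Finite P] (hP : IsPGroup 2 P) : Cfsg.SectionalPRankLE 2 4 P := by
  haveI : Fact (Nat.Prime 2) := ⟨Nat.prime_two⟩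
  by_cases hN : normalizer (E : Set P) = ⊤
  · obtain ⟨Q, hQ⟩ := (hP.to_subgroup (⊤ : Subgroup P)).exists_le_sylow
    refine SecRankFour.sectional_of_good Q ?_
    rw [eq_top_iff.2 hQ]
    exact good_of_normal h hP hN
  · exact Cfsg.Agent.S0501.result hP (normal_le_four h hP hN)

end ESixteen

/-- A 2-group `S` containing an elementary abelian `E` of order 16 and a four-subgroup `D ≤ E` with
`C_S(d) ≤ E` for `d ∈ D#` and `D` TI modulo `E` has sectional rank at most four. -/
theorem e16_bound {G : Type u} [Group G] [Finite G] (S : Subgroup G) (hS : IsPGroup 2 S)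
    (E D : Subgroup G) (hES : E ≤ S) (hDE : D ≤ E) (hEc : ∀ a ∈ E, ∀ b ∈ E, a * b = b * a)
    (hE2 : ∀ a ∈ E, a * a = 1) (hE16 : Nat.card E = 16) (hD4 : Nat.card D = 4)
    (hcent : ∀ d ∈ D, d ≠ 1 → ∀ s ∈ S, s * d = d * s → s ∈ E)
    (hTI : ∀ g ∈ S, ∀ d ∈ D, d ≠ 1 → g * d * g⁻¹ ∈ D → g ∈ E) :
    Cfsg.SectionalPRankLE 2 4 S := by
  refine ESixteen.sectional (E := E.subgroupOf S) (D := D.subgroupOf S) ⟨?_, ?_, ?_, ?_, ?_, ?_, ?_⟩ hS
  · exact fun x hx => hDE hx
  · exact fun a ha b hb => Subtype.ext (hEc _ ha _ hb)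
  · exact fun a ha => Subtype.ext (hE2 _ ha)
  · rw [Nat.card_congr (subgroupOfEquivOfLe hES).toEquiv, hE16]
  · rw [Nat.card_congr (subgroupOfEquivOfLe (hDE.trans hES)).toEquiv, hD4]
  · exact fun d hd hd1 s e => hcent _ hd (fun q => hd1 (Subtype.ext q)) _ s.2 (congrArg Subtype.val e)
  · exact fun g d hd hd1 e => hTI _ g.2 _ hd (fun q => hd1 (Subtype.ext q)) e

end Cfsg.Agent.FixFour
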