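import Cfsg.Agent.FixFour.TwoGrp
import Cfsg.Agent.FixFour.ESixteen

/-!
# Fixity four: an involution whose fixed set is moved by the Sylow subgroup
-/

set_option autoImplicit false

namespace Cfsg.Agent.FixFour

open MulAction Pointwise Subgroup

universe u v

variable {G : Type u} [Group G] {Ω : Type v} [MulAction G Ω]

theorem eq_of_two {C : Subgroup G} [Finite G] (h : Nat.card C = 2) {x y : G} (hx : x ∈ C) (hy : y ∈ C)
    (hx1 : x ≠ 1) (hy1 : y ≠ 1) : x = y := by
  by_contra hne
  classical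
  have h3 : ({1, x, y} : Finset G).card = 3 := by
    rw [Finset.card_insert_of_notMem, Finset.card_pair hne]
    simp [hx1.symm, hy1.symm]
  have hle : ({1, x, y} : Finset G).card ≤ Nat.card C := by
    rw [← Nat.card_eq_finsetCard]
    refine Nat.card_le_card_of_injective (fun w => (⟨w.1, ?_⟩ : C))
      fun a b e => Subtype.ext (congrArg (fun c : C => (c : G)) e)
    have := w.2
    simp only [Finset.mem_insert, Finset.mem_singleton] at this
    rcases this with h | h | h <;> rw [h]
    · exact one_mem C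
    · exact hx
    · exact hy
  omega

/-- An element inverting its own square action on a group of order four fixes exactly two elements, unless it
centralises it. -/
theorem fix_card_two [Finite G] {T : Subgroup G} (h4 : Nat.card T = 4) (e : G)
    (hn : ∀ a ∈ T, e * a * e⁻¹ ∈ T) (h2 : ∀ a ∈ T, e * (e * a * e⁻¹) * e⁻¹ = a)
    (hne : ¬ ∀ a ∈ T, e * a * e⁻¹ = a) :
    Nat.card ↥(T ⊓ centralizer ({e} : Set G)) = 2 := by
  classical
  have : Fact (Nat.Prime 2) := ⟨Nat.prime_two⟩
  have hmem : ∀ a : G, a ∈ T ⊓ centralizer ({e} : Set G) ↔ a ∈ T ∧ e * a * e⁻¹ = a := fun a => by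
    rw [mem_inf, mem_centralizer_singleton_iff, mul_inv_eq_iff_eq_mul, eq_comm (a := a * e)]
  have hd : Nat.card ↥(T ⊓ centralizer ({e} : Set G)) ∣ 4 := h4 ▸ card_dvd_of_le inf_le_left
  have h1 : Nat.card ↥(T ⊓ centralizer ({e} : Set G)) ≠ 1 := by
    intro h1
    have hbot := card_eq_one.1 h1
    letI := Fintype.ofFinite T
    let σ : Equiv.Perm T :=
      { toFun := fun a => ⟨e * a * e⁻¹, hn a a.2⟩
        invFun := fun a => ⟨e * a * e⁻¹, hn a a.2⟩
        left_inv := fun a => Subtype.ext (h2 a a.2)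
        right_inv := fun a => Subtype.ext (h2 a a.2) }
    have hσ : σ ^ 2 ^ 1 = 1 := Equiv.ext fun a => by
      rw [pow_one, pow_two]; exact Subtype.ext (h2 a a.2)
    have hsupp : σ.supportᶜ = {1} := by
      ext a
      simp only [Finset.mem_compl, Equiv.Perm.mem_support, Finset.mem_singleton, not_not]
      refine ⟨fun ha => Subtype.ext ?_, fun ha => Subtype.ext (by simp [ha, σ])⟩
      have : (a : G) ∈ (⊥ : Subgroup G) := hbot ▸ (hmem a).2 ⟨a.2, congrArg Subtype.val ha⟩
      exact this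
    have := Equiv.Perm.card_compl_support_modEq hσ
    rw [hsupp, Finset.card_singleton, ← Nat.card_eq_fintype_card, h4] at this
    exact absurd this (by decide)
  have h4' : Nat.card ↥(T ⊓ centralizer ({e} : Set G)) ≠ 4 := fun h => hne fun a ha => by
    have hT := Subgroup.eq_of_le_of_card_ge (inf_le_left : T ⊓ centralizer ({e} : Set G) ≤ T) (by rw [h, h4])
    exact ((hmem a).1 (hT.symm ▸ ha)).2
  have := Nat.le_of_dvd (by norm_num) hd
  interval_cases hk : Nat.card ↥(T ⊓ centralizer ({e} : Set G)) <;> first | rfl | omega | simp_all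

theorem exists_twist {T : Subgroup G} [Finite G] (h4 : Nat.card T = 4) (hT : ∀ a ∈ T, a * a = 1) (e : G)
    (hn : ∀ a ∈ T, e * a * e⁻¹ ∈ T) (h2 : ∀ a ∈ T, e * (e * a * e⁻¹) * e⁻¹ = a)
    (hne : ¬ ∀ a ∈ T, e * a * e⁻¹ = a) {a : G} (ha : a ∈ T) (hae : e * a * e⁻¹ = a) :
    ∃ x ∈ T, x * (e * x * e⁻¹) = a := by
  by_cases h1 : a = 1
  · exact ⟨1, one_mem _, by simp [h1]⟩
  push Not at hne
  obtain ⟨x, hxT, hx⟩ := hne
  have hc := comm_of_sq T hT
  have hcard := fix_card_two h4 e hn h2 (fun h => hx (h x hxT))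
  refine ⟨x, hxT, eq_of_two hcard ⟨mul_mem hxT (hn x hxT), ?_⟩ ⟨ha, ?_⟩ ?_ h1⟩
  · refine mem_centralizer_singleton_iff.2 ?_
    have h5 : e * (x * (e * x * e⁻¹)) * e⁻¹ = x * (e * x * e⁻¹) := by
      rw [show e * (x * (e * x * e⁻¹)) * e⁻¹ = (e * x * e⁻¹) * (e * (e * x * e⁻¹) * e⁻¹) by group,
        h2 x hxT, hc x hxT _ (hn x hxT)]
    exact (mul_inv_eq_iff_eq_mul.1 h5).symm
  · exact mem_centralizer_singleton_iff.2 (mul_inv_eq_iff_eq_mul.1 hae).symm
  · intro e1
    exact hx ((inv_eq_of_mul_eq_one_right e1).symm.trans (inv_eq_of_mul_eq_one_right (hT x hxT)))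

theorem exists_ne_of_card_two {C : Subgroup G} (h : Nat.card C = 2) : ∃ a ∈ C, a ≠ 1 := by
  by_contra hc
  push Not at hc
  rw [show C = ⊥ from eq_bot_iff.2 fun a ha => mem_bot.2 (hc a ha), card_bot] at h
  omega

theorem not_subset_exists {P U : Subgroup G} (h : ¬ P ≤ U) : ∃ e ∈ P, e ∉ U := SetLike.not_le_iff_exists.1 h

theorem fix_of_mem [Finite Ω] (h : Ctx G Ω) {Q : Set Ω} (h4 : Nat.card Q = 4) {x : G}
    (hx : x ∈ pointStab Q) (h1 : x ≠ 1) : fixedBy Ω x = Q :=
  h.fix_eq h1 (fun a ha => mem_pointStab.1 hx a ha) h4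

/-- Case I. -/
theorem case_one [Finite G] [Finite Ω] (h : Ctx G Ω)
    (S : Sylow 2 G) {t : G} (htS : t ∈ (S : Subgroup G)) (ht : orderOf t = 2)
    (hQ : Nat.card (fixedBy Ω t) = 4) (hH : ¬ (S : Subgroup G) ≤ stabilizer G (fixedBy Ω t)) :
    Cfsg.SectionalPRankLE 2 4 ↥(S : Subgroup G) := by
  have : Fact (Nat.Prime 2) := ⟨Nat.prime_two⟩
  have ht1 : t ≠ 1 := fun e => by rw [e, orderOf_one] at ht; omega
  set Q := fixedBy Ω t with hQdef
  set P := (S : Subgroup G) ⊓ stabilizer G Q with hP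
  have hPS : P ≤ (S : Subgroup G) := inf_le_left
  have hPQ : P ≤ stabilizer G Q := inf_le_right
  set T := (S : Subgroup G) ⊓ pointStab Q with hT
  have hTP : T ≤ P := inf_le_inf_left _ (pointStab_le Q)
  have htT : t ∈ T := ⟨htS, mem_pointStab.2 fun a ha => ha⟩
  have hfT : ∀ x ∈ T, x ≠ 1 → fixedBy Ω x = Q := fun x hx => fix_of_mem h hQ hx.2
  have hcT : ∀ a ∈ T, a ≠ 1 → ∀ s ∈ (S : Subgroup G), a * s = s * a → s ∈ P := fun a ha ha1 s hs e =>
    ⟨hs, mem_stabilizer_iff.2 (by rw [← hfT a ha ha1]; exact smul_fix_of_comm e.symm)⟩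
  have hnT : ∀ s ∈ P, ∀ a ∈ T, s * a * s⁻¹ ∈ T := fun s hs a ha =>
    mem_inf.2 ⟨mul_mem (mul_mem (hPS hs) (mem_inf.1 ha).1) (inv_mem (hPS hs)),
      normal_pointStab (hPQ hs) (mem_inf.1 ha).2⟩
  obtain ⟨g, hgS, hgn, hgP⟩ : ∃ g ∈ (S : Subgroup G), g ∈ normalizer (P : Set G) ∧ g ∉ P := by
    haveI : Group.IsNilpotent (S : Subgroup G) := S.2.isNilpotent
    have hlt : P.subgroupOf S < ⊤ := lt_top_iff_ne_top.2 fun e => hH (by
      rw [subgroupOf_eq_top] at e
      exact e.trans inf_le_right)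
    obtain ⟨g, hg, hgP⟩ := SetLike.exists_of_lt (Group.normalizerCondition_of_isNilpotent _ hlt)
    refine ⟨g, g.2, mem_normalizer_iff.2 fun x => ?_, fun e => hgP (mem_subgroupOf.2 e)⟩
    constructor
    · intro hx
      exact (mem_normalizer_iff.1 hg ⟨x, hPS hx⟩).1 hx
    · intro hx
      have hxS : x ∈ (S : Subgroup G) := by
        have := mul_mem (mul_mem (inv_mem g.2) (hPS hx)) g.2
        simpa [mul_assoc] using this
      exact (mem_normalizer_iff.1 hg ⟨x, hxS⟩).2 hx
  have hgQ : g • Q ≠ Q := fun e => hgP ⟨hgS, mem_stabilizer_iff.2 e⟩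
  have hgPP : ∀ x ∈ P, g * x * g⁻¹ ∈ P := fun x hx => (mem_normalizer_iff.1 hgn x).1 hx
  have hgPP' : ∀ x ∈ P, g⁻¹ * x * g ∈ P := fun x hx =>
    (mem_normalizer_iff.1 hgn _).2 (by rwa [show g * (g⁻¹ * x * g) * g⁻¹ = x by group])
  set T' := T.map (MulAut.conj g).toMonoidHom with hT'
  have hmT' : ∀ x, x ∈ T' ↔ ∃ a ∈ T, g * a * g⁻¹ = x := fun x => mem_map
  have hTP' : T' ≤ P := fun x hx => by
    obtain ⟨a, ha, rfl⟩ := (hmT' x).1 hx
    exact hgPP a (hTP ha)
  have hfT' : ∀ x ∈ T', x ≠ 1 → fixedBy Ω x = g • Q := fun x hx hx1 => by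
    obtain ⟨a, ha, rfl⟩ := (hmT' x).1 hx
    rw [fix_conj, hfT a ha (fun e => hx1 (by rw [e]; simp))]
  have hdisj : ∀ x ∈ T, x ∈ T' → x = 1 := fun x hx hx' => by
    by_contra hx1
    exact hgQ (by rw [← hfT' x hx' hx1, hfT x hx hx1])
  have hnT' : ∀ s ∈ P, ∀ a ∈ T', s * a * s⁻¹ ∈ T' := fun s hs x hx => by
    obtain ⟨a, ha, rfl⟩ := (hmT' x).1 hx
    exact (hmT' _).2 ⟨(g⁻¹ * s * g) * a * (g⁻¹ * s * g)⁻¹, hnT _ (hgPP' s hs) a ha, by group⟩
  have hcomm : ∀ a ∈ T, ∀ b ∈ T', a * b = b * a := by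
    intro a ha b hb
    have h1 : a * b * a⁻¹ * b⁻¹ ∈ T := by
      rw [show a * b * a⁻¹ * b⁻¹ = a * (b * a⁻¹ * b⁻¹) by group]
      exact mul_mem ha (hnT b (hTP' hb) _ (inv_mem ha))
    have h2 : a * b * a⁻¹ * b⁻¹ ∈ T' := mul_mem (hnT' a (hTP ha) b hb) (inv_mem hb)
    exact commutatorElement_eq_one_iff_mul_comm.1 (hdisj _ h1 h2)
  have hSP := S.2
  have hPp : IsPGroup 2 P := hSP.to_le hPS
  have hcT' : Nat.card T' = Nat.card T := card_map_of_injective (MulAut.conj g).injective
  have hTcard : Nat.card T = 2 ∨ Nat.card T = 4 := by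
    have h2 : 2 ≤ Nat.card T := by
      rw [← ht, ← Nat.card_zpowers]
      exact card_le_of_le (zpowers_le.2 htT)
    rcases small_on hQ (by rw [card_smul, hQ]) hgQ (hSP.to_le (hTP'.trans hPS)) (hTP'.trans hPQ) hfT'
      with hs | hs
    · omega
    · rw [hcT'] at hs
      have := Nat.le_of_dvd (by norm_num) hs
      interval_cases Nat.card T <;> omega
  obtain ⟨j, hj3, hj⟩ := relIndex_pow hQ hPp hPQ
  have hcardP : Nat.card P = Nat.card T * 2 ^ j := by
    have heq : pointStab Q ⊓ P = T := by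
      rw [hP, hT, ← inf_assoc, inf_comm (pointStab Q), inf_assoc, inf_eq_left.2 (pointStab_le Q)]
    rw [← hj, ← heq, ← inf_relIndex_right,
      ← Nat.card_congr (subgroupOfEquivOfLe (inf_le_right : pointStab Q ⊓ P ≤ P)).toEquiv]
    exact ((pointStab Q ⊓ P).subgroupOf P).card_mul_index.symm
  have habel : (∀ a ∈ P, ∀ b ∈ P, a * b = b * a) → Nat.card P ≤ Nat.card T * 4 := fun hc => by
    have := relIndex_abelian hQ hPp hPQ hc
    rw [hj] at this
    rw [hcardP]
    exact Nat.mul_le_mul_left _ this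
  rcases hTcard with hT2 | hT4
  · -- `T` of order two
    have htc : ∀ s ∈ P, t * s = s * t := fun s hs => by
      have := eq_of_two hT2 (hnT s hs t htT) htT (fun e => ht1 (conj_eq_one_iff.1 e)) ht1
      exact (mul_inv_eq_iff_eq_mul.1 this).symm
    refine (em _).resolve_right fun hno => ?_
    have hex : ∃ A : Subgroup G, A ≤ (S : Subgroup G) ∧ (∀ g ∈ (S : Subgroup G), ∀ a ∈ A, g * a * g⁻¹ ∈ A) ∧
        (∀ a ∈ A, a * a = 1) ∧ 4 < Nat.card A := by
      by_contra hc
      push Not at hc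
      exact hno (sec_of_no_normal _ hSP fun A h1 h2 _ h4 => hc A h1 h2 h4)
    obtain ⟨A, hA1, hA2, hA3, hA4⟩ := hex
    obtain ⟨E, hE, htE, hE2, hE8⟩ := exists_elem_ge _ hSP htS ht A hA1 hA2 hA3 hA4
    have hEP : E ≤ P := fun x hx =>
      hcT t htT ht1 x (hE hx).1 (mem_centralizer_singleton_iff.1 (hE hx).2).symm
    have hP16 : Nat.card P ≤ 16 := by
      rw [hcardP, hT2]
      calc 2 * 2 ^ j ≤ 2 * 2 ^ 3 := Nat.mul_le_mul_left _ (Nat.pow_le_pow_right two_pos hj3)
        _ = 16 := rfl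
    have hEc := comm_of_sq E hE2
    have hnab : ¬ ∀ a ∈ P, ∀ b ∈ P, a * b = b * a := fun hc => by
      have h8 : Nat.card P ≤ 8 := by
        have := habel (fun a ha b hb => hc a ha b hb)
        omega
      have hEP' : E = P := Subgroup.eq_of_le_of_card_ge hEP (by omega)
      refine hno (sec_of_self_cent _ hSP E (hEP.trans hPS) hEc hE2 (by
        have := card_le_of_le hEP; omega) fun s hs hsc => ?_)
      rw [hEP']
      exact hcT t htT ht1 s hs (hsc t htE)
    obtain ⟨k, hk⟩ := two_pow_card hPp hEP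
    have hk4 : k = 3 := by
      have h16 : Nat.card E ≤ 16 := (card_le_of_le hEP).trans hP16
      rw [hk] at h16 hE8
      have hlt : k < 5 := by
        by_contra hc
        have := Nat.pow_le_pow_right two_pos (not_lt.1 hc)
        omega
      interval_cases k <;> first | rfl | omega | skip
      refine absurd (fun a ha b hb => hEc a ?_ b ?_) hnab
      · rw [Subgroup.eq_of_le_of_card_ge hEP (by omega)]; exact ha
      · rw [Subgroup.eq_of_le_of_card_ge hEP (by omega)]; exact hb
    subst hk4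
    refine hno (sec_of_self_cent _ hSP E (hEP.trans hPS) hEc hE2 hk fun s hs hsc => ?_)
    by_contra hsE
    have hsP : s ∈ P := hcT t htT ht1 s hs (hsc t htE)
    set C := P ⊓ centralizer (E : Set G) with hC
    have hEC : E ≤ C := fun x hx => mem_inf.2 ⟨hEP hx, mem_centralizer_iff.2 fun y hy => hEc y hy x hx⟩
    have hsC : s ∈ C := mem_inf.2 ⟨hsP, mem_centralizer_iff.2 fun y hy => hsc y hy⟩
    obtain ⟨k', hk'⟩ := two_pow_card hPp (show C ≤ P from inf_le_left)
    have hlt : Nat.card E < Nat.card C := by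
      refine lt_of_le_of_ne (card_le_of_le hEC) fun e => hsE ?_
      rw [Subgroup.eq_of_le_of_card_ge hEC e.ge]; exact hsC
    have hCP : C = P := by
      refine Subgroup.eq_of_le_of_card_ge inf_le_left ?_
      rw [hk, hk'] at hlt
      rw [hk']
      have h4k : 4 ≤ k' := by
        by_contra hc
        have := Nat.pow_le_pow_right two_pos (show k' ≤ 3 by omega)
        omega
      exact hP16.trans ((Nat.pow_le_pow_right two_pos h4k).trans' (by norm_num))
    have hcen : ∀ x ∈ E, ∀ p ∈ P, x * p = p * x := fun x hx p hp =>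
      mem_centralizer_iff.1 (mem_inf.1 (hCP.symm ▸ hp : p ∈ C)).2 x hx
    have hidx : (E.subgroupOf P).index = 2 := by
      have h1 := (E.subgroupOf P).card_mul_index
      rw [Nat.card_congr (subgroupOfEquivOfLe hEP).toEquiv, hk] at h1
      have h2 := card_le_of_le (inf_le_left : C ≤ P)
      rw [hk, hCP] at hlt
      norm_num at h1 hlt
      omega
    refine hnab fun a ha b hb => ?_
    by_cases haE : a ∈ E
    · exact hcen a haE b hb
    by_cases hbE : b ∈ E
    · exact (hcen b hbE a ha).symm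
    have hm := (mul_mem_iff_of_index_two hidx (a := ⟨a⁻¹, inv_mem ha⟩) (b := ⟨b, hb⟩)).2
      (iff_of_false (fun e => haE (by simpa using inv_mem (mem_subgroupOf.1 e)))
        (fun e => hbE (mem_subgroupOf.1 e)))
    rw [mem_subgroupOf] at hm
    have h5 := hcen _ hm a ha
    simp only [coe_mul] at h5
    calc a * b = a * (a * (a⁻¹ * b)) := by group
      _ = a * (a⁻¹ * b * a) := by rw [h5]
      _ = b * a := by group
  · -- `T` of order four
    have habT : ∀ (W : Subgroup G), Nat.card W = 4 → ∀ a ∈ W, ∀ b ∈ W, a * b = b * a := fun W hW a ha b hb =>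
      congrArg Subtype.val ((IsPGroup.isMulCommutative_of_card_eq_prime_sq (p := 2) (G := W) hW).is_comm.comm
        ⟨a, ha⟩ ⟨b, hb⟩)
    have habT1 := habT T hT4
    have hT4' : Nat.card T' = 4 := by rw [hcT', hT4]
    have habT2 := habT T' hT4'
    set U := commSup T T' hcomm with hU
    have hUP : U ≤ P := commSup_le hTP hTP'
    have hUcard : Nat.card U = 16 := by rw [hU, card_commSup hcomm hdisj, hT4, hT4']
    have hUc : ∀ a ∈ U, ∀ b ∈ U, a * b = b * a := commSup_comm habT1 habT2
    have hcT'' : ∀ b ∈ T', b ≠ 1 → ∀ s ∈ (S : Subgroup G), b * s = s * b → s ∈ P := by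
      intro b hb hb1 s hs e
      obtain ⟨a, ha, rfl⟩ := (hmT' b).1 hb
      have := hcT a ha (fun e' => hb1 (by rw [e']; simp)) (g⁻¹ * s * g)
        (mul_mem (mul_mem (inv_mem hgS) hs) hgS) (by
        calc a * (g⁻¹ * s * g) = g⁻¹ * (g * a * g⁻¹ * s) * g := by group
          _ = g⁻¹ * (s * (g * a * g⁻¹)) * g := by rw [e]
          _ = g⁻¹ * s * g * a := by group)
      have h2 := hgPP _ this
      rwa [show g * (g⁻¹ * s * g) * g⁻¹ = s by group] at h2
    by_cases hexp : (∀ a ∈ T, a * a = 1) ∧ P ≤ U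
    · refine e16_bound _ hSP U T (hUP.trans hPS) (commSup_left hcomm) hUc
        (commSup_sq hexp.1 fun b hb => ?_) hUcard hT4
        (fun d hd hd1 s hs e => hexp.2 (hcT d hd hd1 s hs e.symm)) (fun k hk d hd hd1 hkd => hexp.2 ?_)
      · obtain ⟨a, ha, rfl⟩ := (hmT' b).1 hb
        rw [show g * a * g⁻¹ * (g * a * g⁻¹) = g * (a * a) * g⁻¹ by group, hexp.1 a ha]
        group
      · refine mem_inf.2 ⟨hk, mem_stabilizer_iff.2 ?_⟩
        have h2 := fix_conj (Ω := Ω) k d
        rw [hfT _ hkd (fun e => hd1 (conj_eq_one_iff.1 e)), hfT d hd hd1] at h2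
        exact h2.symm
    have hidx : ∀ x ∈ P, ∀ y ∈ P, x ∉ U → y ∉ U → x * y ∈ U := by
      intro x hx y hy hxU hyU
      have hlt : Nat.card U < Nat.card P := lt_of_le_of_ne (card_le_of_le hUP) fun e =>
        hxU (by rw [Subgroup.eq_of_le_of_card_ge hUP e.ge]; exact hx)
      have h1 := (U.subgroupOf P).card_mul_index
      rw [Nat.card_congr (subgroupOfEquivOfLe hUP).toEquiv] at h1
      have hidx2 : (U.subgroupOf P).index = 2 := by
        have h8 : 2 ^ j ≤ 2 ^ 3 := Nat.pow_le_pow_right two_pos hj3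
        rw [hcardP, hT4, hUcard] at hlt h1
        norm_num at h8
        omega
      exact mem_subgroupOf.1 ((mul_mem_iff_of_index_two hidx2 (a := ⟨x, hx⟩) (b := ⟨y, hy⟩)).2
        (iff_of_false (fun e => hxU (mem_subgroupOf.1 e)) (fun e => hyU (mem_subgroupOf.1 e))))
    have hinvU : ∀ x ∈ P, x ∉ U → x⁻¹ ∉ U := fun x _ hxU e => hxU (by simpa using inv_mem e)
    -- an element outside `U` centralises neither `T` nor `T'`
    have hnab : ∀ e ∈ P, e ∉ U → ¬ (∀ a ∈ T, e * a * e⁻¹ = a) ∧ ¬ (∀ b ∈ T', e * b * e⁻¹ = b) := by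
      intro e heP heU
      have hsplit : ∀ p ∈ P, p ∈ U ∨ ∃ u ∈ U, p = e * u := fun p hp => by
        by_cases hpU : p ∈ U
        · exact Or.inl hpU
        · exact Or.inr ⟨e⁻¹ * p, hidx _ (inv_mem heP) _ hp (hinvU e heP heU) hpU, by group⟩
      have hcentral : ∀ (W : Subgroup G), W ≤ U → (∀ w ∈ W, e * w * e⁻¹ = w) →
          ∀ p ∈ P, ∀ w ∈ W, p * w * p⁻¹ = w := by
        intro W hW hew p hp w hw
        rcases hsplit p hp with hpU | ⟨u, hu, rfl⟩
        · rw [hUc p hpU w (hW hw)]; group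
        · rw [show e * u * w * (e * u)⁻¹ = e * (u * w * u⁻¹) * e⁻¹ by group, hUc u hu w (hW hw),
            mul_inv_cancel_right, hew w hw]
      have hfin : (∀ a ∈ T, e * a * e⁻¹ = a) → (∀ b ∈ T', e * b * e⁻¹ = b) → False := by
        intro h1 h2
        have hall : ∀ a ∈ P, ∀ b ∈ P, a * b = b * a := by
          intro a ha b hb
          have heu : ∀ u ∈ U, e * u = u * e := fun u hu => by
            obtain ⟨x, hx, y, hy, rfl⟩ := mem_commSup.1 hu
            refine mul_inv_eq_iff_eq_mul.1 ?_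
            rw [show e * (x * y) * e⁻¹ = e * x * e⁻¹ * (e * y * e⁻¹) by group, h1 x hx, h2 y hy]
          rcases hsplit a ha with haU | ⟨u, hu, rfl⟩ <;> rcases hsplit b hb with hbU | ⟨v, hv, rfl⟩
          · exact hUc a haU b hbU
          · rw [← mul_assoc, ← heu a haU, mul_assoc, hUc a haU v hv, ← mul_assoc]
          · rw [mul_assoc, hUc u hu b hbU, ← mul_assoc, heu b hbU, mul_assoc]
          · rw [mul_assoc e u, ← mul_assoc u e, ← heu u hu, mul_assoc e u v, hUc u hu v hv,
              mul_assoc e v, ← mul_assoc v e, ← heu v hv, mul_assoc e v u]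
        have := habel hall
        have hlt : Nat.card U < Nat.card P := lt_of_le_of_ne (card_le_of_le hUP) fun e' =>
          heU (by rw [Subgroup.eq_of_le_of_card_ge hUP e'.ge]; exact heP)
        omega
      refine ⟨fun h1 => hfin h1 fun b hb => ?_, fun h2 => hfin (fun a ha => ?_) h2⟩
      · obtain ⟨a, ha, rfl⟩ := (hmT' b).1 hb
        have := hcentral T (commSup_left hcomm) h1 (g⁻¹ * e * g) (hgPP' e heP) a ha
        calc e * (g * a * g⁻¹) * e⁻¹ = g * (g⁻¹ * e * g * a * (g⁻¹ * e * g)⁻¹) * g⁻¹ := by group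
          _ = g * a * g⁻¹ := by rw [this]
      · have := hcentral T' (commSup_right hcomm) h2 (g * e * g⁻¹) (hgPP e heP) (g * a * g⁻¹)
          ((hmT' _).2 ⟨a, ha, rfl⟩)
        calc e * a * e⁻¹ = g⁻¹ * (g * e * g⁻¹ * (g * a * g⁻¹) * (g * e * g⁻¹)⁻¹) * g := by group
          _ = a := by rw [this]; group
    have hsq : ∀ e ∈ P, e ∉ U → e * e ∈ U := fun e he heU => hidx e he e he heU heU
    have hact : ∀ (W : Subgroup G), W ≤ U → ∀ e ∈ P, e ∉ U → ∀ a ∈ W, e * (e * a * e⁻¹) * e⁻¹ = a := by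
      intro W hW e he heU a ha
      rw [show e * (e * a * e⁻¹) * e⁻¹ = e * e * a * (e * e)⁻¹ by group,
        hUc _ (hsq e he heU) a (hW ha)]
      group
    by_cases hinv : ∃ e ∈ P, e ∉ U ∧ e * e = 1
    · obtain ⟨e, heP, heU, hee⟩ := hinv
      set A1 := T ⊓ centralizer ({e} : Set G) with hA1
      set A2 := T' ⊓ centralizer ({e} : Set G) with hA2
      have hc1 := fix_card_two hT4 e (hnT e heP) (hact T (commSup_left hcomm) e heP heU) (hnab e heP heU).1
      have hc2 := fix_card_two hT4' e (hnT' e heP) (hact T' (commSup_right hcomm) e heP heU) (hnab e heP heU).2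
      have hc12 : ∀ a ∈ A1, ∀ b ∈ A2, a * b = b * a := fun a ha b hb =>
        hcomm a (mem_inf.1 ha).1 b (mem_inf.1 hb).1
      set A := commSup A1 A2 hc12 with hA
      have hAU : A ≤ U := commSup_le (inf_le_left.trans (commSup_left hcomm))
        (inf_le_left.trans (commSup_right hcomm))
      have hAe : ∀ a ∈ A, ∀ b ∈ zpowers e, a * b = b * a := by
        intro a ha b hb
        have : a ∈ centralizer ({e} : Set G) := commSup_le inf_le_right inf_le_right ha
        rcases zpowers_two hee hb with rfl | rfl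
        · simp
        · exact mem_centralizer_singleton_iff.1 this
      have hA2' : ∀ W : Subgroup G, Nat.card W = 2 → ∀ a ∈ W, a * a = 1 := fun W hW a ha => by
        have h2 := orderOf_dvd_natCard (⟨a, ha⟩ : W)
        rw [hW] at h2
        have h3 := orderOf_dvd_iff_pow_eq_one.1 h2
        rw [pow_two] at h3
        exact congrArg Subtype.val h3
      have hAsq := commSup_sq (h := hc12) (hA2' A1 hc1) (hA2' A2 hc2)
      have hEsq : ∀ x ∈ commSup A (zpowers e) hAe, x * x = 1 := commSup_sq hAsq fun b hb => by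
        rcases zpowers_two hee hb with rfl | rfl
        · simp
        · exact hee
      refine sec_of_self_cent _ hSP (commSup A (zpowers e) hAe) (commSup_le (hAU.trans (hUP.trans hPS))
        (zpowers_le.2 (hPS heP))) (comm_of_sq _ hEsq) hEsq ?_ ?_
      · rw [card_commSup hAe ?_, hA, card_commSup hc12 ?_, hc1, hc2, Nat.card_zpowers,
          order_two hee (fun e' => heU (e' ▸ one_mem U))]
        · exact fun x hx hx' => hdisj x (mem_inf.1 hx).1 (mem_inf.1 hx').1
        · intro x hx hxe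
          rcases zpowers_two hee hxe with rfl | rfl
          · rfl
          · exact absurd (hAU hx) heU
      · intro s hs hsc
        obtain ⟨a, haA, ha1⟩ : ∃ a ∈ A1, a ≠ 1 := exists_ne_of_card_two hc1
        have hsP : s ∈ P := hcT a (mem_inf.1 haA).1 ha1 s hs
          (hsc a (commSup_left hAe (commSup_left hc12 haA)))
        have hse : e * s = s * e := hsc e (commSup_right hAe (mem_zpowers e))
        have key : ∀ u ∈ U, e * u = u * e → u ∈ A := by
          intro u hu hue
          obtain ⟨x, hx, y, hy, rfl⟩ := mem_commSup.1 hu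
          have h1 : (e * x * e⁻¹) * (e * y * e⁻¹) = x * y := by
            rw [show e * x * e⁻¹ * (e * y * e⁻¹) = e * (x * y) * e⁻¹ by group, hue, mul_inv_cancel_right]
          obtain ⟨e1, e2⟩ := eq_of_mul_eq hdisj (hnT e heP x hx) hx (hnT' e heP y hy) hy h1
          exact mem_commSup.2 ⟨x, mem_inf.2 ⟨hx, mem_centralizer_singleton_iff.2
            (mul_inv_eq_iff_eq_mul.1 e1).symm⟩, y, mem_inf.2 ⟨hy, mem_centralizer_singleton_iff.2
            (mul_inv_eq_iff_eq_mul.1 e2).symm⟩, rfl⟩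
        by_cases hsU : s ∈ U
        · exact commSup_left hAe (key s hsU hse)
        · have h2 := key (s * e) (hidx s hsP e heP hsU heU) (by rw [← mul_assoc, hse])
          exact mem_commSup.2 ⟨s * e, h2, e, mem_zpowers e, by rw [mul_assoc, hee, mul_one]⟩
    · push Not at hinv
      have hnexp : ¬ ∀ a ∈ T, a * a = 1 := by
        intro hsqT
        obtain ⟨e, heP, heU⟩ := not_subset_exists (fun hle => hexp ⟨hsqT, hle⟩)
        have hsqT' : ∀ b ∈ T', b * b = 1 := fun b hb => by
          obtain ⟨a, ha, rfl⟩ := (hmT' b).1 hb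
          rw [show g * a * g⁻¹ * (g * a * g⁻¹) = g * (a * a) * g⁻¹ by group, hsqT a ha]
          group
        obtain ⟨a, ha, b, hb, hab⟩ := mem_commSup.1 (hsq e heP heU)
        have h1 : (e * a * e⁻¹) * (e * b * e⁻¹) = a * b := by
          rw [show e * a * e⁻¹ * (e * b * e⁻¹) = e * (a * b) * e⁻¹ by group, ← hab]
          group
        obtain ⟨e1, e2⟩ := eq_of_mul_eq hdisj (hnT e heP a ha) ha (hnT' e heP b hb) hb h1
        obtain ⟨x, hx, hxa⟩ := exists_twist hT4 hsqT e (hnT e heP) (hact T (commSup_left hcomm) e heP heU)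
          (hnab e heP heU).1 ha e1
        obtain ⟨y, hy, hyb⟩ := exists_twist hT4' hsqT' e (hnT' e heP)
          (hact T' (commSup_right hcomm) e heP heU) (hnab e heP heU).2 hb e2
        have hxyU : x * y ∈ U := mem_commSup.2 ⟨x, hx, y, hy, rfl⟩
        refine hinv (x * y * e) (mul_mem (hUP hxyU) heP)
          (fun hm => heU (by
          have h5 := mul_mem (inv_mem hxyU) hm
          rwa [show (x * y)⁻¹ * (x * y * e) = e by group] at h5)) ?_
        calc x * y * e * (x * y * e) = x * y * (e * x * e⁻¹ * (e * y * e⁻¹)) * (e * e) := by group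
          _ = x * (e * x * e⁻¹) * (y * (e * y * e⁻¹)) * (e * e) := by
              rw [mul_assoc x y, ← mul_assoc y, ← hcomm _ (hnT e heP x hx) y hy]; group
          _ = (a * b) * (a * b) := by rw [hxa, hyb, hab]
          _ = 1 := commSup_sq (h := hcomm) hsqT hsqT' _ (mem_commSup.2 ⟨a, ha, b, hb, rfl⟩)
      set t' := g * t * g⁻¹ with ht'
      have htt := sq_one_of_two ht
      have htt' : t' * t' = 1 := by
        rw [ht', show g * t * g⁻¹ * (g * t * g⁻¹) = g * (t * t) * g⁻¹ by group, htt]; group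
      have hOmega : ∀ x ∈ T, x * x = 1 → x = 1 ∨ x = t := by
        intro x hx hxx
        by_contra hc
        push Not at hc
        refine hnexp fun a ha => ?_
        have hcm : ∀ a ∈ zpowers t, ∀ b ∈ zpowers x, a * b = b * a := fun a ha b hb =>
          habT1 a (zpowers_le.2 htT ha) b (zpowers_le.2 hx hb)
        have hfull : commSup (zpowers t) (zpowers x) hcm = T := by
          refine Subgroup.eq_of_le_of_card_ge (commSup_le (zpowers_le.2 htT) (zpowers_le.2 hx)) ?_
          rw [card_commSup hcm ?_, Nat.card_zpowers, Nat.card_zpowers, ht, order_two hxx hc.1, hT4]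
          intro w hw hw'
          rcases zpowers_two htt hw with rfl | rfl
          · rfl
          · rcases zpowers_two hxx hw' with h' | h'
            · exact h'
            · exact absurd h'.symm hc.2
        rw [← hfull] at ha
        refine commSup_sq (fun w hw => ?_) (fun w hw => ?_) a ha
        · rcases zpowers_two htt hw with rfl | rfl
          · simp
          · exact htt
        · rcases zpowers_two hxx hw with rfl | rfl
          · simp
          · exact hxx
      have hOm : ∀ x ∈ T, x * x = 1 → x ∈ zpowers t := fun x hx hxx => by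
        rcases hOmega x hx hxx with rfl | rfl
        · exact one_mem _
        · exact mem_zpowers _
      have hOm' : ∀ y ∈ T', y * y = 1 → y ∈ zpowers t' := fun y hy hyy => by
        obtain ⟨a, ha, rfl⟩ := (hmT' y).1 hy
        have haa : a * a = 1 := by
          calc a * a = g⁻¹ * (g * a * g⁻¹ * (g * a * g⁻¹)) * g := by group
            _ = 1 := by rw [hyy]; group
        rcases hOmega a ha haa with rfl | rfl
        · simp
        · exact mem_zpowers _
      refine sec_of_small_cent _ hSP htS ht fun E hE hE2 => ?_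
      have hcm : ∀ a ∈ zpowers t, ∀ b ∈ zpowers t', a * b = b * a := fun a ha b hb =>
        hcomm a (zpowers_le.2 htT ha) b (zpowers_le.2 ((hmT' t').2 ⟨t, htT, rfl⟩) hb)
      have hsub : E ≤ commSup (zpowers t) (zpowers t') hcm := by
        intro x hx
        have hxP : x ∈ P := hcT t htT ht1 x (mem_inf.1 (hE hx)).1
          (mem_centralizer_singleton_iff.1 (mem_inf.1 (hE hx)).2).symm
        by_cases hxU : x ∈ U
        · obtain ⟨a, ha, b, hb, rfl⟩ := mem_commSup.1 hxU
          have h1 : a * a * (b * b) = 1 * 1 := by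
            rw [one_mul, show a * a * (b * b) = a * (a * b) * b by group, hcomm a ha b hb,
              show a * (b * a) * b = a * b * (a * b) by group]
            exact hE2 _ hx
          obtain ⟨h2, h3⟩ := eq_of_mul_eq hdisj (mul_mem ha ha) (one_mem _) (mul_mem hb hb) (one_mem _) h1
          exact mem_commSup.2 ⟨a, hOm a ha h2, b, hOm' b hb h3, rfl⟩
        · exact absurd (hE2 x hx) (hinv x hxP hxU)
      refine (card_le_of_le hsub).trans ?_
      rw [card_commSup hcm ?_, Nat.card_zpowers, Nat.card_zpowers, ht,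
        order_two htt' (fun e => ht1 (conj_eq_one_iff.1 e))]
      exact fun x hx hx' => hdisj x (zpowers_le.2 htT hx) (zpowers_le.2 ((hmT' t').2 ⟨t, htT, rfl⟩) hx')

end Cfsg.Agent.FixFour
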