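import Cfsg.Agent.FixFour.Basic

/-!
# Odd point stabilisers: the action of a set stabiliser on a set of at most four points
-/

set_option autoImplicit false

namespace Cfsg.Agent.FixFour

open MulAction Pointwise Subgroup

universe u v

theorem perm_cube_aux : ∀ σ : Equiv.Perm (Fin 4), σ ^ 3 = 1 → σ ≠ 1 →
    (∀ τ : Equiv.Perm (Fin 4), τ * σ = σ⁻¹ * τ → ∃ a, τ a = a) ∧
    (∀ τ : Equiv.Perm (Fin 4), ∃ a, ∃ i : Fin 3,
      τ a = a ∨ (σ ^ (i : ℕ)) (τ (σ (τ⁻¹ a))) = τ a) := by decide +kernel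

theorem perm_cube_aux3 : ∀ σ : Equiv.Perm (Fin 3), σ ^ 3 = 1 → σ ≠ 1 →
    (∀ τ : Equiv.Perm (Fin 3), τ * σ = σ⁻¹ * τ → ∃ a, τ a = a) ∧
    (∀ τ : Equiv.Perm (Fin 3), ∃ a, ∃ i : Fin 3,
      τ a = a ∨ (σ ^ (i : ℕ)) (τ (σ (τ⁻¹ a))) = τ a) := by decide +kernel

/-- Permutations of three or four points and an element of order three. -/
theorem perm_cube {α : Type v} [Finite α] (h : Nat.card α = 3 ∨ Nat.card α = 4) {σ : Equiv.Perm α}
    (h3 : σ ^ 3 = 1) (h1 : σ ≠ 1) (τ : Equiv.Perm α) :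
    (τ * σ = σ⁻¹ * τ → ∃ a, τ a = a) ∧
    (∃ a, ∃ i : ℕ, τ a = a ∨ (σ ^ i) (τ (σ (τ⁻¹ a))) = τ a) := by
  obtain ⟨m, hm, key⟩ : ∃ m, Nat.card α = m ∧ ∀ σ : Equiv.Perm (Fin m), σ ^ 3 = 1 → σ ≠ 1 →
      (∀ τ : Equiv.Perm (Fin m), τ * σ = σ⁻¹ * τ → ∃ a, τ a = a) ∧
      (∀ τ : Equiv.Perm (Fin m), ∃ a, ∃ i : Fin 3,
        τ a = a ∨ (σ ^ (i : ℕ)) (τ (σ (τ⁻¹ a))) = τ a) := by
    rcases h with h | h
    · exact ⟨3, h, perm_cube_aux3⟩
    · exact ⟨4, h, perm_cube_aux⟩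
  let e : α ≃ Fin m := (Finite.equivFin α).trans (finCongr hm)
  let c : Equiv.Perm α ≃* Equiv.Perm (Fin m) := e.permCongrHom
  have hc : ∀ (π : Equiv.Perm α) (a : Fin m), c π a = e (π (e.symm a)) := fun π a => rfl
  obtain ⟨k1, k2⟩ := key (c σ) (by rw [← map_pow, h3, map_one])
    (fun e1 => h1 (c.injective (e1.trans (map_one c).symm)))
  refine ⟨fun hrel => ?_, ?_⟩
  · obtain ⟨a, ha⟩ := k1 (c τ) (by rw [← map_inv, ← map_mul, ← map_mul, hrel])
    rw [hc] at ha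
    exact ⟨e.symm a, e.injective (by rw [ha, e.apply_symm_apply])⟩
  · obtain ⟨a, i, hi⟩ := k2 (c τ)
    refine ⟨e.symm a, i, ?_⟩
    rcases hi with ha | ha
    · rw [hc] at ha
      exact Or.inl (e.injective (by rw [ha, e.apply_symm_apply]))
    · simp only [← map_pow, ← map_inv, hc, e.symm_apply_apply] at ha
      exact Or.inr (e.injective ha)

/-- A `3`-element of the symmetric group on at most four points has order dividing three. -/
theorem perm_pow_three {α : Type v} [Finite α] (h : Nat.card α ≤ 4) {σ : Equiv.Perm α} {k : ℕ}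
    (hk : σ ^ 3 ^ k = 1) : σ ^ 3 = 1 := by
  have h1 := orderOf_dvd_of_pow_eq_one hk
  have h2 : orderOf σ ∣ 24 := by
    refine (orderOf_dvd_natCard σ).trans ?_
    rw [Nat.card_perm]
    exact (Nat.factorial_dvd_factorial h).trans (by decide)
  obtain ⟨j, -, hj⟩ := (Nat.dvd_prime_pow Nat.prime_three).1 h1
  refine orderOf_dvd_iff_pow_eq_one.1 ?_
  rw [hj] at h2 ⊢
  rcases j with _ | _ | j
  · exact one_dvd _
  · simp
  · exfalso
    have h9 : 3 ^ 2 ∣ 24 := (pow_dvd_pow 3 (by omega : 2 ≤ j + 2)).trans h2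
    norm_num at h9

/-- A `3`-element of the symmetric group on at most two points is trivial. -/
theorem perm_pow_three_small {α : Type v} [Finite α] (h : Nat.card α ≤ 2) {σ : Equiv.Perm α} {k : ℕ}
    (hk : σ ^ 3 ^ k = 1) : σ = 1 := by
  have h1 := orderOf_dvd_of_pow_eq_one hk
  have h2 : orderOf σ ∣ 2 := by
    refine (orderOf_dvd_natCard σ).trans ?_
    rw [Nat.card_perm]
    exact Nat.factorial_dvd_factorial h
  refine orderOf_eq_one_iff.1 (Nat.eq_one_of_dvd_coprimes ?_ h2 h1)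
  exact Nat.Coprime.pow_right _ (by decide)

variable {G : Type u} [Group G] {Ω : Type v} [MulAction G Ω]

theorem smul_mem_of_mem_stabilizer {Q : Set Ω} {g : G} (hg : g ∈ stabilizer G Q) {a : Ω} (ha : a ∈ Q) :
    g • a ∈ Q := by
  rw [← mem_stabilizer_iff.1 hg]
  exact Set.smul_mem_smul_set ha

/-- The permutation of `Q` given by an element stabilising it. -/
def resPerm (Q : Set Ω) : stabilizer G Q →* Equiv.Perm Q :=
  MonoidHom.mk'
    (fun g =>
      { toFun := fun a => ⟨(g : G) • (a : Ω), smul_mem_of_mem_stabilizer g.2 a.2⟩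
        invFun := fun a => ⟨(g : G)⁻¹ • (a : Ω), smul_mem_of_mem_stabilizer (inv_mem g.2) a.2⟩
        left_inv := fun a => Subtype.ext (inv_smul_smul (g : G) (a : Ω))
        right_inv := fun a => Subtype.ext (smul_inv_smul (g : G) (a : Ω)) })
    (fun g k => Equiv.ext fun a => Subtype.ext (mul_smul (g : G) (k : G) (a : Ω)))

theorem resPerm_apply {Q : Set Ω} (g : stabilizer G Q) (a : Q) :
    (resPerm Q g a : Ω) = (g : G) • (a : Ω) := rfl

theorem resPerm_eq_one {Q : Set Ω} {g : stabilizer G Q} :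
    resPerm Q g = 1 ↔ (g : G) ∈ pointStab Q := by
  rw [mem_pointStab]
  refine ⟨fun h a ha => ?_, fun h => Equiv.ext fun a => Subtype.ext (h a a.2)⟩
  exact congrArg (fun π : Equiv.Perm Q => ((π ⟨a, ha⟩ : Q) : Ω)) h

/-- A power of a three-element. -/
theorem exists_pow_three {U : Subgroup G} (hU : IsPGroup 3 U) {g : G} (hg : g ∈ U) :
    ∃ k : ℕ, g ^ 3 ^ k = 1 := by
  obtain ⟨k, hk⟩ := hU ⟨g, hg⟩
  exact ⟨k, congrArg Subtype.val hk⟩

/-- A three-element outside the pointwise stabiliser acts as an element of order three. -/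
theorem resPerm_cube [Finite Ω] {Q : Set Ω} (hQ : Nat.card Q ≤ 4) {U : Subgroup G} (hU : IsPGroup 3 U)
    {g : G} (hg : g ∈ U) (hgQ : g ∈ stabilizer G Q) :
    (resPerm Q ⟨g, hgQ⟩) ^ 3 = 1 := by
  obtain ⟨k, hk⟩ := exists_pow_three hU hg
  refine perm_pow_three hQ (k := k) ?_
  rw [← map_pow]
  exact (resPerm_eq_one).2 (by rw [SubmonoidClass.coe_pow, hk]; exact one_mem _)

/-- On at most two points a three-element acts trivially. -/
theorem mem_pointStab_of_small [Finite Ω] {Q : Set Ω} (hQ : Nat.card Q ≤ 2) {U : Subgroup G}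
    (hU : IsPGroup 3 U) {g : G} (hg : g ∈ U) (hgQ : g ∈ stabilizer G Q) : g ∈ pointStab Q := by
  obtain ⟨k, hk⟩ := exists_pow_three hU hg
  refine (resPerm_eq_one (g := ⟨g, hgQ⟩)).1 (perm_pow_three_small hQ (k := k) ?_)
  rw [← map_pow]
  exact (resPerm_eq_one).2 (by rw [SubmonoidClass.coe_pow, hk]; exact one_mem _)

variable [Finite G]

/-- A three-group stabilising four points or fewer has its pointwise part of index at most three. -/
theorem card_le_three_mul [Finite Ω] {Q : Set Ω} (hQ : Nat.card Q ≤ 4) {U : Subgroup G}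
    (hU : IsPGroup 3 U) (hUQ : U ≤ stabilizer G Q) :
    Nat.card U ≤ 3 * Nat.card ↥(U ⊓ pointStab Q) ∧
    ((¬ U ≤ pointStab Q) → Nat.card U = 3 * Nat.card ↥(U ⊓ pointStab Q) ∧
      ∀ g ∈ U, ∀ g' ∈ U, g ∉ pointStab Q →
        g' ∈ pointStab Q ∨ g'⁻¹ * g ∈ pointStab Q ∨ g' * g ∈ pointStab Q) := by
  let f : U →* Equiv.Perm Q := (resPerm Q).comp (Subgroup.inclusion hUQ)
  have hker : f.ker = (pointStab Q).subgroupOf U := by
    ext g
    rw [MonoidHom.mem_ker, Subgroup.mem_subgroupOf]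
    exact resPerm_eq_one
  have hrange : Nat.card f.range ∣ 3 := by
    have h1 : Nat.card f.range ∣ 24 := by
      refine (Subgroup.card_subgroup_dvd_card f.range).trans ?_
      rw [Nat.card_perm]
      exact (Nat.factorial_dvd_factorial hQ).trans (by decide)
    obtain ⟨j, hj⟩ := IsPGroup.iff_card.1 (hU.of_surjective _ f.rangeRestrict_surjective)
    rw [hj] at h1 ⊢
    rcases j with _ | _ | j
    · exact one_dvd _
    · simp
    · exfalso
      have h9 : 3 ^ 2 ∣ 24 := (pow_dvd_pow 3 (by omega : 2 ≤ j + 2)).trans h1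
      norm_num at h9
  have hcard : Nat.card U = Nat.card f.range * Nat.card ↥(U ⊓ pointStab Q) := by
    rw [← f.ker.card_mul_index, Subgroup.index_ker, hker, mul_comm,
      ← Nat.card_congr (Subgroup.subgroupOfEquivOfLe (inf_le_left : U ⊓ pointStab Q ≤ U)).toEquiv,
      Subgroup.inf_subgroupOf_left]
  refine ⟨?_, fun hne => ?_⟩
  · rw [hcard]
    exact Nat.mul_le_mul_right _ (Nat.le_of_dvd (by norm_num) hrange)
  have h3 : Nat.card f.range = 3 := by
    rcases (Nat.dvd_prime Nat.prime_three).1 hrange with h | h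
    · refine absurd (fun g hg => ?_) hne
      have : f ⟨g, hg⟩ ∈ f.range := ⟨_, rfl⟩
      rw [Subgroup.card_eq_one.1 h, Subgroup.mem_bot] at this
      exact resPerm_eq_one.1 this
    · exact h
  refine ⟨by rw [hcard, h3], fun g hg g' hg' hgp => ?_⟩
  have hgen : Subgroup.zpowers (⟨f ⟨g, hg⟩, ⟨_, rfl⟩⟩ : f.range) = ⊤ := by
    have := Fact.mk Nat.prime_three
    refine zpowers_eq_top_of_prime_card h3 fun e => hgp ?_
    exact resPerm_eq_one.1 (congrArg Subtype.val e)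
  have hmem : (⟨f ⟨g', hg'⟩, ⟨_, rfl⟩⟩ : f.range) ∈
      Subgroup.zpowers (⟨f ⟨g, hg⟩, ⟨_, rfl⟩⟩ : f.range) := by rw [hgen]; trivial
  obtain ⟨i, hi⟩ := Subgroup.mem_zpowers_iff.1 hmem
  have hi' : (f ⟨g, hg⟩) ^ i = f ⟨g', hg'⟩ := by
    simpa using congrArg Subtype.val hi
  have hcube : (f ⟨g, hg⟩) ^ (3 : ℤ) = 1 := by
    rw [zpow_ofNat]; exact resPerm_cube hQ hU hg (hUQ hg)
  obtain ⟨q, r, hr, rfl⟩ : ∃ q r : ℤ, (r = 0 ∨ r = 1 ∨ r = 2) ∧ i = 3 * q + r :=
    ⟨i / 3, i % 3, by omega, by omega⟩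
  rw [zpow_add, zpow_mul, hcube, one_zpow, one_mul] at hi'
  have conv : ∀ u : U, f u = 1 → (u : G) ∈ pointStab Q := fun u hu => resPerm_eq_one.1 hu
  rcases hr with rfl | rfl | rfl
  · left
    exact conv ⟨g', hg'⟩ (by rw [← hi', zpow_zero])
  · right; left
    exact conv (⟨g', hg'⟩⁻¹ * ⟨g, hg⟩) (by rw [map_mul, map_inv, ← hi', zpow_one, inv_mul_cancel])
  · right; right
    exact conv (⟨g', hg'⟩ * ⟨g, hg⟩) (by
      rw [map_mul, ← hi']
      nth_rewrite 2 [← zpow_one (f ⟨g, hg⟩)]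
      rw [← zpow_add]
      exact hcube)

end Cfsg.Agent.FixFour
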