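import Cfsg.Agent.FixFour.Basic
import Cfsg.Agent.FixFour.OddBasic

/-!
# An element whose square lies in the pointwise stabiliser of four points
-/

set_option autoImplicit false

namespace Cfsg.Agent.FixFour

open MulAction Pointwise

universe u v

theorem sign_two_fix_aux : ∀ τ : Equiv.Perm (Fin 4),
    (τ * τ = 1 ∧ (Finset.univ.filter fun a => τ a = a).card = 2) → Equiv.Perm.sign τ = -1 := by
  decide +kernel

theorem sign_two_fix {α : Type v} [Fintype α] [DecidableEq α] (h : Nat.card α = 4) {τ : Equiv.Perm α}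
    (h2 : τ * τ = 1) (hf : Nat.card {a : α // τ a = a} = 2) : Equiv.Perm.sign τ = -1 := by
  let e : α ≃ Fin 4 := (Finite.equivFin α).trans (finCongr h)
  rw [← Equiv.Perm.sign_permCongr e τ]
  refine sign_two_fix_aux _ ⟨?_, ?_⟩
  · show e.permCongrHom τ * e.permCongrHom τ = 1
    rw [← map_mul, h2, map_one]
  · rw [← hf, ← Fintype.card_subtype, ← Nat.card_eq_fintype_card]
    refine Nat.card_congr (e.subtypeEquiv fun a => ?_).symm
    rw [Equiv.permCongr_apply, e.symm_apply_apply, e.apply_eq_iff_eq]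

variable {G : Type u} [Group G] {Ω : Type v} [MulAction G Ω]

/-- A half turn on `Q` bounds the group fixing `Q` pointwise. -/
theorem half_turn [Finite G] [Finite Ω] (h : Ctx G Ω) {Q : Set Ω} (h4 : Nat.card Q = 4) {T : Subgroup G}
    (hTp : IsPGroup 2 T) (hT : ∀ x ∈ T, x ≠ 1 → fixedBy Ω x = Q) (hTQ : T ≤ pointStab Q) {σ : G}
    (hσQ : σ ∈ stabilizer G Q) (hσT : σ ^ 2 ∈ T) (hσ1 : σ ^ 2 ≠ 1)
    (hfree : ∀ k : ℕ, σ ^ k ≠ 1 → fixedBy Ω (σ ^ k) ⊆ Q) (hfσ : Nat.card (fixedBy Ω σ) = 2) :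
    Nat.card T ≤ orderOf σ := by
  classical
  letI := Fintype.ofFinite Ω
  set π : Equiv.Perm Ω := MulAction.toPermHom G Ω σ with hπ
  have hπk : ∀ (k : ℕ) (a : Ω), (π ^ k) a = σ ^ k • a := fun k a => by
    rw [hπ, ← map_pow]; rfl
  have hinv : ∀ a, π a ∈ Q ↔ a ∈ Q := fun a => by
    show σ • a ∈ Q ↔ a ∈ Q
    refine ⟨fun ha => ?_, fun ha => smul_mem_of_mem_stabilizer hσQ ha⟩
    have := smul_mem_of_mem_stabilizer (inv_mem hσQ) ha
    rwa [inv_smul_smul] at this
  have hninv : ∀ a, π a ∉ Q ↔ a ∉ Q := fun a => not_congr (hinv a)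
  set A : Equiv.Perm {a // a ∈ Q} := π.subtypePerm hinv with hA
  set B : Equiv.Perm {a // a ∉ Q} := π.subtypePerm hninv with hB
  have hsplit : π = A.subtypeCongr B := by
    refine Equiv.ext fun a => ?_
    rw [Equiv.Perm.subtypeCongr.apply]
    split_ifs <;> rfl
  have hsA : Equiv.Perm.sign A = -1 := by
    refine sign_two_fix h4 (Equiv.ext fun a => Subtype.ext ?_) ?_
    · show σ • σ • (a : Ω) = a
      rw [← mul_smul, ← pow_two]
      exact mem_pointStab.1 (hTQ hσT) a a.2
    · rw [← hfσ]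
      have hsub : fixedBy Ω σ ⊆ Q := by
        have hne : σ ^ 1 ≠ 1 := fun e => hσ1 (by rw [pow_one] at e; rw [e, one_pow])
        have := hfree 1 hne
        rwa [pow_one] at this
      exact Nat.card_congr
        { toFun := fun a => ⟨(a.1 : Ω), congrArg Subtype.val a.2⟩
          invFun := fun a => ⟨⟨a.1, hsub a.2⟩, Subtype.ext a.2⟩
          left_inv := fun a => rfl
          right_inv := fun a => rfl }
  have hsB : Equiv.Perm.sign B = -1 := by
    have hs := sign_toPerm h σ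
    rw [← hπ, hsplit, Equiv.Perm.sign_subtypeCongr, hsA] at hs
    rcases Int.units_eq_one_or (Equiv.Perm.sign B) with e | e
    · rw [e] at hs; exact absurd hs (by decide)
    · exact e
  set o := orderOf σ with ho
  have hBk : ∀ (k : ℕ) (a : {a // a ∉ Q}), ((B ^ k) a : Ω) = σ ^ k • (a : Ω) := fun k a => by
    rw [hB, Equiv.Perm.subtypePerm_pow, Equiv.Perm.subtypePerm_apply]
    exact hπk k a
  have hBo : B ^ o = 1 := Equiv.ext fun a => Subtype.ext (by
    rw [hBk, ho, pow_orderOf_eq_one, one_smul]; rfl)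
  have hall : ∀ c ∈ B.cycleType, c = o := by
    intro c hc
    refine Nat.dvd_antisymm ((Equiv.Perm.dvd_of_mem_cycleType hc).trans (orderOf_dvd_of_pow_eq_one hBo)) ?_
    rw [Equiv.Perm.cycleType_def, Multiset.mem_map] at hc
    obtain ⟨τ, hτ, rfl⟩ := hc
    rw [Finset.mem_val] at hτ
    obtain ⟨a, ha⟩ := (Equiv.Perm.mem_cycleFactorsFinset_iff.1 hτ).1.nonempty_support
    refine orderOf_dvd_of_pow_eq_one (by_contra fun hne => a.2 (hfree _ hne ?_))
    show σ ^ τ.support.card • (a : Ω) = a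
    have h1 : τ ^ τ.support.card = 1 := by
      rw [← (Equiv.Perm.mem_cycleFactorsFinset_iff.1 hτ).1.orderOf]; exact pow_orderOf_eq_one τ
    have h2 : (B ^ τ.support.card) a = a := by
      rw [← Equiv.Perm.cycleOf_pow_apply_self B a, ← Equiv.Perm.cycle_is_cycleOf ha hτ, h1]; rfl
    rw [← hBk, h2]
  have hrep := Multiset.eq_replicate_card.2 hall
  have hsupp : B.support = Finset.univ := Finset.eq_univ_of_forall fun a =>
    Equiv.Perm.mem_support.2 fun ha => by
      have hne : σ ^ 1 ≠ 1 := fun e => hσ1 (by rw [pow_one] at e; rw [e, one_pow])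
      refine a.2 (hfree 1 hne ?_)
      show σ ^ 1 • (a : Ω) = a
      rw [pow_one]
      exact congrArg Subtype.val ha
  have hcard : Nat.card (Qᶜ : Set Ω) = B.cycleType.card * o := by
    rw [show Nat.card (Qᶜ : Set Ω) = Nat.card {a // a ∉ Q} from rfl, Nat.card_eq_fintype_card,
      ← Finset.card_univ, ← hsupp, ← Equiv.Perm.sum_cycleType]
    conv_lhs => rw [hrep]
    rw [Multiset.sum_replicate, smul_eq_mul]
  have hodd : Odd (B.cycleType.card * o + B.cycleType.card) := by
    have hs := Equiv.Perm.sign_of_cycleType B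
    rw [hsB, show B.cycleType.sum = B.cycleType.card * o by
      conv_lhs => rw [hrep]
      rw [Multiset.sum_replicate, smul_eq_mul]] at hs
    rw [← neg_one_pow_eq_neg_one_iff_odd (R := ℤˣ) (by decide)]
    exact hs.symm
  have hTd : Nat.card T ∣ Nat.card (Qᶜ : Set Ω) := by
    refine card_dvd_of_free T _ (fun t ht a ha hta => ha ?_) fun t ht ht1 a ha e => ha ?_
    · have := smul_mem_of_mem_stabilizer (inv_mem (pointStab_le Q (hTQ ht))) hta
      rwa [inv_smul_smul] at this
    · rw [← hT t ht ht1]; exact e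
  -- the order of `σ` is a power of two
  obtain ⟨j, hj⟩ := hTp ⟨σ ^ 2, hσT⟩
  have hj' : σ ^ (2 * 2 ^ j) = 1 := by
    rw [pow_mul]
    exact congrArg Subtype.val hj
  have hoeven : Even o := by
    obtain ⟨i, -, hi⟩ := (Nat.dvd_prime_pow Nat.prime_two).1
      (orderOf_dvd_of_pow_eq_one (by rw [← pow_succ']  at hj'; exact hj'))
    rcases i with _ | i
    · exact absurd (by rw [orderOf_eq_one_iff.1 (hi.trans (pow_zero 2)), one_pow]) hσ1
    · exact ⟨2 ^ i, by rw [ho, hi, pow_succ]; ring⟩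
  have hbodd : Odd B.cycleType.card := by
    obtain ⟨w, hw⟩ := hoeven
    obtain ⟨q, hq⟩ := hodd
    have hw' : B.cycleType.card * o = 2 * (B.cycleType.card * w) := by rw [hw]; ring
    exact Nat.odd_iff.2 (by omega)
  obtain ⟨i, hi⟩ := IsPGroup.iff_card.1 hTp
  rw [hcard, hi] at hTd
  rw [hi]
  exact Nat.le_of_dvd (orderOf_pos σ)
    ((Nat.Coprime.pow_left i hbodd.coprime_two_left).dvd_of_dvd_mul_left hTd)

end Cfsg.Agent.FixFour
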