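import Cfsg.Agent.FixFour.Rigid
import Cfsg.Agent.FixFour.OddBasic
import Cfsg.Agent.Invol.Pair

/-!
# The rigid case: counting the involutions commuting with a rich involution
-/

set_option autoImplicit false

namespace Cfsg.Agent.FixFour

open MulAction Pointwise

universe u v

theorem perm_four_fpf : ∀ π : Equiv.Perm (Fin 4), (π * π = 1 ∧ ∀ a : Fin 4, π a ≠ a) →
    ∀ ρ : Equiv.Perm (Fin 4), ρ * π = π * ρ ∧ ρ ^ 3 = 1 → ρ = 1 := by decide +kernel

theorem perm_fpf_cube {α : Type v} [Finite α] (h : Nat.card α = 4) {π ρ : Equiv.Perm α} (hπ : π * π = 1)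
    (hfree : ∀ a, π a ≠ a) (hc : ρ * π = π * ρ) (h3 : ρ ^ 3 = 1) : ρ = 1 := by
  let e : α ≃ Fin 4 := (Finite.equivFin α).trans (finCongr h)
  let c : Equiv.Perm α ≃* Equiv.Perm (Fin 4) := e.permCongrHom
  refine c.injective (Eq.trans ?_ (map_one c).symm)
  refine perm_four_fpf (c π) ⟨by rw [← map_mul, hπ, map_one], fun a ha => hfree (e.symm a) ?_⟩ _
    ⟨by rw [← map_mul, ← map_mul, hc], by rw [← map_pow, h3, map_one]⟩
  refine e.injective ?_
  rw [e.apply_symm_apply]
  exact ha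

variable {G : Type u} [Group G] [Finite G] {Ω : Type v} [MulAction G Ω] [Finite Ω] {Q : Set Ω}

namespace Rigid

theorem ncard_translate (R : Rigid (G := G) Q) (g : G) : Nat.card (g • Q : Set Ω) = 4 := by
  rw [card_smul, R.card]

theorem nonempty_of_four {F : Set Ω} (h : Nat.card F = 4) : F.Nonempty := by
  by_contra he
  rw [Set.not_nonempty_iff_eq_empty] at he
  rw [he] at h
  simp at h

/-- Two involutions with different four-point fixed sets have a product of odd order. -/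
theorem odd_mul (R : Rigid (G := G) Q) {t t' : G} (ht : orderOf t = 2) (ht' : orderOf t' = 2)
    (h4 : Nat.card (fixedBy Ω t) = 4) (h4' : Nat.card (fixedBy Ω t') = 4)
    (hne : fixedBy Ω t ≠ fixedBy Ω t') : Odd (orderOf (t * t')) := by
  by_contra hodd
  have heven := Nat.not_odd_iff_even.1 hodd
  set l := orderOf (t * t') / 2 with hl
  set c := (t * t') ^ l with hc
  have hc2 : orderOf c = 2 := Invol.orderOf_central heven (orderOf_pos _)
  have hct : Commute c t := Invol.commute_central ht ht' heven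
  have hct' : Commute c t' := Invol.commute_central' ht ht' heven
  have hfix : ∀ s : G, orderOf s = 2 → Nat.card (fixedBy Ω s) = 4 → Commute c s →
      Nat.card (fixedBy Ω c) = 4 → fixedBy Ω c = fixedBy Ω s := fun s hs hs4 hcs hc4 => by
    obtain ⟨g, hg⟩ := R.translate s hs hs4
    rw [hg]
    exact R.only c g hc2 hc4 (mem_stabilizer_iff.2 (hg ▸ smul_fix_of_comm hcs.eq))
  have hfree : fixedBy Ω c = ∅ := (R.zero_or_four c hc2).resolve_right fun hc4 =>
    hne ((hfix t ht h4 hct hc4).symm.trans (hfix t' ht' h4' hct' hc4))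
  obtain ⟨k, hk⟩ | ⟨k, hk⟩ := Nat.even_or_odd l
  · refine R.deg (free_four_parity R.ctx (g := (t * t') ^ k) ?_ ?_)
    · obtain ⟨j, hj⟩ := heven
      rw [← pow_mul, show k * 4 = orderOf (t * t') by omega, pow_orderOf_eq_one]
    · rw [← pow_mul, show k * 2 = l by omega]
      exact hfree
  · obtain ⟨d, -, hd⟩ := Invol.exists_conj_eq ht' ht (-k : ℤ)
    have he : d * t' * d⁻¹ = t * c := by
      have hba : t' * t = (t * t')⁻¹ := by
        rw [mul_inv_rev, Invol.inv_eq_self ht, Invol.inv_eq_self ht']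
      rw [hd, hba, inv_zpow, ← zpow_neg, hc, hk, pow_succ', ← mul_assoc, Invol.mul_mul_cancel_self ht,
        ← zpow_natCast]
      congr 2
      push_cast
      ring
    have h2 : orderOf (t * c) = 2 := by rw [← he, Invol.orderOf_conj]; exact ht'
    have h24 : Nat.card (fixedBy Ω (t * c)) = 4 := by rw [← he, card_fix_conj, h4']
    obtain ⟨g, hg⟩ := R.translate t ht h4
    have hcomm : Commute (t * c) t := (Commute.refl t).mul_left hct
    have heq := R.only (t * c) g h2 h24 (mem_stabilizer_iff.2 (hg ▸ smul_fix_of_comm hcomm.eq))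
    obtain ⟨a, ha⟩ := nonempty_of_four h4
    have hca : a ∈ fixedBy Ω c := by
      have h1 : (t * c) • a = a := (heq.ge (hg.le ha) : a ∈ fixedBy Ω (t * c))
      have h2 : t • a = a := ha
      rw [mul_smul] at h1
      exact (MulAction.injective t (h1.trans h2.symm) : c • a = a)
    rw [hfree] at hca
    exact hca

/-- An element of odd order commuting with a fixed-point-free involution and stabilising two translates
stabilised by it is trivial. -/
theorem eq_one_of_two (R : Rigid (G := G) Q) {u w : G} (hu : orderOf u = 2) (hfree : fixedBy Ω u = ∅)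
    (hwu : Commute w u) (hw : Odd (orderOf w)) {g k : G} (hne : g • Q ≠ k • Q)
    (hug : u ∈ stabilizer G (g • Q)) (huk : u ∈ stabilizer G (k • Q))
    (hwg : w ∈ stabilizer G (g • Q)) (hwk : w ∈ stabilizer G (k • Q)) : w = 1 := by
  have hfix : ∀ B : Set Ω, Nat.card B = 4 → u ∈ stabilizer G B → w ∈ stabilizer G B →
      B ⊆ fixedBy Ω w := by
    intro B hB hub hwb a ha
    have h3 : (resPerm B ⟨w, hwb⟩) ^ 3 = 1 := by
      have h1 : Odd (orderOf (resPerm B ⟨w, hwb⟩)) :=
        hw.of_dvd_nat ((orderOf_map_dvd (resPerm B) _).trans (by rw [Subgroup.orderOf_mk]))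
      have h2 : orderOf (resPerm B ⟨w, hwb⟩) ∣ 8 * 3 := by
        refine (orderOf_dvd_natCard _).trans ?_
        rw [Nat.card_perm, hB]
        decide
      exact orderOf_dvd_iff_pow_eq_one.1
        ((Nat.Coprime.pow_right 3 h1.coprime_two_right).dvd_of_dvd_mul_left h2)
    have hπ : resPerm B ⟨u, hub⟩ * resPerm B ⟨u, hub⟩ = 1 := by
      rw [← map_mul]
      refine resPerm_eq_one.2 ?_
      show u * u ∈ pointStab B
      rw [Invol.mul_self_eq_one hu]
      exact one_mem _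
    have hfr : ∀ b, resPerm B ⟨u, hub⟩ b ≠ b := fun b hb => by
      have h1 : (b : Ω) ∈ fixedBy Ω u := congrArg Subtype.val hb
      rw [hfree] at h1
      exact h1
    have hcomm : resPerm B ⟨w, hwb⟩ * resPerm B ⟨u, hub⟩ =
        resPerm B ⟨u, hub⟩ * resPerm B ⟨w, hwb⟩ := by
      rw [← map_mul, ← map_mul]
      exact congrArg _ (Subtype.ext hwu.eq)
    exact mem_pointStab.1 (resPerm_eq_one.1 (perm_fpf_cube hB hπ hfr hcomm h3)) a ha
  by_contra hw1
  have h4 := R.ctx.le4 w hw1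
  have hg : g • Q = fixedBy Ω w := Set.eq_of_subset_of_ncard_le (hfix _ (R.ncard_translate g) hug hwg) (by
    rw [← Nat.card_coe_set_eq, ← Nat.card_coe_set_eq, R.ncard_translate g]; exact h4) (Set.toFinite _)
  have hk : k • Q = fixedBy Ω w := Set.eq_of_subset_of_ncard_le (hfix _ (R.ncard_translate k) huk hwk) (by
    rw [← Nat.card_coe_set_eq, ← Nat.card_coe_set_eq, R.ncard_translate k]; exact h4) (Set.toFinite _)
  exact hne (hg.trans hk.symm)

/-- The translates of `Q` stabilised by `u`. -/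
def transl (Q : Set Ω) (u : G) : Set (Set Ω) := {B | ∃ g : G, g • Q = B ∧ u ∈ stabilizer G B}

/-- An involution with four fixed points commuting with `u` carrying one translate to another is unique. -/
theorem swap_unique (R : Rigid (G := G) Q) {u x y : G} (hu : Rich Q u) (hx : InJ u x Ω) (hy : InJ u y Ω)
    {B : Set Ω} (hB : B ∈ transl Q u) (hBx : B ≠ fixedBy Ω x) (hBy : B ≠ fixedBy Ω y)
    (e : x • B = y • B) : x = y := by
  obtain ⟨hu2, hufree, -⟩ := hu
  obtain ⟨g, rfl, hug⟩ := hB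
  obtain ⟨hx2, hx4, hxu⟩ := hx
  obtain ⟨hy2, hy4, hyu⟩ := hy
  set w := y * x with hw
  have hwu : Commute w u := Commute.mul_left hyu hxu
  have hwB : w • g • Q = g • Q := by
    rw [hw, mul_smul, e, ← mul_smul, Invol.mul_self_eq_one hy2, one_smul]
  have hwC : w • (x * g) • Q = (x * g) • Q := by
    rw [hw, mul_smul, mul_smul, ← mul_smul x x, Invol.mul_self_eq_one hx2, one_smul]
    exact e.symm
  have hne : g • Q ≠ (x * g) • Q := fun h1 => hBx (R.only x g hx2 hx4 (mem_stabilizer_iff.2 (by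
    rw [← mul_smul]; exact h1.symm))).symm
  have hux : u ∈ stabilizer G ((x * g) • Q) := mem_stabilizer_iff.2 (by
    rw [mul_smul, ← mul_smul u x, ← hxu, mul_smul, mem_stabilizer_iff.1 hug])
  have hwodd : Odd (orderOf w) := by
    by_contra hodd
    have hF : fixedBy Ω y = fixedBy Ω x := by
      by_contra hF
      exact hodd (R.odd_mul hy2 hx2 hy4 hx4 hF)
    have heven := Nat.not_odd_iff_even.1 hodd
    set c := w ^ (orderOf w / 2) with hc
    have hc2 : orderOf c = 2 := Invol.orderOf_central heven (orderOf_pos _)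
    have hsub : fixedBy Ω x ⊆ fixedBy Ω w := fun a ha => by
      have hay : y • a = a := (hF.ge ha : a ∈ fixedBy Ω y)
      show w • a = a
      rw [hw, mul_smul, show x • a = a from ha, hay]
    have hcfix := R.ctx.fix_eq (Invol.ne_one hc2) (hsub.trans (fix_pow_subset w _)) hx4
    refine hBx ?_
    rw [← hcfix]
    exact (R.only c g hc2 (by rw [hcfix, hx4]) (pow_mem (mem_stabilizer_iff.2 hwB) _)).symm
  have h1 := R.eq_one_of_two hu2 hufree hwu hwodd hne hug hux (mem_stabilizer_iff.2 hwB)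
    (mem_stabilizer_iff.2 hwC)
  rw [hw, mul_eq_one_iff_eq_inv] at h1
  rw [h1, Invol.inv_eq_self hx2]

omit [Finite G] [Finite Ω] in
theorem smul_mem_transl {u x : G} (hxu : x * u = u * x) {B : Set Ω} (hB : B ∈ transl Q u) :
    x • B ∈ transl Q u := by
  obtain ⟨g, rfl, hug⟩ := hB
  refine ⟨x * g, mul_smul x g Q, mem_stabilizer_iff.2 ?_⟩
  rw [← mul_smul u x, ← hxu, mul_smul, mem_stabilizer_iff.1 hug]

theorem fix_mem_transl (R : Rigid (G := G) Q) {u x : G} (hx : InJ u x Ω) :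
    fixedBy Ω x ∈ transl Q u := by
  obtain ⟨g, hg⟩ := R.translate x hx.1 hx.2.1
  exact ⟨g, hg.symm, mem_stabilizer_iff.2 (smul_fix_of_comm hx.2.2.symm)⟩

theorem exists_fix (R : Rigid (G := G) Q) {u : G} (hu : Rich Q u) {B : Set Ω} (hB : B ∈ transl Q u) :
    ∃ x, InJ u x Ω ∧ fixedBy Ω x = B := by
  obtain ⟨g, rfl, hug⟩ := hB
  have h2 : orderOf (g⁻¹ * u * g) = 2 := by
    rw [show g⁻¹ * u * g = g⁻¹ * u * g⁻¹⁻¹ by group, Invol.orderOf_conj]; exact hu.1
  have hs : g⁻¹ * u * g ∈ stabilizer G Q := mem_stabilizer_iff.2 (by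
    rw [mul_smul, mul_smul, mem_stabilizer_iff.1 hug, inv_smul_smul])
  obtain ⟨x, hx2, hxQ, hxu⟩ := R.fixer _ h2 hs
  refine ⟨g * x * g⁻¹, ⟨?_, ?_, ?_⟩, ?_⟩
  · rw [Invol.orderOf_conj, hx2]
  · rw [card_fix_conj, hxQ, R.card]
  · calc g * x * g⁻¹ * u = g * (x * (g⁻¹ * u * g)) * g⁻¹ := by group
      _ = g * ((g⁻¹ * u * g) * x) * g⁻¹ := by rw [hxu]
      _ = u * (g * x * g⁻¹) := by group
  · rw [fix_conj, hxQ]

/-- The fixed set determines the involution, and every pair of translates is swapped. -/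
theorem rich_count (R : Rigid (G := G) Q) {u : G} (hu : Rich Q u) :
    (∀ x y, InJ u x Ω → InJ u y Ω → fixedBy Ω x = fixedBy Ω y → x = y) ∧
    (∀ B ∈ transl Q u, ∀ C ∈ transl Q u, B ≠ C → ∃ x, InJ u x Ω ∧ B ≠ fixedBy Ω x ∧ x • B = C) := by
  classical
  let J := {x : G // InJ u x Ω}
  let T := ↥(transl Q u)
  let φ : J → T := fun x => ⟨fixedBy Ω x.1, R.fix_mem_transl x.2⟩
  have hsurj : Function.Surjective φ := by
    rintro ⟨B, hB⟩
    obtain ⟨x, hx, e⟩ := R.exists_fix hu hB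
    exact ⟨⟨x, hx⟩, Subtype.ext e⟩
  let Φ : (Σ x : J, {B : T // B ≠ φ x}) → (Σ B : T, {C : T // C ≠ B}) := fun p =>
    ⟨p.2.1, ⟨⟨p.1.1 • (p.2.1 : Set Ω), smul_mem_transl p.1.2.2.2 p.2.1.2⟩, fun e => by
      obtain ⟨g, hg, -⟩ := p.2.1.2
      refine p.2.2 (Subtype.ext ?_)
      show (p.2.1 : Set Ω) = fixedBy Ω p.1.1
      rw [← hg]
      exact (R.only p.1.1 g p.1.2.1 p.1.2.2.1 (mem_stabilizer_iff.2 (by
        rw [hg]; exact congrArg Subtype.val e))).symm⟩⟩
  have hinj : Function.Injective Φ := by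
    rintro ⟨x, B, hB⟩ ⟨y, B', hB'⟩ e
    have e1 : B = B' := congrArg Sigma.fst e
    subst e1
    have e2 : x.1 • (B : Set Ω) = y.1 • (B : Set Ω) :=
      congrArg (fun q : (Σ B : T, {C : T // C ≠ B}) => ((q.2.1 : T) : Set Ω)) e
    have : x = y := Subtype.ext (R.swap_unique hu x.2 y.2 B.2 (fun h => hB (Subtype.ext h))
      (fun h => hB' (Subtype.ext h)) e2)
    subst this
    rfl
  letI := Fintype.ofFinite J
  letI := Fintype.ofFinite T
  have hr : 1 < Nat.card T := by
    obtain ⟨-, -, g, k, hne, hg, hk⟩ := hu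
    rw [Finite.one_lt_card_iff_nontrivial]
    exact ⟨⟨g • Q, g, rfl, hg⟩, ⟨k • Q, k, rfl, hk⟩, fun e => hne (congrArg Subtype.val e)⟩
  have hc : ∀ B : T, Nat.card {C : T // C ≠ B} = Nat.card T - 1 := fun B => by
    rw [Nat.card_eq_fintype_card, Nat.card_eq_fintype_card, Fintype.card_subtype_compl,
      Fintype.card_subtype_eq]
  have hle := Nat.card_le_card_of_injective Φ hinj
  have h1 : Nat.card (Σ x : J, {B : T // B ≠ φ x}) = Nat.card J * (Nat.card T - 1) := by
    rw [Nat.card_sigma, Finset.sum_congr rfl (fun x _ => hc (φ x)), Finset.sum_const, Finset.card_univ,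
      ← Nat.card_eq_fintype_card, smul_eq_mul]
  have h2 : Nat.card (Σ B : T, {C : T // C ≠ B}) = Nat.card T * (Nat.card T - 1) := by
    rw [Nat.card_sigma, Finset.sum_congr rfl (fun x _ => hc x), Finset.sum_const, Finset.card_univ,
      ← Nat.card_eq_fintype_card, smul_eq_mul]
  rw [h1, h2] at hle
  have hJT : Nat.card J = Nat.card T := le_antisymm (Nat.le_of_mul_le_mul_right hle (by omega))
    (Nat.card_le_card_of_surjective φ hsurj)
  have hφ := (Nat.bijective_iff_surjective_and_card φ).2 ⟨hsurj, hJT⟩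
  have hΦ := (Nat.bijective_iff_injective_and_card Φ).2 ⟨hinj, by rw [h1, h2, hJT]⟩
  refine ⟨fun x y hx hy e => congrArg Subtype.val
    (hφ.1 (a₁ := ⟨x, hx⟩) (a₂ := ⟨y, hy⟩) (Subtype.ext e)), fun B hB C hC hBC => ?_⟩
  obtain ⟨⟨x, B', hB'⟩, e⟩ := hΦ.2 ⟨⟨B, hB⟩, ⟨⟨C, hC⟩, fun e => hBC (congrArg Subtype.val e).symm⟩⟩
  have e1 : B' = (⟨B, hB⟩ : T) := congrArg Sigma.fst e
  have e2 : x.1 • (B' : Set Ω) = C :=
    congrArg (fun q : (Σ B : T, {C : T // C ≠ B}) => ((q.2.1 : T) : Set Ω)) e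
  subst e1
  exact ⟨x.1, x.2, fun h => hB' (Subtype.ext h), e2⟩

end Rigid

/-- In the rich case an involution is determined by its fixed points. -/
theorem rich_unique (R : Rigid (G := G) Q) {u x y : G} (hu : Rich Q u) (hx : InJ u x Ω)
    (hy : InJ u y Ω) (e : fixedBy Ω x = fixedBy Ω y) : x = y :=
  (R.rich_count hu).1 x y hx hy e

/-- An involution commuting with a rich involution, or its twist, stabilises a second translate. -/
theorem rich_step (R : Rigid (G := G) Q) {u z a : G} (hu : Rich Q u) (huQ : u ∈ stabilizer G Q)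
    (hz : InJ u z Ω) (hzQ : fixedBy Ω z = Q) (haQ : a ∈ stabilizer G Q) (ha2 : orderOf a = 2)
    (hcom : a * u = u * a) :
    ∃ g : G, g • Q ≠ Q ∧ u ∈ stabilizer G (g • Q) ∧
      (a ∈ stabilizer G (g • Q) ∨ a * z ∈ stabilizer G (g • Q)) := by
  obtain ⟨huniq, hswap⟩ := R.rich_count hu
  have haa : a * a = 1 := Invol.mul_self_eq_one ha2
  have hai : a⁻¹ = a := Invol.inv_eq_self ha2
  have hconj : ∀ s, InJ u s Ω → InJ u (a * s * a⁻¹) Ω := fun s hs => ⟨by rw [Invol.orderOf_conj, hs.1],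
    by rw [card_fix_conj, hs.2.1], ((Commute.mul_left hcom hs.2.2).mul_left
      (Commute.inv_left hcom) : Commute (a * s * a⁻¹) u)⟩
  have haz : a * z * a⁻¹ = z := huniq _ _ (hconj z hz) hz (by
    rw [fix_conj, hzQ, mem_stabilizer_iff.1 haQ])
  obtain ⟨C, hC, hCQ⟩ : ∃ C ∈ Rigid.transl Q u, C ≠ Q := by
    obtain ⟨-, -, g, k, hne, hg, hk⟩ := hu
    by_cases hgQ : g • Q = Q
    · exact ⟨k • Q, ⟨k, rfl, hk⟩, fun e => hne (hgQ.trans e.symm)⟩
    · exact ⟨g • Q, ⟨g, rfl, hg⟩, hgQ⟩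
  have haC := Rigid.smul_mem_transl hcom hC
  by_cases hfix : a • C = C
  · obtain ⟨g, rfl, hug⟩ := hC
    exact ⟨g, hCQ, hug, Or.inl (mem_stabilizer_iff.2 hfix)⟩
  obtain ⟨s, hs, hsC, hse⟩ := hswap C hC (a • C) haC (fun e => hfix e.symm)
  have hne : C ≠ fixedBy Ω (a * s * a⁻¹) := fun h1 => hsC (by
    rw [fix_conj] at h1
    have h3 : fixedBy Ω s = s • C := by
      rw [hse, h1, ← mul_smul, haa, one_smul]
    have h4 : s • fixedBy Ω s = fixedBy Ω s := smul_fix_of_comm rfl
    exact MulAction.injective s (h3.symm.trans h4.symm))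
  have hse' : (a * s * a⁻¹) • C = s • C := by
    rw [hai, mul_smul, mul_smul, ← hse, ← mul_smul s s, Invol.mul_self_eq_one hs.1, one_smul, hse]
  have has : a * s * a⁻¹ = s := R.swap_unique hu (hconj s hs) hs hC hne hsC hse'
  by_cases hsQ : fixedBy Ω s = Q
  · obtain ⟨g, rfl, hug⟩ := hC
    have hsz : s = z := huniq _ _ hs hz (hsQ.trans hzQ.symm)
    refine ⟨g, hCQ, hug, Or.inr (mem_stabilizer_iff.2 ?_)⟩
    rw [mul_smul, ← hsz, hse, ← mul_smul, haa, one_smul]
  · obtain ⟨g, hg, hug⟩ := R.fix_mem_transl hs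
    refine ⟨g, by rw [hg]; exact hsQ, by rw [hg]; exact hug, Or.inl ?_⟩
    rw [hg, mem_stabilizer_iff]
    exact smul_fix_of_comm (mul_inv_eq_iff_eq_mul.1 has)

end Cfsg.Agent.FixFour
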