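import Cfsg.Agent.FixFour.CaseOne
import Cfsg.Agent.FixFour.RichCount
import Cfsg.Agent.FixFour.HalfTurn
import Cfsg.Agent.Fusion.UniqueInvolution
import Cfsg.Agent.Fusion.PGroup
import Cfsg.Prelude.Def_Involutions

/-!
# Fixity four: the case of involutions with four fixed points
-/

set_option autoImplicit false

namespace Cfsg.Agent.FixFour

open MulAction Pointwise Subgroup

universe u v

variable {G : Type u} [Group G] {Ω : Type v} [MulAction G Ω]

theorem zero_or_four [Finite Ω] (h : Ctx G Ω) {t₀ : G} (ht₀ : orderOf t₀ = 2)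
    (h₀ : Nat.card (fixedBy Ω t₀) = 4) {x : G} (hx : orderOf x = 2) :
    fixedBy Ω x = ∅ ∨ Nat.card (fixedBy Ω x) = 4 := by
  have a := invol_parity h hx
  have b := invol_parity h ht₀
  have c := h.le4 x (fun e => by rw [e, orderOf_one] at hx; omega)
  have hn := h.five
  rcases (by omega : Nat.card (fixedBy Ω x) = 0 ∨ Nat.card (fixedBy Ω x) = 4) with h0 | h4
  · left
    rw [Nat.card_coe_set_eq, Set.ncard_eq_zero (Set.toFinite _)] at h0
    exact h0
  · exact Or.inr h4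

theorem sec_of_le_32 [Finite G] [Finite Ω] (h : Ctx G Ω) (S : Sylow 2 G) {t : G}
    (htS : t ∈ (S : Subgroup G)) (hQ : Nat.card (fixedBy Ω t) = 4)
    (hSQ : (S : Subgroup G) ≤ stabilizer G (fixedBy Ω t))
    (hT : Nat.card ↥((S : Subgroup G) ⊓ pointStab (fixedBy Ω t)) ≤ 4) :
    Cfsg.SectionalPRankLE 2 4 G := by
  set Q := fixedBy Ω t
  obtain ⟨j, hj3, hj⟩ := relIndex_pow hQ S.2 hSQ
  have hcard : Nat.card ↥((S : Subgroup G) ⊓ pointStab Q) * (pointStab Q).relIndex (S : Subgroup G)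
      = Nat.card (S : Subgroup G) := by
    rw [← inf_relIndex_left, ← Nat.card_congr (subgroupOfEquivOfLe
      (inf_le_left : (S : Subgroup G) ⊓ pointStab Q ≤ S)).toEquiv]
    exact (((S : Subgroup G) ⊓ pointStab Q).subgroupOf S).card_mul_index
  refine SecRankFour.sectional_of_good S ?_
  have hTpos : 0 < Nat.card ↥((S : Subgroup G) ⊓ pointStab Q) := Nat.card_pos
  by_cases hexp : ∀ s ∈ (S : Subgroup G), s * s = 1
  · have := relIndex_abelian hQ S.2 hSQ (comm_of_sq _ hexp)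
    have h16 : Nat.card (S : Subgroup G) ≤ 16 := by
      rw [← hcard]; exact (Nat.mul_le_mul hT this).trans le_rfl
    intro K N hKS _ _ _
    calc Nat.card K ≤ 16 := (card_le_of_le hKS).trans h16
      _ ≤ 16 * Nat.card N := Nat.le_mul_of_pos_right _ Nat.card_pos
  · push Not at hexp
    obtain ⟨s, hs, hss⟩ := hexp
    refine SecRankFour.good_of_cyclic hs ?_
    have h4 : 4 ≤ orderOf s := by
      have : Fact (Nat.Prime 2) := ⟨Nat.prime_two⟩
      obtain ⟨m, hm⟩ := IsPGroup.iff_orderOf.mp S.2 ⟨s, hs⟩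
      rw [Subgroup.orderOf_mk] at hm
      rw [hm]
      rcases (by omega : m ≤ 1 ∨ 2 ≤ m) with h1 | h2
      · refine absurd ?_ hss
        rw [← pow_two]
        refine orderOf_dvd_iff_pow_eq_one.1 ?_
        rw [hm]
        exact pow_dvd_pow 2 h1
      · exact (Nat.pow_le_pow_right two_pos h2).trans' (by norm_num)
    rw [← hcard, hj]
    calc _ ≤ 4 * 2 ^ 3 := Nat.mul_le_mul hT (Nat.pow_le_pow_right two_pos hj3)
      _ ≤ 8 * orderOf s := by omega

theorem sylow_conj_mem [Finite G] {p : ℕ} [Fact p.Prime] {x : G} (hx : IsPGroup p (zpowers x))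
    (S : Sylow p G) {H : Subgroup G} (hSH : (S : Subgroup G) ≤ H) (hxH : x ∈ H) :
    ∃ k ∈ H, k⁻¹ * x * k ∈ (S : Subgroup G) := by
  have hpx : IsPGroup p (zpowers (⟨x, hxH⟩ : H)) := by
    refine (hx.of_injective ((H.subtype.comp (zpowers (⟨x, hxH⟩ : H)).subtype).codRestrict (zpowers x) ?_) ?_)
    · rintro ⟨w, hw⟩
      obtain ⟨i, rfl⟩ := mem_zpowers_iff.1 hw
      exact ⟨i, rfl⟩
    · intro a b e
      exact Subtype.ext (Subtype.ext (congrArg (fun c : zpowers x => (c : G)) e))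
  obtain ⟨R, hR⟩ := hpx.exists_le_sylow
  obtain ⟨k, hk⟩ := MulAction.exists_smul_eq H (S.subtype hSH) R
  have hxR : (⟨x, hxH⟩ : H) ∈ (R : Subgroup H) := hR (mem_zpowers _)
  rw [← hk, Sylow.coe_subgroup_smul, mem_pointwise_smul_iff_inv_smul_mem, ← map_inv] at hxR
  change (k⁻¹ : H) * ⟨x, hxH⟩ * (k⁻¹ : H)⁻¹ ∈ (S : Subgroup G).subgroupOf H at hxR
  simp only [mem_subgroupOf, coe_mul, coe_inv, inv_inv] at hxR
  exact ⟨k, k.2, hxR⟩

theorem card_filter_four {s : Subgroup G} [Finite G] {a b c d : G}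
    (h : ∀ x ∈ s, x = a ∨ x = b ∨ x = c ∨ x = d) : Nat.card s ≤ 4 := by
  classical
  have hle : Nat.card s ≤ Nat.card (({a, b, c, d} : Finset G) : Type _) := by
    refine Nat.card_le_card_of_injective (fun w => ⟨w.1, ?_⟩) fun p q e => Subtype.ext (congrArg (fun w : ({a, b, c, d} : Finset G) => (w : G)) e)
    rcases h w.1 w.2 with e | e | e | e <;> simp [e]
  refine hle.trans ?_
  rw [Nat.card_eq_finsetCard]
  exact Finset.card_le_four

theorem rich_conj {Q : Set Ω} {u k : G} (hu : Rich Q u) : Rich Q (k * u * k⁻¹) := by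
  obtain ⟨h2, hf, a, b, hne, ha, hb⟩ := hu
  refine ⟨by rw [← h2]; exact (MulEquiv.orderOf_eq (MulAut.conj k) u),
    by rw [fix_conj, hf]; exact Set.smul_set_empty, k * a, k * b, ?_, ?_, ?_⟩
  · rw [mul_smul, mul_smul]
    exact fun e => hne (smul_left_cancel k e)
  · rw [mem_stabilizer_iff, mul_smul k a, mul_smul, mul_smul, inv_smul_smul, mem_stabilizer_iff.1 ha]
  · rw [mem_stabilizer_iff, mul_smul k b, mul_smul, mul_smul, inv_smul_smul, mem_stabilizer_iff.1 hb]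

theorem exists_central_invol_mem [Finite G] (S : Sylow 2 G) {B : Subgroup G} (hBS : B ≤ (S : Subgroup G))
    (hn : ∀ g ∈ (S : Subgroup G), ∀ a ∈ B, g * a * g⁻¹ ∈ B) (hne : B ≠ ⊥) :
    ∃ b ∈ B, orderOf b = 2 ∧ ∀ s ∈ (S : Subgroup G), b * s = s * b := by
  have : Fact (Nat.Prime 2) := ⟨Nat.prime_two⟩
  haveI : (B.subgroupOf S).Normal := ⟨fun a ha g => mem_subgroupOf.2 (by
    simpa using hn g g.2 a (mem_subgroupOf.1 ha))⟩
  have h1 := Fusion.pGroup_inf_center_ne_bot S.2 (B.subgroupOf S) (fun e => hne (by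
    rw [subgroupOf_eq_bot, disjoint_iff, inf_eq_left.2 hBS] at e; exact e))
  obtain ⟨x, hx, hx1⟩ := (bot_or_exists_ne_one _).resolve_left h1
  have hxB : (x : G) ∈ B ∧ ∀ g : ↥(S : Subgroup G), g * x = x * g := by
    obtain ⟨p, q⟩ := mem_inf.1 hx
    first
      | exact ⟨mem_subgroupOf.1 p, mem_center_iff.1 q⟩
      | exact ⟨mem_subgroupOf.1 q, mem_center_iff.1 p⟩
  obtain ⟨k, hk⟩ := exists_pow_invol S.2 x.2 (fun e => hx1 (Subtype.ext e))
  exact ⟨(x : G) ^ k, pow_mem hxB.1 k, hk, fun s hs =>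
    ((Commute.pow_left (congrArg Subtype.val (hxB.2 ⟨s, hs⟩)).symm k : Commute ((x : G) ^ k) s))⟩

/-- The rigid case with a Sylow subgroup whose pointwise stabiliser has index four. -/
theorem rigid_case [Finite G] [Finite Ω] {Q : Set Ω} (R : Rigid (G := G) Q) (S : Sylow 2 G)
    (hSQ : (S : Subgroup G) ≤ stabilizer G Q)
    (hidx : (pointStab Q).relIndex (S : Subgroup G) = 4)
    (hout : ∀ s ∈ (S : Subgroup G), s ∉ pointStab Q → fixedBy Ω s = ∅)
    (u₀ : G) (hu₀ : Rich Q u₀) (hu₀S : u₀ ∈ (S : Subgroup G))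
    (z : G) (hzS : z ∈ (S : Subgroup G)) (hz2 : orderOf z = 2) (hzQ : fixedBy Ω z = Q)
    (hzc : ∀ s ∈ (S : Subgroup G), z * s = s * z) :
    Cfsg.SectionalPRankLE 2 4 G := by
  have : Fact (Nat.Prime 2) := ⟨Nat.prime_two⟩
  set T := (S : Subgroup G) ⊓ pointStab Q with hT
  have hTS : T ≤ (S : Subgroup G) := inf_le_left
  have hzT : z ∈ T := mem_inf.2 ⟨hzS, mem_pointStab.2 fun a ha => (hzQ.symm ▸ ha : a ∈ fixedBy Ω z)⟩
  have hzz := sq_one_of_two hz2
  have hfT : ∀ x ∈ T, x ≠ 1 → fixedBy Ω x = Q := fun x hx => fix_of_mem R.ctx R.card (mem_inf.1 hx).2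
  have hnT : ∀ s ∈ (S : Subgroup G), ∀ a ∈ T, s * a * s⁻¹ ∈ T := fun s hs a ha =>
    mem_inf.2 ⟨mul_mem (mul_mem hs (mem_inf.1 ha).1) (inv_mem hs), normal_pointStab (hSQ hs) (mem_inf.1 ha).2⟩
  have hout' : ∀ s ∈ (S : Subgroup G), s ∉ T → fixedBy Ω s = ∅ := fun s hs hsT =>
    hout s hs fun e => hsT (mem_inf.2 ⟨hs, e⟩)
  have hrichT : ∀ v, Rich Q v → v ∉ T := fun v hv hvT => by
    have h1 := hfT v hvT (fun e => by have := hv.1; rw [e, orderOf_one] at this; omega)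
    rw [hv.2.1] at h1
    have := R.card
    rw [← h1] at this
    simp at this
  have hJz : ∀ v ∈ (S : Subgroup G), InJ v z Ω := fun v hv => ⟨hz2, by rw [hzQ, R.card], hzc v hv⟩
  have huniq : ∀ v ∈ (S : Subgroup G), Rich Q v → ∀ x ∈ T, x * x = 1 → x * v = v * x → x = 1 ∨ x = z := by
    intro v hv hrv x hx hxx hxv
    refine or_iff_not_imp_left.2 fun hx1 => rich_unique R hrv ⟨order_two hxx hx1, ?_, hxv⟩ (hJz v hv) ?_
    · rw [hfT x hx hx1, R.card]
    · rw [hfT x hx hx1, hzQ]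
  have hstep : ∀ v ∈ (S : Subgroup G), Rich Q v → ∀ a ∈ (S : Subgroup G), a * a = 1 → a ∉ T →
      a * v = v * a → Rich Q a ∨ Rich Q (a * z) := by
    intro v hv hrv a ha haa haT hav
    have ha1 : a ≠ 1 := fun e => haT (e ▸ one_mem T)
    obtain ⟨g, hg, -, hga | hgaz⟩ := rich_step R hrv (hSQ hv) (hJz v hv) hzQ (hSQ ha) (order_two haa ha1) hav
    · exact Or.inl ⟨order_two haa ha1, hout' a ha haT, g, 1, by rwa [one_smul], hga,
        by rw [one_smul]; exact hSQ ha⟩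
    · have hazT : a * z ∉ T := fun e => haT (by simpa [mul_assoc, hzz] using mul_mem e hzT)
      refine Or.inr ⟨order_two ?_ fun e => hazT (e ▸ one_mem T), hout' _ (mul_mem ha hzS) hazT, g, 1,
        by rwa [one_smul], hgaz, by rw [one_smul]; exact hSQ (mul_mem ha hzS)⟩
      rw [show a * z * (a * z) = a * (z * a) * z by group, hzc a ha, ← mul_assoc, haa, one_mul, hzz]
  by_cases hA : ∀ A : Subgroup G, A ≤ (S : Subgroup G) → (∀ g ∈ (S : Subgroup G), ∀ a ∈ A, g * a * g⁻¹ ∈ A) →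
      (∀ a ∈ A, a * a = 1) → Nat.card A ≤ 4
  · exact sectional_of_sylow S (sec_of_no_normal _ S.2 fun A h1 h2 _ h4 => hA A h1 h2 h4)
  push Not at hA
  obtain ⟨A, hAS, hAn, hA2, hA4⟩ := hA
  have hAc := comm_of_sq A hA2
  have huu := sq_one_of_two hu₀.1
  have hu₀T := hrichT u₀ hu₀
  have hAB : ∀ B : Subgroup G, B = A ⊓ T → 2 ≤ Nat.card B := fun B hB => by
    have h1 : (pointStab Q).relIndex A ≤ 4 := hidx ▸
      relIndex_le_of_le_right hAS index_ne_zero_of_finite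
    have h2 : Nat.card B * (pointStab Q).relIndex A = Nat.card A := by
      rw [hB, hT, ← inf_assoc, inf_eq_left.2 hAS, ← inf_relIndex_left, ← Nat.card_congr
        (subgroupOfEquivOfLe (inf_le_left : A ⊓ pointStab Q ≤ A)).toEquiv]
      exact ((A ⊓ pointStab Q).subgroupOf A).card_mul_index
    by_contra hc
    have := Nat.mul_le_mul (show Nat.card B ≤ 1 by omega) h1
    omega
  have hzA : z ∈ A := by
    have hne : A ⊓ T ≠ ⊥ := fun e => by
      have := hAB _ rfl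
      rw [e, card_bot] at this
      omega
    obtain ⟨b, hb, hb2, hbc⟩ := exists_central_invol_mem S (inf_le_left.trans hAS)
      (fun g hg a ha => mem_inf.2 ⟨hAn g hg a (mem_inf.1 ha).1, hnT g hg a (mem_inf.1 ha).2⟩) hne
    rcases huniq u₀ hu₀S hu₀ b (mem_inf.1 hb).2 (sq_one_of_two hb2) (hbc u₀ hu₀S) with h1 | h1
    · rw [h1, orderOf_one] at hb2; omega
    · exact h1 ▸ (mem_inf.1 hb).1
  -- a rich involution in `A`
  obtain ⟨v, hvA, hv⟩ : ∃ v ∈ A, Rich Q v := by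
    set C := A ⊓ centralizer ({u₀} : Set G) with hC
    have hC4 : 3 ≤ Nat.card C := by
      have := card_le_cent_sq A hA2 u₀ huu (fun a ha => hAn u₀ hu₀S a ha)
      rw [← hC] at this
      by_contra hc
      have := Nat.pow_le_pow_left (show Nat.card C ≤ 2 by omega) 2
      omega
    obtain ⟨a, ha, haT⟩ : ∃ a ∈ C, a ∉ T := by
      by_contra hc
      push Not at hc
      have : Nat.card C ≤ 2 := by
        refine (card_le_of_le (K := zpowers z) fun x hx => ?_).trans (by rw [Nat.card_zpowers, hz2])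
        rcases huniq u₀ hu₀S hu₀ x (hc x hx) (hA2 x (mem_inf.1 hx).1)
          (mem_centralizer_singleton_iff.1 (mem_inf.1 hx).2) with rfl | rfl
        · exact one_mem _
        · exact mem_zpowers _
      omega
    rcases hstep u₀ hu₀S hu₀ a (hAS (mem_inf.1 ha).1) (hA2 a (mem_inf.1 ha).1) haT
      (mem_centralizer_singleton_iff.1 (mem_inf.1 ha).2) with hr | hr
    · exact ⟨a, (mem_inf.1 ha).1, hr⟩
    · exact ⟨a * z, mul_mem (mem_inf.1 ha).1 hzA, hr⟩
  have hvS := hAS hvA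
  have hvT := hrichT v hv
  have hB : ∀ x ∈ A, x ∈ T → x = 1 ∨ x = z := fun x hx hxT =>
    huniq v hvS hv x hxT (hA2 x hx) (hAc x hx v hvA)
  have hB2 : Nat.card ↥(A ⊓ T) = 2 := le_antisymm
    ((card_le_of_le (K := zpowers z) fun x hx => by
      rcases hB x (mem_inf.1 hx).1 (mem_inf.1 hx).2 with rfl | rfl
      · exact one_mem _
      · exact mem_zpowers _).trans (by rw [Nat.card_zpowers, hz2])) (hAB _ rfl)
  obtain ⟨a₀, ha₀, ha₀T, ha₀v⟩ : ∃ a₀ ∈ A, a₀ ∉ T ∧ a₀ * v ∉ T := by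
    by_contra hc
    push Not at hc
    have hle : Nat.card A ≤ 4 := card_filter_four (a := 1) (b := z) (c := v) (d := z * v) fun x hx => by
      by_cases hxT : x ∈ T
      · rcases hB x hx hxT with e | e <;> simp [e]
      · rcases hB (x * v) (mul_mem hx hvA) (hc x hx hxT) with e | e
        · right; right; left
          rw [eq_inv_of_mul_eq_one_left e, inv_eq_of_mul_eq_one_right (hA2 v hvA)]
        · right; right; right
          rw [← e, mul_assoc, hA2 v hvA, mul_one]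
    omega
  have hTz : ∀ a ∈ A, ∀ w ∈ A, Rich Q w → a ∉ T → Rich Q a ∨ Rich Q (a * z) := fun a ha w hw hwr haT =>
    hstep w (hAS hw) hwr a (hAS ha) (hA2 a ha) haT (hAc a ha w hw)
  obtain ⟨u₁, hu₁A, hu₁, hu₁v⟩ : ∃ u₁ ∈ A, Rich Q u₁ ∧ u₁ * v ∉ T := by
    rcases hTz a₀ ha₀ v hvA hv ha₀T with hr | hr
    · exact ⟨a₀, ha₀, hr, ha₀v⟩
    · refine ⟨a₀ * z, mul_mem ha₀ hzA, hr, fun e => ha₀v ?_⟩
      have h1 : a₀ * z * v * z = a₀ * v := by
        rw [mul_assoc (a₀ * z), ← hzc v hvS, ← mul_assoc, mul_assoc a₀ z z, hzz, mul_one]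
      exact h1 ▸ mul_mem e hzT
  obtain ⟨w, hwA, hw, hwv⟩ : ∃ w ∈ A, Rich Q w ∧ (w = u₁ * v ∨ w = u₁ * v * z) := by
    rcases hTz (u₁ * v) (mul_mem hu₁A hvA) v hvA hv hu₁v with hr | hr
    · exact ⟨_, mul_mem hu₁A hvA, hr, Or.inl rfl⟩
    · exact ⟨_, mul_mem (mul_mem hu₁A hvA) hzA, hr, Or.inr rfl⟩
  -- `T` has a single involution
  have hone : ∀ τ ∈ T, orderOf τ = 2 → τ = z := by
    intro τ hτ hτ2
    have hττ := sq_one_of_two hτ2
    have hτ1 : τ ≠ 1 := fun e => by rw [e, orderOf_one] at hτ2; omega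
    have hτi : τ⁻¹ = τ := inv_eq_of_mul_eq_one_right hττ
    have hd : ∀ a ∈ A, a * (τ * a * τ⁻¹) = 1 ∨ a * (τ * a * τ⁻¹) = z := fun a ha => by
      refine hB _ (mul_mem ha (hAn τ (hTS hτ) a ha)) ?_
      have h1 := mul_mem (hnT a (hAS ha) τ hτ) (inv_mem hτ)
      rwa [inv_eq_of_mul_eq_one_right (hA2 a ha), show a * τ * a * τ⁻¹ = a * (τ * a * τ⁻¹) by group] at h1
    have hcm : ∀ a ∈ A, a * (τ * a * τ⁻¹) = 1 → τ * a = a * τ := fun a ha e => by
      have h1 := inv_eq_of_mul_eq_one_right e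
      rw [inv_eq_of_mul_eq_one_right (hA2 a ha)] at h1
      exact mul_inv_eq_iff_eq_mul.1 h1.symm
    obtain ⟨r, hrA, hr, hrc⟩ : ∃ r ∈ A, Rich Q r ∧ τ * r = r * τ := by
      rcases hd v hvA with h1 | h1
      · exact ⟨v, hvA, hv, hcm v hvA h1⟩
      rcases hd u₁ hu₁A with h2 | h2
      · exact ⟨u₁, hu₁A, hu₁, hcm u₁ hu₁A h2⟩
      have hv' : τ * v * τ⁻¹ = v * z := by
        rw [← h1, ← mul_assoc v, hA2 v hvA, one_mul]
      have hu' : τ * u₁ * τ⁻¹ = u₁ * z := by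
        rw [← h2, ← mul_assoc u₁, hA2 u₁ hu₁A, one_mul]
      have h3 : τ * (u₁ * v) * τ⁻¹ = u₁ * v := by
        rw [show τ * (u₁ * v) * τ⁻¹ = τ * u₁ * τ⁻¹ * (τ * v * τ⁻¹) by group, hu', hv',
          show u₁ * z * (v * z) = u₁ * (z * v) * z by group, hzc v hvS, ← mul_assoc, mul_assoc (u₁ * v),
          hzz, mul_one]
      refine ⟨w, hwA, hw, mul_inv_eq_iff_eq_mul.1 ?_⟩
      rcases hwv with rfl | rfl
      · exact h3
      · rw [show τ * (u₁ * v * z) * τ⁻¹ = τ * (u₁ * v) * τ⁻¹ * (τ * z * τ⁻¹) by group, h3,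
          ← hzc τ (hTS hτ), mul_inv_cancel_right]
    exact (huniq r (hAS hrA) hr τ hτ hττ hrc).resolve_left hτ1
  obtain ⟨c, hc, hTc⟩ : ∃ c ∈ T, Nat.card T ≤ 2 * orderOf c := by
    rcases Fusion.cyclic_or_quaternion (G := T) (S.2.to_le hTS) (fun a b ha hb => Subtype.ext
      ((hone a a.2 (by rwa [Subgroup.orderOf_coe])).trans (hone b b.2 (by rwa [Subgroup.orderOf_coe])).symm))
      with hcy | ⟨k, hk, ⟨e⟩⟩
    · obtain ⟨c, hc⟩ := IsCyclic.exists_ofOrder_eq_natCard (α := T)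
      exact ⟨c, c.2, by rw [Subgroup.orderOf_coe, hc]; omega⟩
    · haveI : NeZero (2 ^ k) := ⟨pow_ne_zero _ two_ne_zero⟩
      refine ⟨(e.symm (QuaternionGroup.a 1) : T), SetLike.coe_mem _, ?_⟩
      rw [Subgroup.orderOf_coe, e.symm.orderOf_eq, QuaternionGroup.orderOf_a_one, Nat.card_congr e.toEquiv,
        Nat.card_eq_fintype_card, QuaternionGroup.card]
      omega
  refine SecRankFour.sectional_of_good S (SecRankFour.good_of_cyclic (hTS hc) ?_)
  have h2 : Nat.card T * (pointStab Q).relIndex (S : Subgroup G) = Nat.card (S : Subgroup G) := by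
    rw [hT, ← inf_relIndex_left, ← Nat.card_congr (subgroupOfEquivOfLe
      (inf_le_left : (S : Subgroup G) ⊓ pointStab Q ≤ S)).toEquiv]
    exact (((S : Subgroup G) ⊓ pointStab Q).subgroupOf S).card_mul_index
  rw [← h2, hidx]
  omega

/-- The case of involutions with four fixed points. -/
theorem four_case [Finite G] [Finite Ω] (h : Ctx G Ω) {t₀ : G} (ht₀ : orderOf t₀ = 2)
    (h₀ : Nat.card (fixedBy Ω t₀) = 4) :
    (∃ H : Subgroup G, Cfsg.IsStronglyEmbedded H) ∨ Cfsg.SectionalPRankLE 2 4 G := by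
  have : Fact (Nat.Prime 2) := ⟨Nat.prime_two⟩
  refine or_iff_not_imp_right.2 fun hno => ?_
  have hyp1 : ∀ (S : Sylow 2 G) (x : G), x ∈ (S : Subgroup G) → orderOf x = 2 →
      Nat.card (fixedBy Ω x) = 4 → (S : Subgroup G) ≤ stabilizer G (fixedBy Ω x) := by
    intro S x hxS hx hx4
    by_contra hH
    exact hno (sectional_of_sylow S (case_one h S hxS hx hx4 hH))
  have hz4 : ∀ x : G, orderOf x = 2 → fixedBy Ω x = ∅ ∨ Nat.card (fixedBy Ω x) = 4 := fun x hx =>
    zero_or_four h ht₀ h₀ hx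
  obtain ⟨S, hS0⟩ := (IsPGroup.of_card (n := 1)
    (by rw [Nat.card_zpowers, ht₀, pow_one] : Nat.card (zpowers t₀) = 2 ^ 1)).exists_le_sylow
  have ht₀S : t₀ ∈ (S : Subgroup G) := hS0 (mem_zpowers t₀)
  set Q := fixedBy Ω t₀ with hQ
  have hSQ := hyp1 S t₀ ht₀S ht₀ h₀
  set T := (S : Subgroup G) ⊓ pointStab Q with hT
  have hT5 : 5 ≤ Nat.card T := by
    by_contra hc
    exact hno (sec_of_le_32 h S ht₀S h₀ hSQ (Nat.le_of_lt_succ (not_le.1 hc)))
  have hTS : T ≤ (S : Subgroup G) := inf_le_left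
  have hfT : ∀ x ∈ T, x ≠ 1 → fixedBy Ω x = Q := fun x hx => fix_of_mem h h₀ (mem_inf.1 hx).2
  have hnT : ∀ s ∈ (S : Subgroup G), ∀ a ∈ T, s * a * s⁻¹ ∈ T := fun s hs a ha =>
    mem_inf.2 ⟨mul_mem (mul_mem hs (mem_inf.1 ha).1) (inv_mem hs), normal_pointStab (hSQ hs) (mem_inf.1 ha).2⟩
  have ht₀T : t₀ ∈ T := mem_inf.2 ⟨ht₀S, mem_pointStab.2 fun a ha => ha⟩
  -- every involution of `S` with four fixed points fixes `Q`
  have hinS : ∀ x ∈ (S : Subgroup G), orderOf x = 2 → Nat.card (fixedBy Ω x) = 4 → fixedBy Ω x = Q := by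
    intro x hxS hx hx4
    by_contra hne
    rcases small_on hx4 h₀ (fun e => hne e.symm) (S.2.to_le hTS) (hTS.trans (hyp1 S x hxS hx hx4)) hfT
      with hs | hs
    · omega
    · have := Nat.le_of_dvd (by norm_num) hs
      omega
  have htrans : ∀ x : G, orderOf x = 2 → Nat.card (fixedBy Ω x) = 4 → ∃ g : G, fixedBy Ω x = g • Q := by
    intro x hx hx4
    obtain ⟨R, hR⟩ := (IsPGroup.of_card (n := 1)
      (by rw [Nat.card_zpowers, hx, pow_one] : Nat.card (zpowers x) = 2 ^ 1)).exists_le_sylow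
    obtain ⟨g, hg⟩ := MulAction.exists_smul_eq G S R
    have hxR : x ∈ (R : Subgroup G) := hR (mem_zpowers x)
    rw [← hg, Sylow.coe_subgroup_smul, mem_pointwise_smul_iff_inv_smul_mem, ← map_inv] at hxR
    change g⁻¹ * x * g⁻¹⁻¹ ∈ (S : Subgroup G) at hxR
    refine ⟨g, ?_⟩
    have h1 := hinS _ hxR (by rw [← hx]; exact MulEquiv.orderOf_eq (MulAut.conj g⁻¹) x)
      (by rw [card_fix_conj, hx4])
    rw [fix_conj] at h1
    rw [← h1, smul_inv_smul]
  have honly : ∀ x g : G, orderOf x = 2 → Nat.card (fixedBy Ω x) = 4 → x ∈ stabilizer G (g • Q) →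
      fixedBy Ω x = g • Q := by
    intro x g hx hx4 hxQ
    have hy2 : orderOf (g⁻¹ * x * g⁻¹⁻¹) = 2 := by rw [← hx]; exact MulEquiv.orderOf_eq (MulAut.conj g⁻¹) x
    have hyQ : g⁻¹ * x * g⁻¹⁻¹ ∈ stabilizer G Q := by
      rw [mem_stabilizer_iff, inv_inv, mul_smul, mul_smul, mem_stabilizer_iff.1 hxQ, inv_smul_smul]
    obtain ⟨k, hk, hkS⟩ := sylow_conj_mem (IsPGroup.of_card (n := 1)
      (by rw [Nat.card_zpowers, hy2, pow_one])) S hSQ hyQ
    have h1 := hinS _ hkS (by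
      rw [← hy2, show k⁻¹ * (g⁻¹ * x * g⁻¹⁻¹) * k = k⁻¹ * (g⁻¹ * x * g⁻¹⁻¹) * k⁻¹⁻¹ by group]
      exact MulEquiv.orderOf_eq (MulAut.conj k⁻¹) _)
      (by rw [show k⁻¹ * (g⁻¹ * x * g⁻¹⁻¹) * k = (g * k)⁻¹ * x * (g * k)⁻¹⁻¹ by group, card_fix_conj, hx4])
    rw [show k⁻¹ * (g⁻¹ * x * g⁻¹⁻¹) * k = (g * k)⁻¹ * x * (g * k)⁻¹⁻¹ by group, fix_conj,
      inv_smul_eq_iff, mul_smul, mem_stabilizer_iff.1 hk] at h1
    exact h1
  have hfixer : ∀ u : G, orderOf u = 2 → u ∈ stabilizer G Q →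
      ∃ x : G, orderOf x = 2 ∧ fixedBy Ω x = Q ∧ x * u = u * x := by
    intro u hu huQ
    obtain ⟨k, hk, hkS⟩ := sylow_conj_mem (IsPGroup.of_card (n := 1)
      (by rw [Nat.card_zpowers, hu, pow_one])) S hSQ huQ
    obtain ⟨b, hb, hb2, hbc⟩ := exists_central_invol_mem S hTS hnT
      (fun e => by rw [e, card_bot] at hT5; omega)
    refine ⟨k * b * k⁻¹, by rw [← hb2]; exact MulEquiv.orderOf_eq (MulAut.conj k) b, ?_, ?_⟩
    · rw [fix_conj, hfT b hb (fun e => by rw [e, orderOf_one] at hb2; omega), mem_stabilizer_iff.1 hk]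
    · have := hbc _ hkS
      calc k * b * k⁻¹ * u = k * (b * (k⁻¹ * u * k)) * k⁻¹ := by group
        _ = k * (k⁻¹ * u * k * b) * k⁻¹ := by rw [this]
        _ = u * (k * b * k⁻¹) := by group
  -- the degree
  have hTn : Nat.card T ∣ Nat.card Ω - 4 := by
    have := card_dvd_of_free T (Qᶜ : Set Ω) (fun t ht a ha e => ha ((smul_mem_iff (hSQ (hTS ht)) a).1 e))
      (fun t ht ht1 a ha e => ha (hfT t ht ht1 ▸ (e : a ∈ fixedBy Ω t)))
    rwa [Nat.card_coe_set_eq, Set.ncard_compl, ← Nat.card_coe_set_eq, h₀] at this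
  have h8T : 8 ∣ Nat.card T := by
    obtain ⟨m, hm⟩ := two_pow_card S.2 hTS
    rw [hm] at hT5 ⊢
    refine pow_dvd_pow 2 (show 3 ≤ m from ?_)
    by_contra hc
    have := Nat.pow_le_pow_right two_pos (show m ≤ 2 by omega)
    omega
  have h8n : ¬ 8 ∣ Nat.card Ω := fun hd => by
    have := h8T.trans hTn
    have := h.five
    omega
  have h4n : 4 ∣ Nat.card Ω := by
    have := h8T.trans hTn
    have := h.five
    omega
  have R : Rigid (G := G) Q := ⟨h, h₀, h8n, hz4, htrans, honly, hfixer⟩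
  -- point stabilisers have index at least four
  have hpt : ∀ a : Ω, 4 * Nat.card ↥((S : Subgroup G) ⊓ stabilizer G a) ≤ Nat.card (S : Subgroup G) := by
    intro a
    haveI := h.trans
    obtain ⟨m, hm⟩ := IsPGroup.iff_card.mp S.2
    obtain ⟨i, hi⟩ := two_pow_card S.2 (inf_le_left : (S : Subgroup G) ⊓ stabilizer G a ≤ S)
    have hd : 2 ^ (i + 2) ∣ Nat.card G := by
      rw [← card_mul_index (stabilizer G a), index_stabilizer_of_transitive, pow_add]
      exact mul_dvd_mul (hi ▸ card_dvd_of_le inf_le_right) h4n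
    have hle := Nat.le_of_dvd Nat.card_pos (S.pow_dvd_card_of_pow_dvd_card hd)
    rw [hi]
    calc 4 * 2 ^ i = 2 ^ (i + 2) := by ring
      _ ≤ _ := hle
  obtain ⟨j, hj3, hj⟩ := relIndex_pow h₀ S.2 hSQ
  have hcardS : Nat.card T * 2 ^ j = Nat.card (S : Subgroup G) := by
    rw [← hj, hT, ← inf_relIndex_left, ← Nat.card_congr (subgroupOfEquivOfLe
      (inf_le_left : (S : Subgroup G) ⊓ pointStab Q ≤ S)).toEquiv]
    exact (((S : Subgroup G) ⊓ pointStab Q).subgroupOf S).card_mul_index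
  obtain ⟨a, haQ⟩ : Q.Nonempty := Set.nonempty_coe_sort.1 (Nat.card_pos_iff.1 (by omega)).1
  have hTle : ∀ b ∈ Q, T ≤ (S : Subgroup G) ⊓ stabilizer G b := fun b hb x hx =>
    mem_inf.2 ⟨hTS hx, mem_stabilizer_iff.2 (mem_pointStab.1 (mem_inf.1 hx).2 b hb)⟩
  have hj2 : 2 ≤ j := by
    by_contra hc
    have h1 := hpt a
    have h2 := card_le_of_le (hTle a haQ)
    have h3 := Nat.mul_le_mul_left (Nat.card T) (Nat.pow_le_pow_right two_pos (show j ≤ 1 by omega))
    omega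
  -- an element outside `T` without fixed points among the powers
  have hfree : ∀ s ∈ (S : Subgroup G), ∀ k : ℕ, s ^ k ≠ 1 → fixedBy Ω (s ^ k) ⊆ Q := by
    intro s hs k hk b hb
    obtain ⟨i, hi⟩ := exists_pow_invol S.2 (pow_mem hs k) hk
    have hb' := fix_pow_subset (s ^ k) i hb
    rcases hz4 _ hi with h0 | h4
    · rw [h0] at hb'; exact hb'.elim
    · rw [hinS _ (pow_mem (pow_mem hs k) i) hi h4] at hb'; exact hb'
  by_cases hj4 : j = 3
  · -- an element inducing a transposition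
    exfalso
    have hTlt : T < (S : Subgroup G) ⊓ stabilizer G a := by
      refine lt_of_le_of_ne (hTle a haQ) fun e => ?_
      -- the orbit of `a` lies in `Q`
      have horb : ((S : Subgroup G) ⊓ stabilizer G a).relIndex (S : Subgroup G) ≤ 4 := by
        rw [inf_relIndex_left]
        show ((stabilizer G a).subgroupOf (S : Subgroup G)).index ≤ 4
        rw [← show stabilizer ↥(S : Subgroup G) a = (stabilizer G a).subgroupOf (S : Subgroup G) from rfl,
          index_stabilizer, ← h₀, Nat.card_coe_set_eq]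
        refine Set.ncard_le_ncard ?_ (Set.toFinite _)
        rintro _ ⟨⟨s, hs⟩, rfl⟩
        exact (smul_mem_iff (hSQ hs) a).2 haQ
      rw [← e] at horb
      rw [hT, inf_relIndex_left, hj, hj4] at horb
      norm_num at horb
    obtain ⟨σ, hσ, hσT⟩ := SetLike.exists_of_lt hTlt
    obtain ⟨hσS, hσa⟩ := mem_inf.1 hσ
    have hidx2 : (T.subgroupOf ((S : Subgroup G) ⊓ stabilizer G a)).index = 2 := by
      have h1 := (T.subgroupOf ((S : Subgroup G) ⊓ stabilizer G a)).card_mul_index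
      rw [Nat.card_congr (subgroupOfEquivOfLe (hTle a haQ)).toEquiv] at h1
      have h2 := hpt a
      rw [← h1, ← hcardS, hj4] at h2
      have h3 : (T.subgroupOf ((S : Subgroup G) ⊓ stabilizer G a)).index ≠ 1 := fun e => hσT
        ((subgroupOf_eq_top.1 (index_eq_one.1 e)) hσ)
      have h4 : (T.subgroupOf ((S : Subgroup G) ⊓ stabilizer G a)).index ≤ 2 := by
        refine Nat.le_of_mul_le_mul_left ?_ (Nat.mul_pos (by norm_num : 0 < 4) (Nat.card_pos (α := T)))
        calc 4 * Nat.card T * _ = 4 * (Nat.card T * _) := mul_assoc _ _ _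
          _ ≤ Nat.card T * 2 ^ 3 := h2
          _ = 4 * Nat.card T * 2 := by ring
      have h5 := (index_ne_zero_of_finite (H := T.subgroupOf ((S : Subgroup G) ⊓ stabilizer G a)))
      omega
    have hσ2T : σ ^ 2 ∈ T := sq_mem_of_index_two hidx2 (⟨σ, hσ⟩ : ↥((S : Subgroup G) ⊓ stabilizer G a))
    have hσ1 : σ ^ 2 ≠ 1 := by
      intro e
      have hσo : orderOf σ = 2 := orderOf_eq_prime e fun e' => hσT (e' ▸ one_mem T)
      rcases hz4 σ hσo with h0 | h4
      · have : a ∈ fixedBy Ω σ := mem_stabilizer_iff.1 hσa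
        rw [h0] at this
        exact this
      · exact hσT (mem_inf.2 ⟨hσS, mem_pointStab.2 fun b hb =>
          (((hinS σ hσS hσo h4).symm ▸ hb) : b ∈ fixedBy Ω σ)⟩)
    have hfσ : Nat.card (fixedBy Ω σ) = 2 := by
      have hsub : fixedBy Ω σ ⊆ Q := by
        have := hfree σ hσS 1 (by rw [pow_one]; exact fun e => hσT (e ▸ one_mem T))
        rwa [pow_one] at this
      classical
      letI := Fintype.ofFinite Q
      set π := setHom Q ⟨σ, hSQ hσS⟩ with hπ
      have hπ2 : π ^ 2 ^ 1 = 1 := Equiv.ext fun b => Subtype.ext (by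
        rw [pow_one, pow_two, Equiv.Perm.mul_apply, setHom_apply, setHom_apply, ← mul_smul, ← pow_two]
        exact mem_pointStab.1 (mem_inf.1 hσ2T).2 b b.2)
      have hfe : Nat.card (fixedBy Ω σ) = π.supportᶜ.card := by
        rw [← Nat.card_eq_finsetCard]
        refine Nat.card_congr
          { toFun := fun b => ⟨⟨b, hsub b.2⟩, by simp [π, Subtype.ext_iff]; exact b.2⟩
            invFun := fun b => ⟨(b.1 : Ω), by
              have h7 := b.2
              rw [Finset.mem_compl, Equiv.Perm.notMem_support] at h7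
              exact congrArg Subtype.val h7⟩
            left_inv := fun b => rfl
            right_inv := fun b => rfl }
      have h2 := Equiv.Perm.card_compl_support_modEq hπ2
      rw [← hfe, ← Nat.card_eq_fintype_card, h₀] at h2
      have hne : fixedBy Ω σ ≠ Q := fun e => hσT (mem_inf.2 ⟨hσS, mem_pointStab.2 fun b hb =>
        ((e.symm ▸ hb) : b ∈ fixedBy Ω σ)⟩)
      have hlt : Nat.card (fixedBy Ω σ) < 4 := by
        rw [← h₀, Nat.card_coe_set_eq, Nat.card_coe_set_eq]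
        exact Set.ncard_lt_ncard (hsub.ssubset_of_ne hne) (Set.toFinite _)
      have hpos : 0 < Nat.card (fixedBy Ω σ) := Nat.card_pos_iff.2 ⟨⟨a, mem_stabilizer_iff.1 hσa⟩, inferInstance⟩
      unfold Nat.ModEq at h2
      omega
    have hle := half_turn h h₀ (S.2.to_le hTS) hfT inf_le_right (hSQ hσS) hσ2T hσ1 (hfree σ hσS) hfσ
    refine hno (SecRankFour.sectional_of_good S (SecRankFour.good_of_cyclic hσS ?_))
    rw [← hcardS, hj4]
    omega
  · have hj' : j = 2 := by omega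
    subst hj'
    -- elements outside `T` fix nothing
    have hout : ∀ s ∈ (S : Subgroup G), s ∉ pointStab Q → fixedBy Ω s = ∅ := by
      intro s hs hsQ
      refine Set.eq_empty_of_forall_notMem fun b hb => hsQ ?_
      have hbQ : b ∈ Q := by
        have := hfree s hs 1 (by rw [pow_one]; exact fun e => hsQ (e ▸ one_mem _))
        rw [pow_one] at this
        exact this hb
      have h1 := hpt b
      have heq := Subgroup.eq_of_le_of_card_ge (hTle b hbQ) (by rw [← hcardS] at h1; omega)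
      have : s ∈ T := heq.symm ▸ mem_inf.2 ⟨hs, mem_stabilizer_iff.2 hb⟩
      exact (mem_inf.1 this).2
    obtain ⟨z, hzT, hz2, hzc⟩ := exists_central_invol_mem S hTS hnT (fun e => by rw [e, card_bot] at hT5; omega)
    by_contra hse
    have hH : stabilizer G Q ≠ ⊤ := h.stabilizer_ne_top ⟨a, haQ⟩ (h.ne_univ (by omega))
    have hHe : Even (Nat.card (stabilizer G Q)) := even_iff_two_dvd.2
      (ht₀ ▸ (Subgroup.orderOf_coe (⟨t₀, hSQ ht₀S⟩ : stabilizer G Q)) ▸ orderOf_dvd_natCard _)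
    obtain ⟨g, hg, hgo⟩ : ∃ g : G, g ∉ stabilizer G Q ∧
        ¬ Odd (Nat.card ↥(stabilizer G Q ⊓ (stabilizer G Q).map (MulAut.conj g).toMonoidHom)) := by
      by_contra hc
      push Not at hc
      exact hse ⟨_, hH, hHe, hc⟩
    obtain ⟨u, hu⟩ := exists_prime_orderOf_dvd_card' 2 (even_iff_two_dvd.1 (Nat.not_odd_iff_even.1 hgo))
    have hu2 : orderOf (u : G) = 2 := by rw [Subgroup.orderOf_coe, hu]
    obtain ⟨huQ, y, hy, hyu⟩ := mem_inf.1 u.2
    have hug : (u : G) ∈ stabilizer G (g • Q) := by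
      rw [← hyu]
      show g * y * g⁻¹ ∈ stabilizer G (g • Q)
      rw [mem_stabilizer_iff, mul_smul, mul_smul, inv_smul_smul, mem_stabilizer_iff.1 hy]
    have hgne : g • Q ≠ (1 : G) • Q := by rw [one_smul]; exact fun e => hg (mem_stabilizer_iff.2 e)
    have hu1 : (u : G) ∈ stabilizer G ((1 : G) • Q) := by rw [one_smul]; exact huQ
    rcases hz4 _ hu2 with hu0 | hu4
    · obtain ⟨k, hk, hkS⟩ := sylow_conj_mem (IsPGroup.of_card (n := 1)
        (by rw [Nat.card_zpowers, hu2, pow_one])) S hSQ huQ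
      have hr := rich_conj (k := k⁻¹) (⟨hu2, hu0, g, 1, hgne, hug, hu1⟩ : Rich Q (u : G))
      rw [inv_inv] at hr
      exact hno (rigid_case R S hSQ hj hout _ hr hkS z (hTS hzT) hz2
        (hfT z hzT (fun e => by rw [e, orderOf_one] at hz2; omega)) hzc)
    · exact hgne ((honly _ g hu2 hu4 hug).symm.trans (honly _ 1 hu2 hu4 hu1))

end Cfsg.Agent.FixFour
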