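import Mathlib

/-!
# An element of order three with a 3-centraliser of order at most nine

If a non-abelian simple group has a Sylow 3-subgroup of order at least 27 and an element of
order 3 whose centraliser has Sylow 3-subgroups of order at most 9, then that element is conjugate
to its inverse (`cent_nine_false`).  Proof: for a 3-group `R` containing `x` the conjugates of `x` in
`R` fill the coset `x R'`; from this all Sylow 3-subgroups through `x` are conjugate under the
centraliser of `x`, and the transfer of `x` into `P / P'` is non-trivial.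
-/

set_option autoImplicit false
set_option linter.style.haveILetI false
set_option linter.unusedSectionVars false

namespace Cfsg.Agent.FixFour

open Subgroup MulAction
open scoped commutatorElement Pointwise

universe u

variable {G : Type u} [Group G]

/-- The conjugates of `x` by elements of `R`. -/
def classIn (x : G) (R : Subgroup G) : Set G := (fun r => r * x * r⁻¹) '' (R : Set G)

private theorem mem_classIn {x y : G} {R : Subgroup G} :
    y ∈ classIn x R ↔ ∃ r ∈ R, r * x * r⁻¹ = y := Iff.rfl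

private theorem conj_comm {x r : G} (h : r * x * r⁻¹ = x) : r * x = x * r :=
  mul_inv_eq_iff_eq_mul.1 h

private theorem card_classIn_mul [Finite G] (x : G) (R : Subgroup G) :
    Nat.card (classIn x R) * Nat.card ↥(R ⊓ centralizer ({x} : Set G)) = Nat.card R := by
  classical
  set K : Subgroup R := (centralizer ({x} : Set G)).subgroupOf R with hK
  have key : ∀ a b : R, (a : G) * x * (a : G)⁻¹ = (b : G) * x * (b : G)⁻¹ ↔ a⁻¹ * b ∈ K := by
    intro a b
    rw [hK, mem_subgroupOf, mem_centralizer_singleton_iff, Subgroup.coe_mul, Subgroup.coe_inv]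
    constructor
    · intro h
      calc (a : G)⁻¹ * b * x = (a : G)⁻¹ * ((b : G) * x * (b : G)⁻¹) * b := by group
        _ = (a : G)⁻¹ * ((a : G) * x * (a : G)⁻¹) * b := by rw [h]
        _ = x * ((a : G)⁻¹ * b) := by group
    · intro h
      calc (a : G) * x * (a : G)⁻¹ = (a : G) * (x * ((a : G)⁻¹ * b)) * (b : G)⁻¹ := by group
        _ = (a : G) * ((a : G)⁻¹ * b * x) * (b : G)⁻¹ := by rw [h]
        _ = (b : G) * x * (b : G)⁻¹ := by group
  let f : R ⧸ K → classIn x R := fun q =>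
    Quotient.liftOn' q (fun a => (⟨(a : G) * x * (a : G)⁻¹, a, a.2, rfl⟩ : classIn x R))
      fun a b h => Subtype.ext ((key a b).2 (QuotientGroup.leftRel_apply.1 h))
  have hf : Function.Bijective f := by
    constructor
    · intro q₁ q₂
      induction q₁ using Quotient.inductionOn' with
      | h a =>
        induction q₂ using Quotient.inductionOn' with
        | h b =>
          intro h
          exact Quotient.sound' (QuotientGroup.leftRel_apply.2 ((key a b).1 (congrArg Subtype.val h)))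
    · rintro ⟨_, r, hr, rfl⟩
      exact ⟨Quotient.mk'' ⟨r, hr⟩, rfl⟩
  have hcard : Nat.card ↥(R ⊓ centralizer ({x} : Set G)) = Nat.card K := by
    rw [hK, ← inf_subgroupOf_left (centralizer ({x} : Set G)) R]
    exact (Nat.card_congr (subgroupOfEquivOfLe inf_le_left).toEquiv).symm
  rw [hcard, ← Nat.card_congr (Equiv.ofBijective f hf)]
  exact (card_eq_card_quotient_mul_card_subgroup K).symm

/-- A finite 3-group with abelianisation of order at most 3 is commutative. -/
private theorem comm_of_small {R : Subgroup G} [Finite G] (hR : IsPGroup 3 R)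
    (h : Nat.card R ≤ 3 * Nat.card ↥(commutator R)) : IsMulCommutative R := by
  haveI : Fact (Nat.Prime 3) := ⟨by norm_num⟩
  haveI := hR.isNilpotent
  -- maximal subgroups contain the derived group
  have hmax : ∀ M : Subgroup R, IsCoatom M → commutator R ≤ M := by
    intro M hM
    haveI : M.Normal :=
      NormalizerCondition.normal_of_coatom M Group.normalizerCondition_of_isNilpotent hM
    haveI : Nontrivial (R ⧸ M) := QuotientGroup.nontrivial_iff.2 hM.1
    haveI := (hR.to_quotient M).center_nontrivial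
    set Z : Subgroup R := (center (R ⧸ M)).comap (QuotientGroup.mk' M) with hZ
    have hMZ : M < Z := by
      refine lt_of_le_of_ne (fun a ha => ?_) fun e => ?_
      · rw [hZ, mem_comap, QuotientGroup.mk'_apply, (QuotientGroup.eq_one_iff a).2 ha]
        exact one_mem _
      · obtain ⟨w, hw⟩ := exists_ne (1 : center (R ⧸ M))
        obtain ⟨a, ha⟩ := QuotientGroup.mk'_surjective M (w : R ⧸ M)
        refine hw (Subtype.ext ?_)
        have : a ∈ M := by rw [e, hZ, mem_comap, ha]; exact w.2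
        rw [← ha, QuotientGroup.mk'_apply, (QuotientGroup.eq_one_iff a).2 this]
        rfl
    have hZtop : Z = ⊤ := hM.2 _ hMZ
    rw [_root_.commutator_def, commutator_le]
    intro a _ b _
    have hb : b ∈ Z := by rw [hZtop]; trivial
    rw [hZ, mem_comap, mem_center_iff] at hb
    rw [← QuotientGroup.eq_one_iff, ← QuotientGroup.mk'_apply, map_commutatorElement,
      commutatorElement_eq_one_iff_mul_comm]
    exact hb _
  by_cases hg : commutator R = ⊤
  · rcases eq_top_or_exists_le_coatom (⊥ : Subgroup R) with ht | ⟨M, hM, -⟩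
    · refine ⟨⟨fun a b => ?_⟩⟩
      have ha : a ∈ (⊥ : Subgroup R) := by rw [ht]; trivial
      have hb : b ∈ (⊥ : Subgroup R) := by rw [ht]; trivial
      rw [mem_bot] at ha hb
      rw [ha, hb]
    · exact absurd (eq_top_iff.2 (hg.ge.trans (hmax M hM))) hM.1
  obtain ⟨g, hg'⟩ := SetLike.exists_not_mem_of_ne_top _ hg rfl
  -- `⟨g⟩` is everything
  suffices hz : zpowers g = ⊤ by
    refine ⟨⟨fun a b => ?_⟩⟩
    have ha : a ∈ zpowers g := by rw [hz]; trivial
    have hb : b ∈ zpowers g := by rw [hz]; trivial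
    obtain ⟨i, rfl⟩ := mem_zpowers_iff.1 ha
    obtain ⟨j, rfl⟩ := mem_zpowers_iff.1 hb
    rw [← zpow_add, ← zpow_add, add_comm]
  by_contra hz
  obtain ⟨M, hM, hgM⟩ := (eq_top_or_exists_le_coatom (zpowers g)).resolve_left hz
  have hcM : commutator R ≤ M := hmax M hM
  have hlt : commutator R < M := lt_of_le_of_ne hcM fun e => hg' (e ▸ hgM (mem_zpowers g))
  -- `[R : R'] ∣ 3` while `R' < M < R`
  have h1 : Nat.card ↥(commutator R) < Nat.card M :=
    lt_of_not_ge fun e => hlt.ne (Subgroup.eq_of_le_of_card_ge hcM e)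
  have h2 : Nat.card M < Nat.card R :=
    lt_of_le_of_ne (card_le_card_group M) fun e => hM.1 (eq_top_of_card_eq M e)
  obtain ⟨i, hi⟩ := IsPGroup.iff_card.1 (hR.to_subgroup M)
  obtain ⟨j, hj⟩ := IsPGroup.iff_card.1 hR
  obtain ⟨k, hk⟩ := IsPGroup.iff_card.1 (hR.to_subgroup (commutator R))
  rw [hi, hk] at h1
  rw [hi, hj] at h2
  rw [hj, hk, ← pow_succ'] at h
  have := (Nat.pow_lt_pow_iff_right (by norm_num)).1 h1
  have := (Nat.pow_lt_pow_iff_right (by norm_num)).1 h2
  have := (Nat.pow_le_pow_iff_right (by norm_num)).1 h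
  omega

private theorem card_commutator_eq (R : Subgroup G) :
    Nat.card ↥(commutator R) = Nat.card ↥⁅R, R⁆ := by
  rw [← map_subtype_commutator, Subgroup.card_map_of_injective R.subtype_injective]

section

variable [Finite G] {x : G}

/-- Inside a 3-group containing `x`, the conjugates of `x` fill the coset of the derived group. -/
private theorem class_facts (hx : orderOf x = 3)
    (h9 : ∀ R : Subgroup G, IsPGroup 3 R → R ≤ centralizer ({x} : Set G) → Nat.card R ≤ 9)
    {R : Subgroup G} (hR : IsPGroup 3 R) (hxR : x ∈ R) (hc : 9 ≤ Nat.card R) :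
    9 * Nat.card ↥⁅R, R⁆ = Nat.card R ∧ Nat.card (classIn x R) = Nat.card ↥⁅R, R⁆ ∧
      (∀ y : G, x⁻¹ * y ∈ ⁅R, R⁆ → y ∈ classIn x R) ∧ x ∉ ⁅R, R⁆ ∧
      Nat.card ↥(R ⊓ centralizer ({x} : Set G)) = 9 := by
  haveI : Fact (Nat.Prime 3) := ⟨by norm_num⟩
  set C := centralizer ({x} : Set G) with hC
  have hk : Nat.card ↥(R ⊓ C) ≤ 9 := h9 _ (hR.to_le inf_le_left) inf_le_right
  have hmul := card_classIn_mul x R
  rw [← hC] at hmul
  have hsub : classIn x R ⊆ (fun y => x⁻¹ * y) ⁻¹' (⁅R, R⁆ : Subgroup G) := by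
    rintro _ ⟨r, hr, rfl⟩
    show x⁻¹ * (r * x * r⁻¹) ∈ ⁅R, R⁆
    have := commutator_mem_commutator (inv_mem hxR) hr
    rw [commutatorElement_def, inv_inv] at this
    simpa [mul_assoc] using this
  have hcoset : Nat.card ((fun y => x⁻¹ * y) ⁻¹' ((⁅R, R⁆ : Subgroup G) : Set G)) =
      Nat.card ↥⁅R, R⁆ :=
    Nat.card_congr
      { toFun := fun y => ⟨x⁻¹ * y.1, y.2⟩
        invFun := fun z => ⟨x * z.1, by
          show x⁻¹ * (x * z.1) ∈ ⁅R, R⁆
          rw [inv_mul_cancel_left]; exact z.2⟩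
        left_inv := fun y => Subtype.ext (mul_inv_cancel_left x y.1)
        right_inv := fun z => Subtype.ext (inv_mul_cancel_left x z.1) }
  have hclle : Nat.card (classIn x R) ≤ Nat.card ↥⁅R, R⁆ := by
    rw [← hcoset]
    exact Nat.card_mono (Set.toFinite _) hsub
  have hRle : Nat.card R ≤ 9 * Nat.card ↥⁅R, R⁆ := by
    rw [← hmul, mul_comm]
    exact Nat.mul_le_mul hk hclle
  have hidx : 9 * Nat.card ↥⁅R, R⁆ ≤ Nat.card R := by
    obtain ⟨j, hj⟩ := IsPGroup.iff_card.1 hR
    obtain ⟨k, hk'⟩ := IsPGroup.iff_card.1 (hR.to_le (commutator_le_self R))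
    rw [hj, hk']
    rw [hj] at hc
    have hj2 : 2 ≤ j := (Nat.pow_le_pow_iff_right (by norm_num : 1 < 3)).1 (show 3 ^ 2 ≤ 3 ^ j from hc)
    rw [show 9 * 3 ^ k = 3 ^ (k + 2) by ring]
    refine Nat.pow_le_pow_right (by norm_num) ?_
    by_contra hlt
    have hsmall : Nat.card R ≤ 3 * Nat.card ↥(commutator R) := by
      rw [card_commutator_eq, hj, hk', ← pow_succ']
      exact Nat.pow_le_pow_right (by norm_num) (by omega)
    have hcomm := comm_of_small hR hsmall
    have hR1 : ⁅R, R⁆ = ⊥ := by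
      rw [commutator_eq_bot_iff_le_centralizer]
      intro a ha
      rw [mem_centralizer_iff]
      intro b hb
      exact congrArg Subtype.val (hcomm.is_comm.comm (⟨b, hb⟩ : R) ⟨a, ha⟩)
    rw [hR1, card_bot] at hk'
    have hk0 : k = 0 := Nat.pow_right_injective (by norm_num : 2 ≤ 3) (show 3 ^ k = 3 ^ 0 by rw [pow_zero]; exact hk'.symm)
    omega
  have heq : 9 * Nat.card ↥⁅R, R⁆ = Nat.card R := le_antisymm hidx hRle
  have hpos : 0 < Nat.card ↥⁅R, R⁆ := Nat.card_pos
  have hcl : Nat.card (classIn x R) = Nat.card ↥⁅R, R⁆ := by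
    refine le_antisymm hclle ?_
    have : 9 * Nat.card ↥⁅R, R⁆ ≤ 9 * Nat.card (classIn x R) := by
      rw [heq, ← hmul, mul_comm 9]
      exact Nat.mul_le_mul_left _ hk
    omega
  have hall : ∀ y : G, x⁻¹ * y ∈ ⁅R, R⁆ → y ∈ classIn x R := by
    have := Set.eq_of_subset_of_ncard_le hsub (by
      rw [← Nat.card_coe_set_eq, ← Nat.card_coe_set_eq, hcoset, hcl]) (Set.toFinite _)
    intro y hy
    rw [this]; exact hy
  refine ⟨heq, hcl, hall, fun hxc => ?_, ?_⟩
  · obtain ⟨r, -, hr⟩ := mem_classIn.1 (hall 1 (by rw [mul_one]; exact inv_mem hxc))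
    have hx1 : x = 1 := by
      have : r * x = r := mul_inv_eq_one.1 hr
      exact mul_eq_left.1 this
    rw [hx1, orderOf_one] at hx
    omega
  · refine le_antisymm hk (Nat.le_of_mul_le_mul_left ?_ hpos)
    rw [← hcl, hmul, hcl, mul_comm, heq]

/-- A subgroup between `x` and a larger 3-group normalising it has index three there. -/
private theorem index_three (hx : orderOf x = 3)
    (h9 : ∀ R : Subgroup G, IsPGroup 3 R → R ≤ centralizer ({x} : Set G) → Nat.card R ≤ 9)
    {R D : Subgroup G} (hR : IsPGroup 3 R) (hxD : x ∈ D) (hD9 : 9 ≤ Nat.card D) (hDR : D < R)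
    (hn : R ≤ normalizer (D : Set G)) :
    Nat.card R = 3 * Nat.card D ∧ classIn x R ⊆ (D : Set G) := by
  obtain ⟨heq, -, hall, hxn, -⟩ := class_facts hx h9 hR (hDR.le hxD) (hD9.trans (card_le_of_le hDR.le))
  have hsub : classIn x R ⊆ (D : Set G) := by
    rintro _ ⟨r, hr, rfl⟩
    exact ((mem_normalizer_iff.1 (hn hr)) x).1 hxD
  refine ⟨?_, hsub⟩
  have hcD : ⁅R, R⁆ ≤ D := fun z hz => by
    have := hsub (hall (x * z) (by rw [inv_mul_cancel_left]; exact hz))
    simpa using mul_mem (inv_mem hxD) this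
  have h1 : Nat.card ↥⁅R, R⁆ ∣ Nat.card D := card_dvd_of_le hcD
  obtain ⟨k, hk⟩ := h1
  have h2 : Nat.card D ∣ Nat.card R := card_dvd_of_le hDR.le
  have hpos : 0 < Nat.card ↥⁅R, R⁆ := Nat.card_pos
  rw [hk, ← heq, mul_comm 9] at h2
  have hk9 : k ∣ 9 := Nat.dvd_of_mul_dvd_mul_left hpos h2
  have hk1 : k ≠ 1 := fun e => hxn (by
    have := Subgroup.eq_of_le_of_card_ge hcD (by rw [hk, e, mul_one])
    rw [this]; exact hxD)
  have hk9' : k ≠ 9 := fun e => hDR.ne (Subgroup.eq_of_le_of_card_ge hDR.le (by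
    rw [← heq, hk, e, mul_comm]))
  have hk_le := Nat.le_of_dvd (by norm_num) hk9
  have hk3 : k = 3 := by
    interval_cases k <;> revert hk9 <;> norm_num at *
  rw [← heq, hk, hk3]
  ring

private theorem mem_smul_sylow {p : ℕ} (c y : G) (P : Sylow p G) :
    y ∈ ((c • P : Sylow p G) : Subgroup G) ↔ c⁻¹ * y * c ∈ (P : Subgroup G) := by
  rw [Sylow.coe_subgroup_smul, Subgroup.mem_pointwise_smul_iff_inv_smul_mem, ← map_inv,
    MulAut.smul_def, MulAut.conj_apply, inv_inv]

private theorem lt_inf_norm {T F : Subgroup G} (hT : IsPGroup 3 T) (h : F < T) :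
    F < T ⊓ normalizer (F : Set G) := by
  haveI : Fact (Nat.Prime 3) := ⟨by norm_num⟩
  refine lt_of_le_of_ne (le_inf h.le le_normalizer) fun he => ?_
  have := hT.isNilpotent
  have h1 : F.subgroupOf T < ⊤ := lt_top_iff_ne_top.mpr fun e =>
    h.not_ge (subgroupOf_eq_top.mp e)
  have h2 := Group.normalizerCondition_of_isNilpotent (G := T) _ h1
  rw [← subgroupOf_normalizer_eq h.le] at h2
  obtain ⟨y, hy, hyF⟩ := SetLike.exists_of_lt h2
  exact hyF (show (y : G) ∈ F from he.symm ▸ (show (y : G) ∈ T ⊓ normalizer (F : Set G) from ⟨y.2, hy⟩))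

/-- A conjugating element between two 3-subgroups of index three over `D` inside its normaliser. -/
private theorem conj_in_normalizer (hx : orderOf x = 3)
    (h9 : ∀ R : Subgroup G, IsPGroup 3 R → R ≤ centralizer ({x} : Set G) → Nat.card R ≤ 9)
    {D R₁ R₂ : Subgroup G} (hxD : x ∈ D) (hD9 : 9 ≤ Nat.card D)
    (h1 : IsPGroup 3 R₁) (h2 : IsPGroup 3 R₂) (hD1 : D < R₁) (hD2 : D < R₂)
    (hn1 : R₁ ≤ normalizer (D : Set G)) (hn2 : R₂ ≤ normalizer (D : Set G)) :
    ∃ c ∈ normalizer (D : Set G), ∀ r ∈ R₁, c * r * c⁻¹ ∈ R₂ := by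
  haveI : Fact (Nat.Prime 3) := ⟨by norm_num⟩
  set N := normalizer (D : Set G)
  have key : ∀ R : Subgroup G, IsPGroup 3 R → D < R → R ≤ N →
      ∃ S : Sylow 3 N, (S : Subgroup N).map N.subtype = R := by
    intro R hR hDR hRN
    obtain ⟨S, hS⟩ := (hR.comap_of_injective N.subtype N.subtype_injective).exists_le_sylow
    refine ⟨S, (Subgroup.eq_of_le_of_card_ge ?_ ?_).symm⟩
    · intro r hr
      exact ⟨⟨r, hRN hr⟩, hS hr, rfl⟩
    · have hDS : D < (S : Subgroup N).map N.subtype := hDR.trans_le fun r hr => ⟨⟨r, hRN hr⟩, hS hr, rfl⟩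
      rw [(index_three hx h9 (S.isPGroup'.map _) hxD hD9 hDS (map_subtype_le _)).1,
        (index_three hx h9 hR hxD hD9 hDR hRN).1]
  obtain ⟨S₁, hS₁⟩ := key R₁ h1 hD1 hn1
  obtain ⟨S₂, hS₂⟩ := key R₂ h2 hD2 hn2
  obtain ⟨c, hc⟩ := MulAction.exists_smul_eq N S₁ S₂
  refine ⟨c, c.2, fun r hr => ?_⟩
  rw [← hS₁] at hr
  obtain ⟨s, hs, rfl⟩ := hr
  rw [← hS₂]
  refine ⟨c * s * c⁻¹, ?_, rfl⟩
  rw [← hc]
  refine (mem_smul_sylow c _ S₁).2 ?_
  rw [show c⁻¹ * (c * s * c⁻¹) * c = s by group]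
  exact hs

/-- The induction: two Sylow 3-subgroups through `x` meeting in at least nine elements. -/
private theorem conj_of_inter (hx : orderOf x = 3)
    (h9 : ∀ R : Subgroup G, IsPGroup 3 R → R ≤ centralizer ({x} : Set G) → Nat.card R ≤ 9)
    (hreal : ∀ g : G, g * x * g⁻¹ ≠ x⁻¹) :
    ∀ n : ℕ, ∀ P Q : Sylow 3 G, x ∈ (P : Subgroup G) → x ∈ (Q : Subgroup G) →
      9 ≤ Nat.card ↥((P : Subgroup G) ⊓ Q) →
      Nat.card P ≤ Nat.card ↥((P : Subgroup G) ⊓ Q) + n →
      ∃ c ∈ centralizer ({x} : Set G), c • P = Q := by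
  haveI : Fact (Nat.Prime 3) := ⟨by norm_num⟩
  intro n
  induction n using Nat.strong_induction_on with
  | _ n ih =>
  intro P Q hxP hxQ hD9 hn
  set D := (P : Subgroup G) ⊓ Q with hD
  have hcard : Nat.card (P : Subgroup G) = Nat.card (Q : Subgroup G) := by
    rw [P.card_eq_multiplicity, Q.card_eq_multiplicity]
  by_cases hPQ : (P : Subgroup G) ≤ Q
  · exact ⟨1, one_mem _, by rw [one_smul]; exact Sylow.ext (Subgroup.eq_of_le_of_card_ge hPQ hcard.ge)⟩
  have hDP : D < (P : Subgroup G) := inf_lt_left.2 hPQ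
  have hDQ : D < (Q : Subgroup G) := inf_lt_right.2 fun h => hPQ
    (Subgroup.eq_of_le_of_card_ge h hcard.le).ge
  set N := normalizer (D : Set G) with hN
  set R₁ := (P : Subgroup G) ⊓ N with hR₁
  set R₂ := (Q : Subgroup G) ⊓ N with hR₂
  have h1 : IsPGroup 3 R₁ := P.isPGroup'.to_le inf_le_left
  have h2 : IsPGroup 3 R₂ := Q.isPGroup'.to_le inf_le_left
  have hD1 : D < R₁ := lt_inf_norm P.isPGroup' hDP
  have hD2 : D < R₂ := lt_inf_norm Q.isPGroup' hDQ
  have hxD : x ∈ D := ⟨hxP, hxQ⟩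
  obtain ⟨c, hcN, hc⟩ := conj_in_normalizer hx h9 hxD hD9 h1 h2 hD1 hD2 inf_le_right inf_le_right
  obtain ⟨hc1, hs1⟩ := index_three hx h9 h1 hxD hD9 hD1 inf_le_right
  obtain ⟨hc2, hs2⟩ := index_three hx h9 h2 hxD hD9 hD2 inf_le_right
  obtain ⟨he1, hk1, -⟩ := class_facts hx h9 h1 (hD1.le hxD) (hD9.trans (card_le_of_le hD1.le))
  obtain ⟨he2, hk2, -⟩ := class_facts hx h9 h2 (hD2.le hxD) (hD9.trans (card_le_of_le hD2.le))
  obtain ⟨heD, -, hallD, hxnD, -⟩ := class_facts hx h9 (P.isPGroup'.to_le hDP.le) hxD hD9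
  -- the conjugates of `x` under `N`, their inverses and `D'` are disjoint in `D`
  set T := classIn x N with hT
  set E : Set G := ((⁅D, D⁆ : Subgroup G) : Set G) with hE
  have hTD : T ⊆ (D : Set G) := by
    rintro _ ⟨m, hm, rfl⟩
    exact ((mem_normalizer_iff.1 hm) x).1 hxD
  have hED : E ⊆ (D : Set G) := fun z hz => commutator_le_self D hz
  have hdisj1 : Disjoint T T⁻¹ := by
    rw [Set.disjoint_left]
    rintro _ ⟨a, -, rfl⟩ ⟨b, -, hb⟩
    refine hreal (a⁻¹ * b) ?_
    change b * x * b⁻¹ = (a * x * a⁻¹)⁻¹ at hb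
    calc a⁻¹ * b * x * (a⁻¹ * b)⁻¹ = a⁻¹ * (b * x * b⁻¹) * a := by group
      _ = a⁻¹ * (a * x * a⁻¹)⁻¹ * a := by rw [hb]
      _ = x⁻¹ := by group
  have hTE : ∀ a ∈ N, a * x * a⁻¹ ∉ ⁅D, D⁆ := by
    intro a ha hmem
    have hmap : (⁅D, D⁆).map (MulAut.conj a⁻¹).toMonoidHom ≤ ⁅D, D⁆ := by
      have hDa : D.map (MulAut.conj a⁻¹).toMonoidHom ≤ D := by
        rintro _ ⟨d, hd, rfl⟩
        exact ((mem_normalizer_iff.1 (inv_mem ha)) d).1 hd
      rw [Subgroup.map_commutator]
      exact commutator_mono hDa hDa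
    refine hxnD (hmap ⟨_, hmem, ?_⟩)
    show a⁻¹ * (a * x * a⁻¹) * a⁻¹⁻¹ = x
    group
  have hdisj2 : Disjoint (T ∪ T⁻¹) E := by
    rw [Set.disjoint_union_left]
    constructor
    · rw [Set.disjoint_left]
      rintro _ ⟨a, ha, rfl⟩ h
      exact hTE a ha h
    · rw [Set.disjoint_left]
      rintro y ⟨a, ha, hy⟩ h
      change a * x * a⁻¹ = y⁻¹ at hy
      exact hTE a ha (by rw [hy]; exact inv_mem h)
  have hbound : 2 * T.ncard + E.ncard ≤ (D : Set G).ncard := by
    have hle : (T ∪ T⁻¹ ∪ E).ncard ≤ (D : Set G).ncard := by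
      refine Set.ncard_le_ncard ?_ (Set.toFinite _)
      refine Set.union_subset (Set.union_subset hTD ?_) hED
      intro y hy
      have := inv_mem (hTD hy)
      simpa using this
    rw [Set.ncard_union_eq hdisj2 (Set.toFinite _) (Set.toFinite _),
      Set.ncard_union_eq hdisj1 (Set.toFinite _) (Set.toFinite _)] at hle
    have hinv : T⁻¹.ncard = T.ncard := by
      rw [← Set.image_inv_eq_inv, Set.ncard_image_of_injective _ inv_injective]
    omega
  set A := classIn x R₂ with hA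
  set B := (fun y => c * y * c⁻¹) '' classIn x R₁ with hB
  have hAT : A ⊆ T := by
    rintro _ ⟨r, hr, rfl⟩
    exact ⟨r, hr.2, rfl⟩
  have hBT : B ⊆ T := by
    rintro _ ⟨_, ⟨r, hr, rfl⟩, rfl⟩
    refine ⟨c * r, mul_mem hcN hr.2, ?_⟩
    show c * r * x * (c * r)⁻¹ = c * (r * x * r⁻¹) * c⁻¹
    group
  have hBc : B.ncard = (classIn x R₁).ncard :=
    Set.ncard_image_of_injective _ fun a b h => mul_left_cancel (mul_right_cancel h)
  have hmeet : ¬ Disjoint A B := by
    intro hd
    have h3 := Set.ncard_le_ncard (Set.union_subset hAT hBT) (Set.toFinite _)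
    rw [Set.ncard_union_eq hd (Set.toFinite _) (Set.toFinite _), hBc] at h3
    rw [Nat.card_coe_set_eq] at hk1 hk2
    have hE' : E.ncard = Nat.card ↥⁅D, D⁆ := (Nat.card_coe_set_eq E).symm
    have hD' : (D : Set G).ncard = Nat.card D := (Nat.card_coe_set_eq _).symm
    have hpos : 0 < Nat.card ↥⁅D, D⁆ := Nat.card_pos
    omega
  obtain ⟨_, ⟨r', hr', rfl⟩, _, ⟨r, hr, rfl⟩, hy⟩ := Set.not_disjoint_iff.1 hmeet
  change c * (r * x * r⁻¹) * c⁻¹ = r' * x * r'⁻¹ at hy
  set e := r'⁻¹ * c * r with he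
  have hex : e ∈ centralizer ({x} : Set G) := by
    rw [mem_centralizer_singleton_iff]
    refine conj_comm ?_
    calc e * x * e⁻¹ = r'⁻¹ * (c * (r * x * r⁻¹) * c⁻¹) * r' := by rw [he]; group
      _ = r'⁻¹ * (r' * x * r'⁻¹) * r' := by rw [hy]
      _ = x := by group
  have hR₂le : R₂ ≤ ((e • P : Sylow 3 G) : Subgroup G) := by
    have hsub : R₁.map (MulAut.conj e).toMonoidHom ≤ R₂ := by
      rintro _ ⟨s, hs, rfl⟩
      have := mul_mem (mul_mem (inv_mem hr') (hc _ (mul_mem (mul_mem hr hs) (inv_mem hr)))) hr'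
      show e * s * e⁻¹ ∈ R₂
      convert this using 1
      rw [he]; group
    have heq : R₁.map (MulAut.conj e).toMonoidHom = R₂ := Subgroup.eq_of_le_of_card_ge hsub (by
      rw [card_map_of_injective (MulAut.conj e).injective, hc1, hc2])
    intro s hs
    rw [← heq] at hs
    obtain ⟨t, ht, rfl⟩ := hs
    rw [mem_smul_sylow]
    show e⁻¹ * (e * t * e⁻¹) * e ∈ (P : Subgroup G)
    rw [show e⁻¹ * (e * t * e⁻¹) * e = t by group]
    exact ht.1
  have hbig : R₂ ≤ ((e • P : Sylow 3 G) : Subgroup G) ⊓ Q := le_inf hR₂le inf_le_left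
  have hlt : Nat.card D < Nat.card ↥(((e • P : Sylow 3 G) : Subgroup G) ⊓ Q) := by
    have := card_le_of_le hbig
    omega
  have hn0 : n ≠ 0 := by
    rintro rfl
    exact hDP.ne (Subgroup.eq_of_le_of_card_ge hDP.le (by simpa using hn))
  obtain ⟨d, hd, hdQ⟩ := ih (n - 1) (by omega) (e • P) Q (hR₂le (hD2.le hxD)) hxQ (by omega) (by
    have : Nat.card (e • P : Sylow 3 G) = Nat.card P := by
      rw [Sylow.card_eq_multiplicity, Sylow.card_eq_multiplicity]
    omega)
  exact ⟨d * e, mul_mem hd hex, by rw [mul_smul, hdQ]⟩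

/-- All Sylow 3-subgroups through `x` are conjugate under its centraliser. -/
private theorem conj_of_mem (hx : orderOf x = 3)
    (h9 : ∀ R : Subgroup G, IsPGroup 3 R → R ≤ centralizer ({x} : Set G) → Nat.card R ≤ 9)
    (hreal : ∀ g : G, g * x * g⁻¹ ≠ x⁻¹)
    (P Q : Sylow 3 G) (h27 : 27 ≤ Nat.card P) (hxP : x ∈ (P : Subgroup G)) (hxQ : x ∈ (Q : Subgroup G)) :
    ∃ c ∈ centralizer ({x} : Set G), c • P = Q := by
  haveI : Fact (Nat.Prime 3) := ⟨by norm_num⟩
  set C := centralizer ({x} : Set G) with hC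
  have hcard : Nat.card (P : Subgroup G) = Nat.card (Q : Subgroup G) := by
    rw [P.card_eq_multiplicity, Q.card_eq_multiplicity]
  have key : ∀ R : Sylow 3 G, x ∈ (R : Subgroup G) → 9 ≤ Nat.card (R : Subgroup G) →
      ∃ S : Sylow 3 C, (S : Subgroup C).map C.subtype = (R : Subgroup G) ⊓ C := by
    intro R hxR hR9
    obtain ⟨-, -, -, -, h'⟩ := class_facts hx h9 R.isPGroup' hxR hR9
    have hp : IsPGroup 3 ↥((R : Subgroup G) ⊓ C) := R.isPGroup'.to_le inf_le_left
    obtain ⟨S, hS⟩ := (hp.comap_of_injective C.subtype C.subtype_injective).exists_le_sylow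
    refine ⟨S, (Subgroup.eq_of_le_of_card_ge ?_ ?_).symm⟩
    · intro r hr
      exact ⟨⟨r, hr.2⟩, hS hr, rfl⟩
    · rw [h']
      exact h9 _ (S.isPGroup'.map _) (map_subtype_le _)
  obtain ⟨S₁, hS₁⟩ := key P hxP (by omega)
  obtain ⟨S₂, hS₂⟩ := key Q hxQ (by omega)
  obtain ⟨c, hc⟩ := MulAction.exists_smul_eq C S₁ S₂
  have hsub : (Q : Subgroup G) ⊓ C ≤ (((c : G) • P : Sylow 3 G) : Subgroup G) ⊓ Q := by
    refine le_inf ?_ inf_le_left
    intro s hs
    rw [← hS₂, ← hc] at hs
    obtain ⟨t, ht, rfl⟩ := hs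
    rw [mem_smul_sylow]
    have ht' := (mem_smul_sylow c t S₁).1 ht
    have : ((c⁻¹ * t * c : C) : G) ∈ (P : Subgroup G) ⊓ C := by rw [← hS₁]; exact ⟨_, ht', rfl⟩
    have h := this.1
    simp only [Subgroup.coe_mul, Subgroup.coe_inv] at h
    exact h
  have hQ9 : 9 ≤ Nat.card ↥((((c : G) • P : Sylow 3 G) : Subgroup G) ⊓ Q) := by
    obtain ⟨-, -, -, -, h'⟩ := class_facts hx h9 Q.isPGroup' hxQ (by omega)
    rw [← hC] at h'
    have := card_le_of_le hsub
    omega
  obtain ⟨d, hd, hdQ⟩ := conj_of_inter hx h9 hreal _ ((c : G) • P) Q (hsub ⟨hxQ, (show x ∈ C from mem_centralizer_singleton_iff.2 rfl)⟩).1 hxQ hQ9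
    (Nat.le_add_left _ _)
  exact ⟨d * c, mul_mem hd c.2, by rw [mul_smul, hdQ]⟩

end

private theorem sign_table : ∀ q : ZMod 3 × ZMod 3, q ≠ 0 → q = (1, 0) ∨ -q = (1, 0) ∨ q = (0, 1) ∨
    -q = (0, 1) ∨ q = (1, 0) + (0, 1) ∨ -q = (1, 0) + (0, 1) ∨ q = (1, 0) + -(0, 1) ∨
    -q = (1, 0) + -(0, 1) := by
  decide

private theorem sum_table : ∀ u v : ZMod 3 × ZMod 3, u ∉ [0, (1, 0), -(1, 0), (0, 1), -(0, 1)] →
    v ∉ [0, (1, 0), -(1, 0), (0, 1), -(0, 1)] → u ≠ v → u ≠ -v →
    (1, 0) + ((0, 1) + (u + v)) ≠ (0 : ZMod 3 × ZMod 3) := by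
  decide

/-- In a group of order nine, a set of one, two or four elements of order three without a pair of
inverses has product different from one. -/
private theorem prod_ne_one {A : Type*} [CommGroup A] [Finite A] (hA : Nat.card A ≤ 9) (X : Finset A)
    (hne : X.Nonempty) (h1 : ∀ a ∈ X, a ^ 3 = 1) (h0 : ∀ a ∈ X, a ≠ 1)
    (hop : ∀ a ∈ X, a⁻¹ ∉ X) (h3 : ¬ 3 ∣ X.card) : ∏ a ∈ X, a ≠ 1 := by
  classical
  letI := Fintype.ofFinite A
  have h4 : X.card ≤ 4 := by
    have hd : Disjoint (insert 1 X) (X.map ⟨(·⁻¹), inv_injective⟩) := by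
      rw [Finset.disjoint_left]
      intro a ha hb
      obtain ⟨b, hb', rfl⟩ := Finset.mem_map.1 hb
      rcases Finset.mem_insert.1 ha with h | h
      · exact h0 b (by assumption) (inv_eq_one.1 h)
      · exact hop b (by assumption) h
    have := Finset.card_le_univ (insert 1 X ∪ X.map ⟨(·⁻¹), inv_injective⟩)
    rw [Finset.card_union_of_disjoint hd, Finset.card_insert_of_notMem (fun h => h0 1 h rfl),
      Finset.card_map, ← Nat.card_eq_fintype_card] at this
    omega
  have hpos := hne.card_pos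
  rcases (by omega : X.card = 1 ∨ X.card = 2 ∨ X.card = 4) with hc | hc | hc
  · obtain ⟨a, rfl⟩ := Finset.card_eq_one.1 hc
    simpa using h0 a (by simp)
  · obtain ⟨a, b, hab, rfl⟩ := Finset.card_eq_two.1 hc
    rw [Finset.prod_pair hab]
    intro h
    exact hop a (by simp) (by simp [eq_inv_of_mul_eq_one_right h])
  · obtain ⟨a, b, c, d, hab, hac, had, hbc, hbd, hcd, rfl⟩ := Finset.card_eq_four.1 hc
    have ha3 := h1 a (by simp)
    have hb3 := h1 b (by simp)
    let f : ZMod 3 × ZMod 3 → A := fun p => a ^ p.1.val * b ^ p.2.val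
    have hmul : ∀ p q, f (p + q) = f p * f q := by
      intro p q
      simp only [f, Prod.fst_add, Prod.snd_add, ZMod.val_add]
      rw [← pow_eq_pow_mod (p.1.val + q.1.val) ha3, ← pow_eq_pow_mod (p.2.val + q.2.val) hb3,
        pow_add, pow_add, mul_mul_mul_comm]
    let φ : Multiplicative (ZMod 3 × ZMod 3) →* A :=
      MonoidHom.mk' (fun p => f p.toAdd) fun p q => hmul p.toAdd q.toAdd
    have ha' : f (1, 0) = a := by show a ^ 1 * b ^ 0 = a; simp
    have hb' : f (0, 1) = b := by show a ^ 0 * b ^ 1 = b; simp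
    have hker : ∀ p : ZMod 3 × ZMod 3, f p = 1 → p = 0 := by
      intro p hp
      by_contra hp0
      -- a non-trivial kernel element would give a trivial, an inverse or an equal pair
      have hs : f (-p) = 1 := by
        have := hmul p (-p)
        rwa [add_neg_cancel, hp, one_mul, show f 0 = 1 by simp [f], eq_comm] at this
      have e1 : ∀ q, f q = 1 → q ≠ (1, 0) := fun q hq e => h0 a (by simp) (by rw [← ha', ← e, hq])
      have e2 : ∀ q, f q = 1 → q ≠ (0, 1) := fun q hq e => h0 b (by simp) (by rw [← hb', ← e, hq])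
      have e3 : ∀ q, f q = 1 → q ≠ (1, 0) + (0, 1) := fun q hq e => by
        rw [e, hmul, ha', hb'] at hq
        exact hop a (by simp) (by simp [eq_inv_of_mul_eq_one_right hq])
      have e4 : ∀ q, f q = 1 → q ≠ (1, 0) + -(0, 1) := fun q hq e => by
        have := hmul q (0, 1)
        rw [hq, e, neg_add_cancel_right, ha', hb', one_mul] at this
        exact hab this
      rcases sign_table p hp0 with h | h | h | h | h | h | h | h
      exacts [e1 p hp h, e1 _ hs h, e2 p hp h, e2 _ hs h, e3 p hp h, e3 _ hs h, e4 p hp h, e4 _ hs h]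
    have hinj : Function.Injective φ := (injective_iff_map_eq_one φ).2 fun p hp => hker p.toAdd hp
    have hsur : Function.Surjective φ := by
      refine ((Fintype.bijective_iff_injective_and_card φ).2 ⟨hinj, ?_⟩).surjective
      have h9 : Fintype.card (Multiplicative (ZMod 3 × ZMod 3)) = 9 := by simp
      have := Fintype.card_le_of_injective φ hinj
      rw [Nat.card_eq_fintype_card] at hA
      omega
    obtain ⟨p, rfl⟩ := hsur c
    obtain ⟨q, rfl⟩ := hsur d
    have hfinj : Function.Injective f := fun u v h => Multiplicative.ofAdd.injective (hinj (a₁ := Multiplicative.ofAdd u) (a₂ := Multiplicative.ofAdd v) h)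
    have hneg : ∀ u, f (-u) = (f u)⁻¹ := fun u => map_inv φ (Multiplicative.ofAdd u)
    have hf0 : f 0 = 1 := map_one φ
    rw [Finset.prod_insert (by simp [hab, hac, had]), Finset.prod_insert (by simp [hbc, hbd]),
      Finset.prod_pair hcd]
    change a * (b * (f p.toAdd * f q.toAdd)) ≠ 1
    rw [← ha', ← hb', ← hmul, ← hmul, ← hmul]
    intro hprod
    have hmem : ∀ u, f u ∈ ({a, b, φ p, φ q} : Finset A) → u ≠ 0 ∧ f (-u) ∉ ({a, b, φ p, φ q} : Finset A) :=
      fun u hu => ⟨fun e => h0 _ hu (by rw [e, hf0]), by rw [hneg]; exact hop _ hu⟩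
    have hp := hmem p.toAdd (by simp [φ])
    have hq := hmem q.toAdd (by simp [φ])
    refine sum_table p.toAdd q.toAdd ?_ ?_ ?_ ?_ (hfinj (hprod.trans hf0.symm))
    · simp only [List.mem_cons, List.not_mem_nil, or_false, not_or]
      exact ⟨hp.1, fun e => hac ((congrArg f e).trans ha').symm,
        fun e => hp.2 (by rw [e, neg_neg, ha']; simp),
        fun e => hbc ((congrArg f e).trans hb').symm,
        fun e => hp.2 (by rw [e, neg_neg, hb']; simp)⟩
    · simp only [List.mem_cons, List.not_mem_nil, or_false, not_or]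
      exact ⟨hq.1, fun e => had ((congrArg f e).trans ha').symm,
        fun e => hq.2 (by rw [e, neg_neg, ha']; simp),
        fun e => hbd ((congrArg f e).trans hb').symm,
        fun e => hq.2 (by rw [e, neg_neg, hb']; simp)⟩
    · exact fun e => hcd (congrArg f e)
    · exact fun e => hq.2 (by rw [← e]; simp [φ])

/-- `S3365`, the piece on centralisers of order nine. -/
theorem cent_nine_false {G : Type u} [Group G] [Finite G] [IsSimpleGroup G] (hna : ¬ IsMulCommutative G)
    {x : G} (hx : orderOf x = 3) (P : Sylow 3 G) (hxP : x ∈ (P : Subgroup G)) (h27 : 27 ≤ Nat.card P)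
    (h9 : ∀ R : Subgroup G, IsPGroup 3 R → R ≤ Subgroup.centralizer ({x} : Set G) → Nat.card R ≤ 9)
    (hreal : ∀ g : G, g * x * g⁻¹ ≠ x⁻¹) : False := by
  classical
  haveI : Fact (Nat.Prime 3) := ⟨by norm_num⟩
  set H : Subgroup G := (P : Subgroup G) with hH
  obtain ⟨heq, -, hall, hxn, -⟩ := class_facts hx h9 P.isPGroup' hxP (by show 9 ≤ Nat.card H; omega)
  rw [← hH] at heq hall hxn
  letI := Fintype.ofFinite G
  letI := Fintype.ofFinite (G ⧸ H)
  set φ : H →* Abelianization H := Abelianization.of with hφ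
  have hφ_eq : ∀ y z : H, φ y = φ z ↔ ((y : G)⁻¹ * z) ∈ ⁅H, H⁆ := by
    intro y z
    rw [hφ]
    refine (QuotientGroup.eq).trans ?_
    show y⁻¹ * z ∈ commutator H ↔ _
    rw [← map_subtype_commutator]
    exact ⟨fun h => ⟨_, h, rfl⟩, fun ⟨w, hw, he⟩ => by
      have hw' : w = y⁻¹ * z := Subtype.ext he
      rw [hw'] at hw
      exact hw⟩
  have hx3 : x ^ 3 = 1 := by rw [← hx]; exact pow_orderOf_eq_one x
  have hA : Nat.card (Abelianization H) ≤ 9 := by
    have h := card_eq_card_quotient_mul_card_subgroup (commutator H)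
    rw [card_commutator_eq] at h
    have hpos : 0 < Nat.card ↥⁅H, H⁆ := Nat.card_pos
    have : Nat.card (Abelianization H) * Nat.card ↥⁅H, H⁆ = 9 * Nat.card ↥⁅H, H⁆ := by
      rw [heq]; exact h.symm
    exact (Nat.eq_of_mul_eq_mul_right hpos this).le
  -- the value of a coset
  let val : G → Abelianization H := fun g => if h : g⁻¹ * x * g ∈ H then φ ⟨_, h⟩ else 1
  have hval : ∀ g (h : g⁻¹ * x * g ∈ H), val g = φ ⟨_, h⟩ := fun g h => dif_pos h
  have hval_mul : ∀ g p, p ∈ H → val (g * p) = val g := by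
    intro g p hp
    have hiff : (g * p)⁻¹ * x * (g * p) ∈ H ↔ g⁻¹ * x * g ∈ H := by
      rw [show (g * p)⁻¹ * x * (g * p) = p⁻¹ * (g⁻¹ * x * g) * p by group,
        H.mul_mem_cancel_right hp, H.mul_mem_cancel_left (inv_mem hp)]
    by_cases h : g⁻¹ * x * g ∈ H
    · rw [hval g h, hval _ (hiff.2 h)]
      have : (⟨_, hiff.2 h⟩ : H) = (⟨p, hp⟩ : H)⁻¹ * ⟨_, h⟩ * ⟨p, hp⟩ := Subtype.ext (by
        show (g * p)⁻¹ * x * (g * p) = p⁻¹ * (g⁻¹ * x * g) * p
        group)
      rw [this, map_mul, map_mul, map_inv, mul_comm, mul_inv_cancel_left]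
    · simp only [val, dif_neg h, dif_neg (mt hiff.1 h)]
  let v : G ⧸ H → Abelianization H := fun z => Quotient.liftOn' z val fun a b hab => by
    rw [show b = a * (a⁻¹ * b) by group, hval_mul a _ (QuotientGroup.leftRel_apply.1 hab)]
  have hv : ∀ g : G, v (g : G ⧸ H) = val g := fun g => rfl
  -- fixed cosets
  have hfix : ∀ g : G, x • (g : G ⧸ H) = (g : G ⧸ H) ↔ g⁻¹ * x * g ∈ H := by
    intro g
    rw [MulAction.Quotient.smul_coe, QuotientGroup.eq, smul_eq_mul, ← H.inv_mem_iff]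
    simp [mul_assoc]
  set F : Finset (G ⧸ H) := Finset.univ.filter fun z => x • z = z with hF
  have hoff : ∀ z, z ∉ F → v z = 1 := by
    intro z hz
    induction z using QuotientGroup.induction_on with
    | H g =>
      rw [hv]
      exact dif_neg fun h => hz (by rw [hF]; simp [(hfix g).2 h])
  -- conjugating by the normaliser
  set N := normalizer (H : Set G) with hN
  have hNmem : ∀ n ∈ N, ∀ y, y ∈ H → n⁻¹ * y * n ∈ H := fun n hn y hy => by
    simpa using ((mem_normalizer_iff.1 (inv_mem hn)) y).1 hy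
  have hNcong : ∀ n (hn : n ∈ N) (y z : H), φ y = φ z →
      φ ⟨n⁻¹ * y * n, hNmem n hn y y.2⟩ = φ ⟨n⁻¹ * z * n, hNmem n hn z z.2⟩ := by
    intro n hn y z h
    rw [hφ_eq] at h ⊢
    have hmap : (⁅H, H⁆).map (MulAut.conj n⁻¹).toMonoidHom ≤ ⁅H, H⁆ := by
      have hHn : H.map (MulAut.conj n⁻¹).toMonoidHom ≤ H := by
        rintro _ ⟨d, hd, rfl⟩
        exact ((mem_normalizer_iff.1 (inv_mem hn)) d).1 hd
      rw [Subgroup.map_commutator]
      exact commutator_mono hHn hHn
    refine hmap ⟨_, h, ?_⟩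
    show n⁻¹ * ((y : G)⁻¹ * z) * n⁻¹⁻¹ = (n⁻¹ * y * n)⁻¹ * (n⁻¹ * z * n)
    group
  set X : Finset (Abelianization H) :=
    (Finset.univ : Finset N).image fun (n : N) => φ ⟨(n : G)⁻¹ * x * n, hNmem n n.2 x hxP⟩ with hX
  have hmapsto : ∀ z ∈ F, v z ∈ X := by
    intro z hz
    induction z using QuotientGroup.induction_on with
    | H g =>
      rw [hF, Finset.mem_filter] at hz
      have hg := (hfix g).1 hz.2
      obtain ⟨c, hc, hcP⟩ := conj_of_mem hx h9 hreal P (g • P) h27 hxP ((mem_smul_sylow g x P).2 hg)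
      have hn : c⁻¹ * g ∈ N := Sylow.smul_eq_iff_mem_normalizer.1 (by
        rw [mul_smul, ← hcP, inv_smul_smul])
      rw [hv, hval g hg, hX, Finset.mem_image]
      refine ⟨⟨_, hn⟩, Finset.mem_univ _, congrArg φ (Subtype.ext ?_)⟩
      show (c⁻¹ * g)⁻¹ * x * (c⁻¹ * g) = g⁻¹ * x * g
      have hcx := mem_centralizer_singleton_iff.1 hc
      calc (c⁻¹ * g)⁻¹ * x * (c⁻¹ * g) = g⁻¹ * (c * x) * c⁻¹ * g := by group
        _ = g⁻¹ * x * g := by rw [hcx]; group
  -- the fibres
  set a₀ : Abelianization H := φ ⟨x, hxP⟩ with ha₀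
  set m := (F.filter fun z => v z = a₀).card with hm
  have hfib : ∀ a ∈ X, (F.filter fun z => v z = a).card = m := by
    intro a ha
    rw [hX, Finset.mem_image] at ha
    obtain ⟨⟨n, hn⟩, -, rfl⟩ := ha
    have key : ∀ k, ∀ hk : k ∈ N, ∀ g : G, ∀ hg : g⁻¹ * x * g ∈ H, ∀ y : H, φ ⟨_, hg⟩ = φ y →
        x • ((g * k : G) : G ⧸ H) = ((g * k : G) : G ⧸ H) ∧
          v ((g * k : G) : G ⧸ H) = φ ⟨k⁻¹ * y * k, hNmem k hk y y.2⟩ := by
      intro k hk g hg y hy
      have hgk : (g * k)⁻¹ * x * (g * k) ∈ H := by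
        rw [show (g * k)⁻¹ * x * (g * k) = k⁻¹ * (g⁻¹ * x * g) * k by group]
        exact hNmem k hk _ hg
      refine ⟨(hfix _).2 hgk, ?_⟩
      rw [hv, hval _ hgk, ← hNcong k hk _ _ hy]
      exact congrArg φ (Subtype.ext (by
        show (g * k)⁻¹ * x * (g * k) = k⁻¹ * (g⁻¹ * x * g) * k
        group))
    let rmul : ∀ k, k ∈ N → G ⧸ H → G ⧸ H := fun k hk z =>
      Quotient.liftOn' z (fun g => ((g * k : G) : G ⧸ H)) fun a b hab => by
        refine QuotientGroup.eq.2 ?_
        rw [show (a * k)⁻¹ * (b * k) = k⁻¹ * (a⁻¹ * b) * k by group]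
        exact hNmem k hk _ (QuotientGroup.leftRel_apply.1 hab)
    rw [hm]
    refine Finset.card_nbij' (rmul n⁻¹ (inv_mem hn)) (rmul n hn) ?_ ?_ ?_ ?_
    · intro z hz
      induction z using QuotientGroup.induction_on with
      | H g =>
        simp only [Finset.mem_coe, hF, Finset.mem_filter, Finset.mem_univ, true_and] at hz
        have hg := (hfix g).1 hz.1
        have hz2 := hz.2
        rw [hv, hval g hg] at hz2
        obtain ⟨e1, e2⟩ := key _ (inv_mem hn) g hg _ hz2
        simp only [Finset.mem_coe, hF, Finset.mem_filter, Finset.mem_univ, true_and]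
        refine ⟨e1, e2.trans (congrArg φ (Subtype.ext ?_))⟩
        show n⁻¹⁻¹ * (n⁻¹ * x * n) * n⁻¹ = x
        group
    · intro z hz
      induction z using QuotientGroup.induction_on with
      | H g =>
        simp only [Finset.mem_coe, hF, Finset.mem_filter, Finset.mem_univ, true_and] at hz
        have hg := (hfix g).1 hz.1
        have hz2 := hz.2
        rw [hv, hval g hg, ha₀] at hz2
        obtain ⟨e1, e2⟩ := key n hn g hg _ hz2
        simp only [Finset.mem_coe, hF, Finset.mem_filter, Finset.mem_univ, true_and]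
        exact ⟨e1, e2⟩
    · intro z _
      induction z using QuotientGroup.induction_on with
      | H g =>
        show ((g * n⁻¹ * n : G) : G ⧸ H) = g
        rw [inv_mul_cancel_right]
    · intro z _
      induction z using QuotientGroup.induction_on with
      | H g =>
        show ((g * n * n⁻¹ : G) : G ⧸ H) = g
        rw [mul_inv_cancel_right]
  have hFX : F.card = X.card * m := by
    rw [Finset.card_eq_sum_card_fiberwise hmapsto, Finset.sum_congr rfl hfib, Finset.sum_const,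
      smul_eq_mul]
  -- counting modulo three
  have hF3 : ¬ 3 ∣ F.card := by
    have hp : IsPGroup 3 (zpowers x) := IsPGroup.of_card (n := 1) (by rw [Nat.card_zpowers, hx, pow_one])
    have h := hp.card_modEq_card_fixedPoints (G ⧸ H)
    have hfp : Nat.card (fixedPoints (zpowers x) (G ⧸ H)) = F.card := by
      rw [← Nat.card_eq_finsetCard]
      refine Nat.card_congr (Equiv.subtypeEquivRight fun z => ?_)
      rw [hF, Finset.mem_filter, mem_fixedPoints]
      refine ⟨fun h => ⟨Finset.mem_univ _, h ⟨x, mem_zpowers x⟩⟩, fun ⟨_, h⟩ ⟨y, hy⟩ => ?_⟩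
      obtain ⟨k, rfl⟩ := mem_zpowers_iff.1 hy
      exact mem_fixedBy.1 (fixedBy_subset_fixedBy_zpow (G ⧸ H) x k (mem_fixedBy.2 h))
    rw [hfp] at h
    intro hd
    have : 3 ∣ Nat.card (G ⧸ H) := Nat.modEq_zero_iff_dvd.1 (h.trans hd.modEq_zero_nat)
    exact P.not_dvd_index this
  -- the transfer of `x` is trivial
  let V : G →* Abelianization H := MonoidHom.transfer φ
  have hV : V x = 1 := by
    rcases Subgroup.Normal.eq_bot_or_eq_top (inferInstance : V.ker.Normal) with he | he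
    · refine absurd ⟨⟨fun a b => (MonoidHom.ker_eq_bot_iff V).1 he ?_⟩⟩ hna
      rw [map_mul, map_mul, mul_comm]
    · exact MonoidHom.mem_ker.1 (show x ∈ V.ker by rw [he]; trivial)
  letI : Fintype (Quotient (orbitRel (zpowers x) (G ⧸ H))) := Fintype.ofFinite _
  have horb : ∀ z w : G ⧸ H, x • z = z → w ∈ orbit (zpowers x) z → w = z := by
    rintro z _ hz ⟨⟨y, hy⟩, rfl⟩
    obtain ⟨k, rfl⟩ := mem_zpowers_iff.1 hy
    exact mem_fixedBy.1 (fixedBy_subset_fixedBy_zpow (G ⧸ H) x k (mem_fixedBy.2 hz))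
  have hVall : V x = ∏ z, v z := by
    rw [show V x = _ from MonoidHom.transfer_eq_prod_quotient_orbitRel_zpowers_quot φ x,
      ← Finset.prod_fiberwise Finset.univ (fun z => (Quotient.mk'' z : Quotient (orbitRel (zpowers x) (G ⧸ H)))) v]
    refine Finset.prod_congr rfl fun q _ => ?_
    have hper : Function.IsPeriodicPt (fun z : G ⧸ H => x • z) 3 q.out := by
      show (fun z : G ⧸ H => x • z)^[3] q.out = q.out
      simp only [Function.iterate_succ, Function.iterate_zero, Function.comp_apply, id_eq, ← mul_smul]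
      rw [← pow_three, hx3, one_smul]
    have hdvd : Function.minimalPeriod (fun z : G ⧸ H => x • z) q.out ∣ 3 := hper.minimalPeriod_dvd
    by_cases hfq : x • q.out = q.out
    · have hsingle : (Finset.univ.filter fun z => (Quotient.mk'' z : Quotient (orbitRel (zpowers x) (G ⧸ H))) = q) = {q.out} := by
        ext z
        simp only [Finset.mem_filter, Finset.mem_univ, true_and, Finset.mem_singleton]
        refine ⟨fun h => horb _ _ hfq (orbitRel_apply.1 (Quotient.exact' (h.trans (Quotient.out_eq' q).symm))), ?_⟩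
        rintro rfl
        exact Quotient.out_eq' q
      rw [hsingle, Finset.prod_singleton]
      have hg : q.out.out⁻¹ * x * q.out.out ∈ H := (hfix _).1 (by rwa [QuotientGroup.out_eq'])
      conv_rhs => rw [← QuotientGroup.out_eq' q.out]
      rw [hv, hval _ hg]
      refine congrArg φ (Subtype.ext ?_)
      show _ * x ^ _ * _ = _
      rw [show Function.minimalPeriod (fun z : G ⧸ H => x • z) q.out = 1 from
        Function.minimalPeriod_eq_one_iff_isFixedPt.2 hfq, pow_one]
    · have h1 : ∀ z ∈ Finset.univ.filter (fun z => (Quotient.mk'' z : Quotient (orbitRel (zpowers x) (G ⧸ H))) = q),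
          v z = 1 := by
        intro z hz
        simp only [Finset.mem_filter, Finset.mem_univ, true_and] at hz
        refine hoff z fun hzF => hfq ?_
        rw [hF, Finset.mem_filter] at hzF
        have := horb z q.out hzF.2 (orbitRel_apply.1 (Quotient.exact' ((Quotient.out_eq' q).trans hz.symm)))
        rw [this]
        exact hzF.2
      rw [Finset.prod_eq_one h1]
      have h3 : Function.minimalPeriod (fun z : G ⧸ H => x • z) q.out = 3 := by
        rcases (Nat.dvd_prime (by norm_num)).1 hdvd with h | h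
        · exact absurd (Function.minimalPeriod_eq_one_iff_isFixedPt.1 h) hfq
        · exact h
      convert map_one φ
      show _ * x ^ _ * _ = (1 : G)
      rw [h3, hx3, mul_one, inv_mul_cancel]
  have hprod : ∏ z, v z = (∏ a ∈ X, a) ^ m := by
    rw [← Finset.prod_subset (Finset.subset_univ F) (fun z _ hz => hoff z hz),
      ← Finset.prod_fiberwise_of_maps_to hmapsto v, ← Finset.prod_pow]
    refine Finset.prod_congr rfl fun a ha => ?_
    rw [Finset.prod_congr rfl (fun z hz => (Finset.mem_filter.1 hz).2), Finset.prod_const, hfib a ha]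
  -- the set `X`
  have hrepr : ∀ a ∈ X, ∃ n, ∃ hn : n ∈ N, φ ⟨n⁻¹ * x * n, hNmem n hn x hxP⟩ = a := by
    intro a ha
    rw [hX, Finset.mem_image] at ha
    obtain ⟨⟨n, hn⟩, -, rfl⟩ := ha
    exact ⟨n, hn, rfl⟩
  have hcube : ∀ a ∈ X, a ^ 3 = 1 := by
    intro a ha
    obtain ⟨n, hn, rfl⟩ := hrepr a ha
    rw [← map_pow]
    convert map_one φ
    refine Subtype.ext ?_
    show (n⁻¹ * x * n) ^ 3 = 1
    rw [pow_three, show n⁻¹ * x * n * (n⁻¹ * x * n * (n⁻¹ * x * n)) = n⁻¹ * (x * (x * x)) * n by group,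
      ← pow_three, hx3, mul_one, inv_mul_cancel]
  have hone : ∀ a ∈ X, a ≠ 1 := by
    intro a ha e
    obtain ⟨n, hn, hna'⟩ := hrepr a ha
    have h := hNcong n⁻¹ (inv_mem hn) _ 1 (hna'.trans (e.trans (map_one φ).symm))
    rw [hφ_eq] at h
    refine hxn ?_
    have h' := inv_mem h
    simpa [mul_assoc] using h'
  have hop : ∀ a ∈ X, a⁻¹ ∉ X := by
    intro a ha hb
    obtain ⟨n, hn, rfl⟩ := hrepr a ha
    obtain ⟨k, hk, hka⟩ := hrepr _ hb
    rw [← map_inv] at hka
    have h := hNcong n⁻¹ (inv_mem hn) _ _ hka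
    rw [hφ_eq] at h
    -- `x⁻¹ ≡ n k⁻¹ x k n⁻¹`, so their product is in the derived group
    have h' : x⁻¹ * (n * k⁻¹ * x * k * n⁻¹)⁻¹ ∈ ⁅H, H⁆ := by
      have hconj : x⁻¹ * ((n * k⁻¹ * x * k * n⁻¹)⁻¹ * x⁻¹) * x ∈ ⁅H, H⁆ := by
        have hnorm : ∀ z ∈ ⁅H, H⁆, x⁻¹ * z * x ∈ ⁅H, H⁆ := by
          intro z hz
          have hmap : (⁅H, H⁆).map (MulAut.conj x⁻¹).toMonoidHom ≤ ⁅H, H⁆ := by
            have hHn : H.map (MulAut.conj x⁻¹).toMonoidHom ≤ H := by
              rintro _ ⟨d, hd, rfl⟩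
              exact mul_mem (mul_mem (inv_mem hxP) hd) (inv_mem (inv_mem hxP))
            rw [Subgroup.map_commutator]
            exact commutator_mono hHn hHn
          exact hmap ⟨z, hz, by show x⁻¹ * z * x⁻¹⁻¹ = _; rw [inv_inv]⟩
        refine hnorm _ ?_
        simpa [mul_assoc] using h
      simpa [mul_assoc] using hconj
    obtain ⟨r, -, hr⟩ := mem_classIn.1 (hall _ h')
    refine hreal ((n * k⁻¹)⁻¹ * r) ?_
    calc (n * k⁻¹)⁻¹ * r * x * ((n * k⁻¹)⁻¹ * r)⁻¹ = (n * k⁻¹)⁻¹ * (r * x * r⁻¹) * (n * k⁻¹) := by group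
      _ = x⁻¹ := by rw [hr]; group
  have hne : X.Nonempty := ⟨φ ⟨(1 : G)⁻¹ * x * 1, hNmem 1 (one_mem _) x hxP⟩, by
    rw [hX, Finset.mem_image]; exact ⟨1, Finset.mem_univ _, rfl⟩⟩
  rw [hFX] at hF3
  refine prod_ne_one hA X hne hcube hone hop (fun hd => hF3 (hd.mul_right m)) ?_
  have hm3 : ¬ 3 ∣ m := fun hd => hF3 (hd.mul_left _)
  have hp3 : (∏ a ∈ X, a) ^ 3 = 1 := by rw [← Finset.prod_pow]; exact Finset.prod_eq_one hcube
  have hpm : (∏ a ∈ X, a) ^ m = 1 := by rw [← hprod, ← hVall, hV]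
  have hg : Nat.gcd 3 m = 1 := (Nat.prime_three.coprime_iff_not_dvd).2 hm3
  have := pow_gcd_eq_one.2 ⟨hp3, hpm⟩
  rwa [hg, pow_one] at this

end Cfsg.Agent.FixFour
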