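import Cfsg.Agent.FixFour.OddBasic
import Cfsg.Agent.FixFour.CentNine
import Cfsg.Agent.Layer.PTerminalGroup

/-!
# Fixity four with point stabilisers of odd order divisible by three

Either the Sylow `3`-subgroups determine a strongly `3`-embedded subgroup, or they are elementary
abelian of order nine.
-/

set_option autoImplicit false

namespace Cfsg.Agent.FixFour

open MulAction Pointwise Subgroup

universe u v

variable {G : Type u} [Group G] {Ω : Type v} [MulAction G Ω]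

theorem commute_of_sq_commute {w x : G} (hw : Odd (orderOf w)) (h : Commute (w * w) x) : Commute w x := by
  obtain ⟨j, hj⟩ := hw
  have e : w = (w * w) ^ (j + 1) := by
    rw [← pow_two, ← pow_mul, show 2 * (j + 1) = (2 * j + 1) + 1 by ring, pow_succ, ← hj,
      pow_orderOf_eq_one, one_mul]
  rw [e]
  exact h.pow_left _

/-- An element of odd order does not invert an element of order three. -/
theorem not_inv_of_odd {g x : G} (hg : Odd (orderOf g)) (hx : x ^ 3 = 1) (hx1 : x ≠ 1) :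
    g * x * g⁻¹ ≠ x⁻¹ := by
  intro h
  have h2 : g * g * x * (g * g)⁻¹ = x := by
    calc g * g * x * (g * g)⁻¹ = g * (g * x * g⁻¹) * g⁻¹ := by group
      _ = g * x⁻¹ * g⁻¹ := by rw [h]
      _ = (g * x * g⁻¹)⁻¹ := by group
      _ = x := by rw [h, inv_inv]
  have hc := commute_of_sq_commute hg (mul_inv_eq_iff_eq_mul.1 h2)
  rw [hc.eq, mul_inv_cancel_right] at h
  refine hx1 ?_
  calc x = x ^ 3 * (x * x)⁻¹ := by group
    _ = (x * x)⁻¹ := by rw [hx, one_mul]
    _ = 1 := by rw [show x * x = 1 by rw [← mul_eq_one_iff_eq_inv.2 h]]; exact inv_one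

theorem odd_of_fix [Finite G] (htrans : IsPretransitive G Ω) {a : Ω}
    (hodd : Odd (Nat.card (stabilizer G a))) {g : G} {b : Ω} (hb : g • b = b) : Odd (orderOf g) := by
  obtain ⟨k, hk⟩ := htrans.exists_smul_eq a b
  have hmem : k⁻¹ * g * k ∈ stabilizer G a := by
    rw [mem_stabilizer_iff, mul_smul, mul_smul, hk, hb, ← hk, inv_smul_smul]
  have he : orderOf g = orderOf (k⁻¹ * g * k) := by
    rw [show k⁻¹ * g * k = MulAut.conj k⁻¹ g by simp, MulEquiv.orderOf_eq]
  rw [he]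
  refine hodd.of_dvd_nat ?_
  rw [← Subgroup.orderOf_mk (k⁻¹ * g * k) hmem]
  exact orderOf_dvd_natCard _

theorem fix_modEq [Finite Ω] {U : Subgroup G} (hU : IsPGroup 3 U) {x : G} (hx : x ∈ U) :
    Nat.card (fixedBy Ω x) % 3 = Nat.card Ω % 3 := by
  have := Fact.mk Nat.prime_three
  have hz : IsPGroup 3 (zpowers x) := hU.to_le (zpowers_le.2 hx)
  have h := hz.card_modEq_card_fixedPoints Ω
  have e : fixedPoints (zpowers x) Ω = fixedBy Ω x := by
    ext a
    refine ⟨fun ha => ha ⟨x, mem_zpowers x⟩, fun ha => ?_⟩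
    rintro ⟨g, hg⟩
    obtain ⟨i, rfl⟩ := mem_zpowers_iff.1 hg
    show x ^ i • a = a
    exact fixedBy_subset_fixedBy_zpow (α := Ω) x i ha
  rw [e] at h
  exact h.symm

/-- An element of order three with a commuting three-element moving its fixed set is not real. -/
theorem not_real [Finite G] [Finite Ω] (hOdd : ∀ (g : G) (b : Ω), g • b = b → Odd (orderOf g))
    {x y : G} (hx : x ^ 3 = 1) (hx1 : x ≠ 1)
    (hcard : Nat.card (fixedBy Ω x) = 3 ∨ Nat.card (fixedBy Ω x) = 4) {U : Subgroup G}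
    (hU : IsPGroup 3 U) (hy : y ∈ U) (hyx : Commute y x) (hyp : y ∉ pointStab (fixedBy Ω x)) :
    ∀ g : G, g * x * g⁻¹ ≠ x⁻¹ := by
  intro g hg
  set Q := fixedBy Ω x with hQ
  have hgQ : g ∈ stabilizer G Q := by
    rw [mem_stabilizer_iff, hQ, ← fix_conj, hg, fixedBy_inv]
  have hyQ : y ∈ stabilizer G Q := mem_stabilizer_iff.2 (smul_fix_of_comm hyx.eq)
  have hσ3 := resPerm_cube (Q := Q) (by rcases hcard with h | h <;> omega) hU hy hyQ
  have hσ1 : resPerm Q ⟨y, hyQ⟩ ≠ 1 := fun e => hyp (resPerm_eq_one.1 e)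
  obtain ⟨-, a, i, hcase⟩ := perm_cube hcard hσ3 hσ1 (resPerm Q ⟨g, hgQ⟩)
  rcases hcase with ha | ha
  · have : g • (a : Ω) = a := congrArg Subtype.val ha
    exact not_inv_of_odd (hOdd g _ this) hx hx1 hg
  · simp only [← map_pow, ← map_inv] at ha
    have e : y ^ i • g • y • g⁻¹ • (a : Ω) = g • (a : Ω) := congrArg Subtype.val ha
    set c := y ^ i * (g * y * g⁻¹) with hc
    have hca : c • (a : Ω) = g • (a : Ω) := by rw [hc, mul_smul, mul_smul, mul_smul]; exact e
    have hcx : Commute c x := by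
      refine (hyx.pow_left i).mul_left ?_
      have h1 := (Commute.conj_iff g).2 hyx
      rw [hg] at h1
      exact Commute.inv_right_iff.1 h1
    have hfix : (c⁻¹ * g) • (a : Ω) = a := by rw [mul_smul, ← hca, inv_smul_smul]
    refine not_inv_of_odd (hOdd _ _ hfix) hx hx1 ?_
    calc c⁻¹ * g * x * (c⁻¹ * g)⁻¹ = c⁻¹ * (g * x * g⁻¹) * c := by group
      _ = x⁻¹ := by rw [hg, mul_assoc, ← (hcx.inv_right).eq, inv_mul_cancel_left]

/-- An element centralising `y` and moving `z` inside the group they generate. -/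
theorem shear {y z w : G} (hy : y ^ 3 = 1) (hz : z ^ 3 = 1) (hwo : Odd (orderOf w)) (hyz : Commute y z)
    (hwy : Commute w y) (hznot : ∀ i : ℕ, z ≠ y ^ i) (hwz : ¬ Commute w z)
    (hw : ∃ i j, i < 3 ∧ j < 3 ∧ w * z * w⁻¹ = y ^ i * z ^ j) :
    IsConj z (z * y) ∧ IsConj z (z * y * y) := by
  obtain ⟨i, j, hi, hj, he⟩ := hw
  have hyy : ∀ k : ℕ, w * y ^ k * w⁻¹ = y ^ k := fun k => by
    rw [(hwy.pow_right k).eq, mul_inv_cancel_right]
  have h2 : w * w * z * (w * w)⁻¹ = y ^ i * (y ^ i * z ^ j) ^ j := by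
    calc w * w * z * (w * w)⁻¹ = w * (w * z * w⁻¹) * w⁻¹ := by group
      _ = (w * y ^ i * w⁻¹) * (w * z ^ j * w⁻¹) := by rw [he]; group
      _ = y ^ i * (w * z * w⁻¹) ^ j := by rw [hyy, conj_pow]
      _ = _ := by rw [he]
  interval_cases j
  · exfalso
    refine hznot i ?_
    rw [pow_zero, mul_one] at he
    calc z = w⁻¹ * (w * z * w⁻¹) * w := by group
      _ = w⁻¹ * (w * y ^ i * w⁻¹) * w := by rw [he, hyy]
      _ = y ^ i := by group
  · rw [pow_one] at he h2
    rw [pow_one] at h2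
    have c1 : IsConj z (y ^ i * z) := isConj_iff.2 ⟨w, he⟩
    have c2 : IsConj z (y ^ i * (y ^ i * z)) := isConj_iff.2 ⟨w * w, h2⟩
    have e : ∀ k : ℕ, y ^ k * z = z * y ^ k := fun k => (hyz.pow_left k).eq
    interval_cases i
    · exact absurd (mul_inv_eq_iff_eq_mul.1 (by rw [he, pow_zero, one_mul])) hwz
    · rw [e, pow_one] at c1
      rw [← mul_assoc, ← pow_add, e, pow_two, ← mul_assoc] at c2
      exact ⟨c1, c2⟩
    · rw [e, pow_two, ← mul_assoc] at c1
      rw [← mul_assoc, ← pow_add, e, show 2 + 2 = 3 + 1 by rfl, pow_succ, hy, one_mul] at c2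
      exact ⟨c2, c1⟩
  · exfalso
    refine hwz (commute_of_sq_commute hwo (mul_inv_eq_iff_eq_mul.1 ?_))
    rw [h2, (hyz.pow_pow i 2).mul_pow, ← pow_mul, ← pow_mul, ← mul_assoc, ← pow_add,
      show i + i * 2 = 3 * i by ring, pow_mul, hy, one_pow, one_mul,
      show 2 * 2 = 3 + 1 by rfl, pow_succ, hz, one_mul]

/-- Two independent commuting elements of order three give nine products. -/
theorem nine_inj {y z : G} (hyo : orderOf y = 3) (hzo : orderOf z = 3) (hyz : Commute y z)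
    (hznot : ∀ i : ℕ, z ≠ y ^ i) (hynot : ∀ i : ℕ, y ≠ z ^ i) {p q : Fin 3 × Fin 3}
    (e : y ^ (p.1 : ℕ) * z ^ (p.2 : ℕ) = y ^ (q.1 : ℕ) * z ^ (q.2 : ℕ)) : p = q := by
  obtain ⟨i, j⟩ := p
  obtain ⟨i', j'⟩ := q
  dsimp only at e
  have hy3 : y ^ 3 = 1 := hyo ▸ pow_orderOf_eq_one y
  have hz3 : z ^ 3 = 1 := hzo ▸ pow_orderOf_eq_one z
  have e' : y ^ ((i : ℕ) + (3 - (i' : ℕ))) = z ^ ((j' : ℕ) + (3 - (j : ℕ))) := by
    calc y ^ ((i : ℕ) + (3 - (i' : ℕ)))
        = y ^ (i : ℕ) * z ^ ((j : ℕ) + (3 - (j : ℕ))) * y ^ (3 - (i' : ℕ)) := by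
          rw [show (j : ℕ) + (3 - (j : ℕ)) = 3 by omega, hz3, mul_one, pow_add]
      _ = y ^ (i : ℕ) * z ^ (j : ℕ) * (y ^ (3 - (i' : ℕ)) * z ^ (3 - (j : ℕ))) := by
          rw [pow_add, (hyz.pow_pow (3 - (i' : ℕ)) (3 - (j : ℕ))).eq]; simp only [mul_assoc]
      _ = y ^ (i' : ℕ) * (z ^ (j' : ℕ) * y ^ (3 - (i' : ℕ))) * z ^ (3 - (j : ℕ)) := by
          rw [e]; simp only [mul_assoc]
      _ = y ^ ((i' : ℕ) + (3 - (i' : ℕ))) * z ^ ((j' : ℕ) + (3 - (j : ℕ))) := by
          rw [← (hyz.pow_pow (3 - (i' : ℕ)) (j' : ℕ)).eq, pow_add, pow_add]; simp only [mul_assoc]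
      _ = z ^ ((j' : ℕ) + (3 - (j : ℕ))) := by
          rw [show (i' : ℕ) + (3 - (i' : ℕ)) = 3 by omega, hy3, one_mul]
  rw [← pow_mod_orderOf y, hyo] at e'
  have hi : ((i : ℕ) + (3 - (i' : ℕ))) % 3 = 0 := by
    rcases (by omega : ((i : ℕ) + (3 - (i' : ℕ))) % 3 = 0 ∨ ((i : ℕ) + (3 - (i' : ℕ))) % 3 = 1 ∨
        ((i : ℕ) + (3 - (i' : ℕ))) % 3 = 2) with h | h | h
    · exact h
    · rw [h, pow_one] at e'
      exact absurd e' (hynot _)
    · rw [h] at e'
      refine absurd ?_ (hynot (((j' : ℕ) + (3 - (j : ℕ))) * 2))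
      rw [pow_mul, ← e', ← pow_mul, show 2 * 2 = 3 + 1 by rfl, pow_succ, hy3, one_mul]
  have hii : i = i' := Fin.ext (by omega)
  subst hii
  exact Prod.ext rfl (Fin.ext (pow_injOn_Iio_orderOf (x := z) (Set.mem_Iio.2 (by omega)) (Set.mem_Iio.2 (by omega)) (mul_left_cancel e)))

theorem exists_conj_of_sylow [Finite G] {p : ℕ} [Fact p.Prime] (P : Sylow p G) {U : Subgroup G}
    (hU : IsPGroup p U) : ∃ k : G, ∀ u ∈ U, k⁻¹ * u * k ∈ (P : Subgroup G) := by
  obtain ⟨S, hS⟩ := hU.exists_le_sylow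
  obtain ⟨k, hk⟩ := MulAction.exists_smul_eq G P S
  refine ⟨k, fun u hu => ?_⟩
  have h := hS hu
  rw [← hk, Sylow.coe_subgroup_smul, Subgroup.mem_pointwise_smul_iff_inv_smul_mem, ← map_inv] at h
  simpa using h

/-- All three-elements fix one or two points. -/
theorem se_of_small [Finite G] [Finite Ω] (h : Ctx G Ω) (hdvd : 3 ∣ Nat.card G) {j : ℕ}
    (hj : 1 ≤ j) (hj2 : j ≤ 2)
    (hall : ∀ U : Subgroup G, IsPGroup 3 U → ∀ x ∈ U, x ≠ 1 → Nat.card (fixedBy Ω x) = j) :
    ∃ H : Subgroup G, H ≠ ⊤ ∧ 3 ∣ Nat.card H ∧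
      ∀ g : G, g ∉ H → ¬ 3 ∣ Nat.card ↥(H ⊓ H.map (MulAut.conj g).toMonoidHom) := by
  have := Fact.mk Nat.prime_three
  obtain ⟨P⟩ : Nonempty (Sylow 3 G) := inferInstance
  have hP0 : (P : Subgroup G) ≠ ⊥ := fun e => by
    have h1 := P.dvd_card_of_dvd_card hdvd
    rw [e, Subgroup.card_bot] at h1
    norm_num at h1
  obtain ⟨z, hzP, hz3, hzc⟩ :=
    Layer.exists_central_of_normalized P.2 le_rfl Subgroup.le_normalizer hP0
  have hz1 : z ≠ 1 := fun e => by rw [e, orderOf_one] at hz3; norm_num at hz3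
  have hQ := hall _ P.2 z hzP hz1
  have hne : (fixedBy Ω z).Nonempty := by
    by_contra he
    rw [Set.not_nonempty_iff_eq_empty] at he
    rw [he] at hQ
    simp at hQ
    omega
  refine se_of_uniform h P hdvd _ hne (h.ne_univ (by omega)) fun x hx hx1 => ?_
  have hxS : x ∈ stabilizer G (fixedBy Ω z) := mem_stabilizer_iff.2 (smul_fix_of_comm (hzc x hx))
  have hsub : fixedBy Ω z ⊆ fixedBy Ω x := fun a ha =>
    mem_pointStab.1 (mem_pointStab_of_small (by omega) P.2 hx hxS) a ha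
  refine (Set.eq_of_subset_of_ncard_le hsub ?_ (Set.toFinite _)).symm
  rw [← Nat.card_coe_set_eq, ← Nat.card_coe_set_eq, hall _ P.2 x hx hx1, hQ]

theorem three_pow_le_nine {n : ℕ} (h : n < 27) (h3 : ∃ k, n = 3 ^ k) : n ≤ 9 := by
  obtain ⟨k, rfl⟩ := h3
  rcases k with _ | _ | _ | k <;> first | norm_num | skip
  exfalso
  have : 3 ^ 3 ≤ 3 ^ (k + 1 + 1 + 1) := Nat.pow_le_pow_right (by norm_num) (by omega)
  norm_num at this
  omega

/-- The case of point stabilisers of odd order divisible by three, given the impossibility of a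
non-real element of order three with small centraliser. -/
theorem odd_case_of [Finite G] [Finite Ω] (h : Ctx G Ω) (a : Ω)
    (hodd : Odd (Nat.card (stabilizer G a))) (h3 : 3 ∣ Nat.card (stabilizer G a))
    (hcn : ∀ x : G, orderOf x = 3 → ∀ P : Sylow 3 G, x ∈ (P : Subgroup G) → 27 ≤ Nat.card P →
      (∀ R : Subgroup G, IsPGroup 3 R → R ≤ centralizer ({x} : Set G) → Nat.card R ≤ 9) →
      (∀ g : G, g * x * g⁻¹ ≠ x⁻¹) → False)
    (P' : Sylow 3 G) :
    (∃ H : Subgroup G, H ≠ ⊤ ∧ 3 ∣ Nat.card H ∧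
      ∀ g : G, g ∉ H → ¬ 3 ∣ Nat.card ↥(H ⊓ H.map (MulAut.conj g).toMonoidHom)) ∨
    (Nat.card P' = 9 ∧ ∀ x ∈ (P' : Subgroup G), x ^ 3 = 1) := by
  have := Fact.mk Nat.prime_three
  have hOdd : ∀ (g : G) (b : Ω), g • b = b → Odd (orderOf g) := fun g b hb => odd_of_fix h.trans hodd hb
  have hdvd : 3 ∣ Nat.card G := h3.trans (Subgroup.card_subgroup_dvd_card _)
  obtain ⟨x0, hx0⟩ := exists_prime_orderOf_dvd_card' 3 h3
  have hx0o : orderOf (x0 : G) = 3 := by rw [Subgroup.orderOf_coe, hx0]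
  have hx0z : IsPGroup 3 (zpowers (x0 : G)) :=
    IsPGroup.of_card (n := 1) (by rw [Nat.card_zpowers, hx0o, pow_one])
  have hx0fix : 0 < Nat.card (fixedBy Ω (x0 : G)) := by
    have : Nonempty (fixedBy Ω (x0 : G)) := ⟨⟨a, x0.2⟩⟩
    exact Nat.card_pos
  have hx01 : (x0 : G) ≠ 1 := fun e => by rw [e, orderOf_one] at hx0o; norm_num at hx0o
  -- the number of points
  rcases (by omega : Nat.card Ω % 3 = 2 ∨ Nat.card Ω % 3 ≠ 2) with hn | hn
  · refine Or.inl (se_of_small h hdvd (j := 2) (by norm_num) le_rfl fun U hU x hx hx1 => ?_)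
    have := fix_modEq (Ω := Ω) hU hx
    have := h.le4 x hx1
    omega
  obtain ⟨m, hm, hmn, hmax⟩ : ∃ m, (m = 3 ∨ m = 4) ∧ m % 3 = Nat.card Ω % 3 ∧
      ∀ U : Subgroup G, IsPGroup 3 U → ∀ x ∈ U, x ≠ 1 → Nat.card (fixedBy Ω x) ≤ m := by
    rcases (by omega : Nat.card Ω % 3 = 0 ∨ Nat.card Ω % 3 = 1) with h0 | h0
    · refine ⟨3, Or.inl rfl, by omega, fun U hU x hx hx1 => ?_⟩
      have := fix_modEq (Ω := Ω) hU hx
      have := h.le4 x hx1
      omega
    · exact ⟨4, Or.inr rfl, by omega, fun U hU x hx hx1 => h.le4 x hx1⟩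
  by_cases hex : ∀ U : Subgroup G, IsPGroup 3 U → ∀ x ∈ U, x ≠ 1 → Nat.card (fixedBy Ω x) ≠ m
  · refine Or.inl (se_of_small h hdvd (j := 1) le_rfl (by norm_num) fun U hU x hx hx1 => ?_)
    have h1 := hex _ hx0z _ (mem_zpowers _) hx01
    have := fix_modEq (Ω := Ω) hU hx
    have := fix_modEq (Ω := Ω) hx0z (mem_zpowers (x0 : G))
    have := hmax _ hx0z _ (mem_zpowers _) hx01
    have := hmax U hU x hx hx1
    have := hex U hU x hx hx1
    omega
  push Not at hex
  obtain ⟨U0, hU0, x, hxU0, hx1, hxm⟩ := hex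
  -- the set of fixed points and its stabiliser
  set Q := fixedBy Ω x with hQdef
  have hQ4 : Nat.card Q ≤ 4 := by omega
  have hcQ : Nat.card Q = 3 ∨ Nat.card Q = 4 := by omega
  have hpoint : ∀ U : Subgroup G, IsPGroup 3 U → ∀ t ∈ U, t ∈ pointStab Q → t ≠ 1 → fixedBy Ω t = Q := by
    intro U hU t ht htp ht1
    refine (Set.eq_of_subset_of_ncard_le (show Q ⊆ fixedBy Ω t from fun b hb => mem_pointStab.1 htp b hb) ?_
      (Set.toFinite _)).symm
    rw [← Nat.card_coe_set_eq, ← Nat.card_coe_set_eq, hxm]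
    exact hmax U hU t ht ht1
  set H := stabilizer G Q with hH
  obtain ⟨P0, hxP0⟩ : ∃ P0 : Sylow 3 H, (⟨x, mem_stabilizer_fix x⟩ : H) ∈ (P0 : Subgroup H) := by
    obtain ⟨k, hk⟩ := exists_pow_three hU0 hxU0
    have hz : IsPGroup 3 (zpowers (⟨x, mem_stabilizer_fix x⟩ : H)) := by
      obtain ⟨j, -, hj⟩ := (Nat.dvd_prime_pow Nat.prime_three).1 (orderOf_dvd_of_pow_eq_one hk)
      refine IsPGroup.of_card (n := j) ?_
      rw [Nat.card_zpowers, Subgroup.orderOf_mk, hj]
    obtain ⟨R, hR⟩ := hz.exists_le_sylow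
    exact ⟨R, hR (mem_zpowers _)⟩
  set W : Subgroup G := (P0 : Subgroup H).map H.subtype with hW
  have hWp : IsPGroup 3 W := P0.2.map _
  have hWH : W ≤ H := map_subtype_le _
  have hxW : x ∈ W := ⟨_, hxP0, rfl⟩
  have hmaxW : ∀ U : Subgroup G, IsPGroup 3 U → U ≤ H → W ≤ U → U = W := by
    intro U hU hUH hWU
    have hs : IsPGroup 3 (U.subgroupOf H) := hU.of_equiv (Subgroup.subgroupOfEquivOfLe hUH).symm
    have he := P0.3 hs (fun u hu => hWU ⟨u, hu, rfl⟩)
    rw [hW, ← he, map_subgroupOf_eq_of_le hUH]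
  set T := W ⊓ pointStab Q with hT
  have hxT : x ∈ T := ⟨hxW, mem_pointStab.2 fun b hb => hb⟩
  have hfixT : ∀ t ∈ T, t ≠ 1 → fixedBy Ω t = Q := fun t ht ht1 => hpoint W hWp t ht.1 ht.2 ht1
  have hnormT : ∀ g : G, (∀ t ∈ T, g * t * g⁻¹ ∈ T) → g ∈ H := by
    intro g hg
    have h1 : g * x * g⁻¹ ≠ 1 := fun e => hx1 (conj_eq_one_iff.1 e)
    have h2 := hfixT _ (hg x hxT) h1
    rw [fix_conj, ← hQdef] at h2
    exact mem_stabilizer_iff.2 h2
  obtain ⟨P, hWP⟩ := hWp.exists_le_sylow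
  by_cases hWT : W ≤ pointStab Q
  · -- all three-elements of a Sylow subgroup fix the same points
    have hWeq : W = P := by
      by_contra hne
      obtain ⟨g, hgP, hgN, hgW⟩ := Layer.exists_mem_normalizer_not_mem P.2 hWP hne
      have hTW : T = W := inf_eq_left.2 hWT
      have hgH : g ∈ H := hnormT g fun t ht => by
        rw [hTW] at ht ⊢
        exact (mem_normalizer_iff.1 hgN t).1 ht
      have hU := hmaxW ((W ⊔ zpowers g)) (P.2.to_le (sup_le hWP (zpowers_le.2 hgP)))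
        (sup_le hWH (zpowers_le.2 hgH)) le_sup_left
      exact hgW (hU ▸ (le_sup_right : zpowers g ≤ W ⊔ zpowers g) (mem_zpowers g))
    refine Or.inl (se_of_uniform h P hdvd Q ?_ (h.ne_univ hQ4) fun t ht ht1 => ?_)
    · by_contra he
      rw [Set.not_nonempty_iff_eq_empty] at he
      rw [he] at hcQ
      simp at hcQ
    · rw [← hWeq] at ht
      exact hpoint W hWp t ht (hWT ht) ht1
  obtain ⟨hWcard, hWthree⟩ := (card_le_three_mul hQ4 hWp hWH).2 hWT
  rw [← hT] at hWcard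
  obtain ⟨y0, hy0W, hy0T⟩ := SetLike.not_le_iff_exists.1 hWT
  have hWeq : W = P := by
    by_contra hne
    obtain ⟨g, hgP, hgN, hgW⟩ := Layer.exists_mem_normalizer_not_mem P.2 hWP hne
    have hgH : g ∉ H := fun hgH => by
      have hU := hmaxW ((W ⊔ zpowers g)) (P.2.to_le (sup_le hWP (zpowers_le.2 hgP)))
        (sup_le hWH (zpowers_le.2 hgH)) le_sup_left
      exact hgW (hU ▸ (le_sup_right : zpowers g ≤ W ⊔ zpowers g) (mem_zpowers g))
    set T' := T.map (MulAut.conj g).toMonoidHom with hT'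
    have hT'W : T' ≤ W := by
      rintro _ ⟨t, ht, rfl⟩
      exact (mem_normalizer_iff.1 hgN t).1 ht.1
    have hdisj : Disjoint T T' := by
      rw [disjoint_iff_inf_le]
      rintro _ ⟨ht, t, htT, rfl⟩
      by_contra h1
      change g * t * g⁻¹ ∈ T at ht
      have h1' : g * t * g⁻¹ ≠ 1 := h1
      have ht1 : t ≠ 1 := fun e => h1' (by simp [e])
      have h2 := hfixT _ ht h1'
      rw [fix_conj, hfixT t htT ht1] at h2
      exact hgH (mem_stabilizer_iff.2 h2)
    have hle : Nat.card T * Nat.card T' ≤ Nat.card W := by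
      rw [← Nat.card_prod]
      refine Nat.card_le_card_of_injective
        (fun p => (⟨(p.1 : G) * p.2, mul_mem p.1.2.1 (hT'W p.2.2)⟩ : W)) fun p q e => ?_
      exact Subgroup.mul_injective_of_disjoint hdisj (congrArg Subtype.val e)
    have hT'c : Nat.card T' = Nat.card T := (Nat.card_congr
      (T.equivMapOfInjective _ (MulAut.conj g).injective).toEquiv).symm
    rw [hWcard, hT'c] at hle
    have hT3 : Nat.card T ≤ 3 := Nat.le_of_mul_le_mul_right hle Nat.card_pos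
    have hTc : Nat.card T = 3 := by
      obtain ⟨j, hj⟩ := IsPGroup.iff_card.1 (hWp.to_le (inf_le_left : T ≤ W))
      rcases j with _ | _ | j
      · exact absurd ((Subgroup.eq_bot_iff_forall _).1 (Subgroup.card_eq_one.1 (hj.trans (pow_zero 3))) x hxT) hx1
      · exact hj.trans (by norm_num)
      · exfalso
        have : 3 ^ 2 ≤ 3 ^ (j + 1 + 1) := Nat.pow_le_pow_right (by norm_num) (by omega)
        norm_num at this
        have h33 := hj.symm.trans_le hT3
        omega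
    have hW9 : Nat.card W = 9 := by rw [hWcard, hTc]
    have hxo : orderOf x = 3 := by
      rcases (Nat.dvd_prime Nat.prime_three).1 (hTc ▸ (T.orderOf_coe ⟨x, hxT⟩ ▸ orderOf_dvd_natCard (⟨x, hxT⟩ : T))) with e | e
      · exact absurd (orderOf_eq_one_iff.1 e) hx1
      · exact e
    have hx3 : x ^ 3 = 1 := hxo ▸ pow_orderOf_eq_one x
    have hcomm : Commute y0 x := congrArg Subtype.val
      (IsPGroup.commutative_of_card_eq_prime_sq (p := 3) (G := W) (by rw [hW9]; norm_num)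
        ⟨y0, hy0W⟩ ⟨x, hxW⟩)
    refine hcn x hxo P (hWP hxW) ?_ (fun R hR hRC => ?_) (not_real hOdd hx3 hx1 hcQ hWp hy0W hcomm hy0T)
    · obtain ⟨j, hj⟩ := IsPGroup.iff_card.1 P.2
      by_contra hlt
      have h9 := three_pow_le_nine (n := Nat.card P) (by omega) ⟨j, hj⟩
      exact hne (eq_of_le_of_card_ge hWP (by omega))
    · have hRH : R ≤ H := hRC.trans (centralizer_le_stabilizer x)
      obtain ⟨S, hS⟩ := (hR.of_equiv (Subgroup.subgroupOfEquivOfLe hRH).symm).exists_le_sylow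
      calc Nat.card R = Nat.card (R.subgroupOf H) :=
            (Nat.card_congr (Subgroup.subgroupOfEquivOfLe hRH).toEquiv).symm
        _ ≤ Nat.card S := Nat.card_le_card_of_injective _ (Subgroup.inclusion_injective hS)
        _ = Nat.card P0 := by rw [Sylow.card_eq_multiplicity, Sylow.card_eq_multiplicity]
        _ = Nat.card W := Nat.card_congr ((P0 : Subgroup H).equivMapOfInjective H.subtype H.subtype_injective).toEquiv
        _ ≤ 9 := hW9.le
  have hPH : (P : Subgroup G) ≤ H := hWeq ▸ hWH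
  have hTP : T ≤ P := inf_le_left.trans hWeq.le
  have hy0P : y0 ∈ (P : Subgroup G) := hWeq.le hy0W
  have hTmem : ∀ u ∈ (P : Subgroup G), u ∈ pointStab Q → u ∈ T := fun u hu hup => ⟨hWeq.ge hu, hup⟩
  obtain ⟨z, hzT, hz3', hzc⟩ : ∃ z ∈ T, orderOf z = 3 ∧ ∀ g ∈ (P : Subgroup G), g * z = z * g := by
    refine Layer.exists_central_of_normalized P.2 hTP (fun g hg => ?_) ?_
    · refine mem_normalizer_iff.2 fun t => ⟨fun ht => ?_, fun ht => ?_⟩
      · exact hTmem _ (mul_mem (mul_mem hg (hTP ht)) (inv_mem hg)) (normal_pointStab (hPH hg) ht.2)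
      · have h1 := normal_pointStab (inv_mem (hPH hg)) ht.2
        have h2 := mul_mem (mul_mem (inv_mem hg) (hTP ht)) hg
        simp only [inv_inv, mul_assoc, inv_mul_cancel, mul_one, inv_mul_cancel_left] at h1 h2
        exact hTmem t h2 h1
    · exact fun e => hx1 (by simpa [e] using hxT)
  have hz1 : z ≠ 1 := fun e => by rw [e, orderOf_one] at hz3'; norm_num at hz3'
  have hz3 : z ^ 3 = 1 := hz3' ▸ pow_orderOf_eq_one z
  have hfz : fixedBy Ω z = Q := hfixT z hzT hz1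
  by_cases hA : ∀ y ∈ (P : Subgroup G), y ∉ T → Nat.card (fixedBy Ω y) ≠ m
  · -- the fixed point count separates `T`, so `T` contains the focal subgroup
    exfalso
    have hlt : T < (P : Subgroup G) := lt_of_le_of_ne hTP fun e => hy0T (e.ge hy0P).2
    obtain ⟨u, g, huP, huP', hout⟩ := exists_fused_out h P T hlt
    have hin : ∀ s ∈ (P : Subgroup G), ∀ k : G, k * s * k⁻¹ ∈ (P : Subgroup G) → s ∈ T → k * s * k⁻¹ ∈ T := by
      intro s hs k hk hsT
      by_cases h1 : s = 1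
      · subst h1; simp
      by_contra hn'
      refine hA _ hk hn' ?_
      rw [card_fix_conj, hfixT s hsT h1, hxm]
    by_cases huT : u ∈ T
    · exact hout (mul_mem (hin u huP g huP' huT) (inv_mem huT))
    have hu'T : g * u * g⁻¹ ∉ T := fun hh => huT (by
      have := hin _ huP' g⁻¹ (by simpa [mul_assoc] using huP) hh
      simpa [mul_assoc] using this)
    set C := centralizer ({u} : Set G) with hC
    have hzC : z ∈ C := mem_centralizer_singleton_iff.2 (hzc u huP).symm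
    set z1 := g⁻¹ * z * g with hz1def
    have hz1C : z1 ∈ C := by
      refine mem_centralizer_singleton_iff.2 ?_
      calc z1 * u = g⁻¹ * (z * (g * u * g⁻¹)) * g := by rw [hz1def]; group
        _ = g⁻¹ * ((g * u * g⁻¹) * z) * g := by rw [hzc _ huP']
        _ = u * z1 := by rw [hz1def]; group
    have hz13 : orderOf z1 = 3 := by
      rw [hz1def, show g⁻¹ * z * g = MulAut.conj g⁻¹ z by simp, MulEquiv.orderOf_eq, hz3']
    have hpz : ∀ w : C, orderOf (w : G) = 3 → ∃ R : Sylow 3 C, w ∈ (R : Subgroup C) := by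
      intro w hw
      have : IsPGroup 3 (zpowers w) := IsPGroup.of_card (n := 1) (by
        rw [Nat.card_zpowers, ← Subgroup.orderOf_coe, hw, pow_one])
      obtain ⟨R, hR⟩ := this.exists_le_sylow
      exact ⟨R, hR (mem_zpowers w)⟩
    obtain ⟨R0, hR0⟩ := hpz ⟨z, hzC⟩ hz3'
    obtain ⟨R1, hR1⟩ := hpz ⟨z1, hz1C⟩ hz13
    obtain ⟨c, hc⟩ := MulAction.exists_smul_eq C R0 R1
    rw [← hc, Sylow.coe_subgroup_smul, Subgroup.mem_pointwise_smul_iff_inv_smul_mem, ← map_inv] at hR1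
    set R := (R0 : Subgroup C).map C.subtype with hR
    have hzR : z ∈ R := ⟨_, hR0, rfl⟩
    set z2 := (c : G)⁻¹ * z1 * (c : G) with hz2def
    have hz2R : z2 ∈ R := ⟨_, hR1, by simp [hz2def]⟩
    have hfz1 : fixedBy Ω z1 = g⁻¹ • Q := by
      rw [← hfz, ← fix_conj, inv_inv]
    have hfz2 : fixedBy Ω z2 = (c : G)⁻¹ • g⁻¹ • Q := by
      rw [← hfz1, ← fix_conj, inv_inv]
    obtain ⟨k, hk⟩ := exists_conj_of_sylow P (R0.2.map C.subtype)
    have hRfix : ∀ w ∈ R, w ≠ 1 → Nat.card (fixedBy Ω w) = m → fixedBy Ω w = k • Q := by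
      intro w hw hw1 hwm
      have hw' := hk w hw
      have hwT : k⁻¹ * w * k ∈ T := by
        by_contra hn'
        refine hA _ hw' hn' ?_
        rw [show k⁻¹ * w * k = k⁻¹ * w * k⁻¹⁻¹ by group, card_fix_conj, hwm]
      have h1 : k⁻¹ * w * k ≠ 1 := fun e => hw1 (by
        calc w = k * (k⁻¹ * w * k) * k⁻¹ := by group
          _ = 1 := by rw [e]; group)
      calc fixedBy Ω w = fixedBy Ω (k * (k⁻¹ * w * k) * k⁻¹) := by congr 1; group
        _ = k • Q := by rw [fix_conj, hfixT _ hwT h1]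
    have hz21 : z2 ≠ 1 := fun e => by
      have : orderOf z2 = 3 := by
        rw [hz2def, show (c : G)⁻¹ * z1 * c = MulAut.conj (c : G)⁻¹ z1 by simp, MulEquiv.orderOf_eq, hz13]
      rw [e, orderOf_one] at this
      norm_num at this
    have e1 := hRfix z hzR hz1 (by rw [hfz, hxm])
    have e2 := hRfix z2 hz2R hz21 (by rw [hfz2, card_smul, card_smul, hxm])
    rw [hfz] at e1
    rw [hfz2, ← e1, inv_smul_eq_iff, inv_smul_eq_iff, ← mul_smul] at e2
    have hgc : g * (c : G) ∈ H := mem_stabilizer_iff.2 e2.symm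
    set d := g * (c : G) with hd
    have hcu : (c : G) * u = u * c := mem_centralizer_singleton_iff.1 c.2
    have hdu : d * u * d⁻¹ = g * u * g⁻¹ := by
      rw [hd]
      calc g * c * u * (g * c)⁻¹ = g * ((c : G) * u) * (c : G)⁻¹ * g⁻¹ := by group
        _ = _ := by rw [hcu]; group
    obtain ⟨-, hPthree⟩ := (card_le_three_mul hQ4 P.2 hPH).2 fun hle => hy0T (hle hy0P)
    have hup : u ∉ pointStab Q := fun hh => huT (hTmem u huP hh)
    rcases hPthree u huP _ huP' hup with hh | hh | hh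
    · exact hu'T (hTmem _ huP' hh)
    · refine hout ?_
      have h1 := hTmem _ (mul_mem (inv_mem huP') huP) hh
      -- conjugate back into the other order
      have h2 := normal_pointStab (hPH huP') h1.2
      have h3 := inv_mem h2
      refine hTmem _ (mul_mem huP' (inv_mem huP)) ?_
      simpa [mul_assoc] using h3
    · -- `d` inverts the image of `u`
      have hσ3 := resPerm_cube (Q := Q) hQ4 P.2 huP (hPH huP)
      have hσ1 : resPerm Q ⟨u, hPH huP⟩ ≠ 1 := fun e => hup (resPerm_eq_one.1 e)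
      have hrel : resPerm Q ⟨d, hgc⟩ * resPerm Q ⟨u, hPH huP⟩ =
          (resPerm Q ⟨u, hPH huP⟩)⁻¹ * resPerm Q ⟨d, hgc⟩ := by
        have h1 : resPerm Q (⟨d, hgc⟩ * ⟨u, hPH huP⟩ * ⟨d, hgc⟩⁻¹ * ⟨u, hPH huP⟩) = 1 := by
          refine resPerm_eq_one.2 ?_
          show d * u * d⁻¹ * u ∈ pointStab Q
          rw [hdu]; exact hh
        rw [map_mul, map_mul, map_mul, map_inv, mul_eq_one_iff_eq_inv, mul_inv_eq_iff_eq_mul] at h1
        exact h1
      obtain ⟨⟨b, hb⟩, hbfix⟩ := (perm_cube hcQ hσ3 hσ1 (resPerm Q ⟨d, hgc⟩)).1 hrel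
      have hdb : d • b = b := congrArg Subtype.val hbfix
      obtain ⟨j, hj⟩ := hOdd d b hdb
      have hod : Odd (orderOf (resPerm Q ⟨d, hgc⟩)) := by
        refine Odd.of_dvd_nat ⟨j, hj⟩ ((orderOf_map_dvd (resPerm Q) _).trans ?_)
        rw [Subgroup.orderOf_mk]
      exact not_inv_of_odd hod hσ3 hσ1 (mul_inv_eq_iff_eq_mul.2 hrel)
  push Not at hA
  obtain ⟨y, hyP, hyT, hym⟩ := hA
  have hyp : y ∉ pointStab Q := fun hh => hyT (hTmem y hyP hh)
  have hy1 : y ≠ 1 := fun e => hyT (e ▸ T.one_mem)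
  have hyQ : fixedBy Ω y ≠ Q := fun e => hyp (mem_pointStab.2 fun b hb => (e.ge hb : b ∈ fixedBy Ω y))
  have hy3 : y ^ 3 = 1 := by
    by_contra hne
    have hy3p : y ^ 3 ∈ pointStab Q := by
      have := resPerm_cube (Q := Q) hQ4 P.2 hyP (hPH hyP)
      rw [← map_pow] at this
      exact resPerm_eq_one.1 this
    have h1 := hpoint _ P.2 _ (pow_mem hyP 3) hy3p hne
    have h2 : fixedBy Ω y ⊆ Q := h1 ▸ fix_pow_subset y 3
    refine hyQ (Set.eq_of_subset_of_ncard_le h2 ?_ (Set.toFinite _))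
    rw [← Nat.card_coe_set_eq, ← Nat.card_coe_set_eq, hym, hxm]
  have hyo : orderOf y = 3 := orderOf_eq_prime hy3 hy1
  have hfree : ∀ U : Subgroup G, IsPGroup 3 U → U ≤ H → U ≤ centralizer ({y} : Set G) →
      Nat.card ↥(U ⊓ pointStab Q) ≤ 3 ∧ Nat.card U ≤ 9 := by
    intro U hU hUH hUC
    set A : Set Ω := fixedBy Ω y \ Q with hA'
    have hAne : A.Nonempty := by
      by_contra he
      rw [Set.not_nonempty_iff_eq_empty, hA', Set.sdiff_eq_empty] at he
      refine hyQ (Set.eq_of_subset_of_ncard_le he ?_ (Set.toFinite _))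
      rw [← Nat.card_coe_set_eq, ← Nat.card_coe_set_eq, hym, hxm]
    have hdiv : Nat.card ↥(U ⊓ pointStab Q) ∣ Nat.card A := by
      refine card_dvd_of_free _ _ (fun t ht b hb => ⟨?_, fun hbQ => hb.2 ?_⟩) fun t ht ht1 b hb e => hb.2 ?_
      · rw [← smul_fix_of_comm (Ω := Ω) (mem_centralizer_singleton_iff.1 (hUC ht.1))]
        exact Set.smul_mem_smul_set hb.1
      · have h1 := mem_pointStab.1 (inv_mem ht.2) _ hbQ
        rw [inv_smul_smul] at h1
        rwa [← h1] at hbQ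
      · rw [← hpoint U hU t ht.1 ht.2 ht1]; exact e
    have hA4 : Nat.card A ≤ 4 := by
      refine (Nat.card_mono (Set.toFinite _) Set.sdiff_subset).trans ?_
      omega
    have hApos : 0 < Nat.card A := by
      have := hAne.to_subtype
      exact Nat.card_pos
    have h3le : Nat.card ↥(U ⊓ pointStab Q) ≤ 3 := by
      obtain ⟨j, hj⟩ := IsPGroup.iff_card.1 (hU.to_le (inf_le_left : U ⊓ pointStab Q ≤ U))
      have := Nat.le_of_dvd hApos hdiv
      rcases j with _ | _ | j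
      · rw [hj]; norm_num
      · rw [hj]; norm_num
      · exfalso
        have : 3 ^ 2 ≤ 3 ^ (j + 1 + 1) := Nat.pow_le_pow_right (by norm_num) (by omega)
        norm_num at this
        omega
    exact ⟨h3le, le_trans (card_le_three_mul hQ4 hU hUH).1 (by omega)⟩
  set Y := (P : Subgroup G) ⊓ centralizer ({y} : Set G) with hY
  have hYp : IsPGroup 3 Y := P.2.to_le inf_le_left
  have hYH : Y ≤ H := inf_le_left.trans hPH
  have hyY : y ∈ Y := ⟨hyP, mem_centralizer_singleton_iff.2 rfl⟩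
  have hzY : z ∈ Y := ⟨hTP hzT, mem_centralizer_singleton_iff.2 (hzc y hyP).symm⟩
  have hyz : Commute y z := hzc y hyP
  have hznot : ∀ i : ℕ, z ≠ y ^ i := fun i e => by
    have h1 : fixedBy Ω y ⊆ Q := hfz ▸ e ▸ fix_pow_subset y i
    refine hyQ (Set.eq_of_subset_of_ncard_le h1 ?_ (Set.toFinite _))
    rw [← Nat.card_coe_set_eq, ← Nat.card_coe_set_eq, hym, hxm]
  have hynot : ∀ i : ℕ, y ≠ z ^ i := fun i e => hyT (e ▸ T.pow_mem hzT i)
  have hYmem : ∀ w ∈ Y, ∃ i j, i < 3 ∧ j < 3 ∧ w = y ^ i * z ^ j := by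
    have hinj : Function.Injective (fun p : Fin 3 × Fin 3 =>
        (⟨y ^ (p.1 : ℕ) * z ^ (p.2 : ℕ), mul_mem (pow_mem hyY _) (pow_mem hzY _)⟩ : Y)) :=
      fun p q e => nine_inj hyo hz3' hyz hznot hynot (congrArg Subtype.val e)
    have h9 : Nat.card Y ≤ 9 := (hfree Y hYp hYH inf_le_right).2
    have hbij := (Nat.bijective_iff_injective_and_card _).2 ⟨hinj, le_antisymm
      (Nat.card_le_card_of_injective _ hinj) (by simpa using h9)⟩
    intro w hw
    obtain ⟨⟨i, j⟩, e⟩ := hbij.2 ⟨w, hw⟩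
    exact ⟨i, j, i.2, j.2, (congrArg Subtype.val e).symm⟩
  have hY9 : Nat.card Y ≤ 9 := (hfree Y hYp hYH inf_le_right).2
  by_cases hP27 : 27 ≤ Nat.card P
  · exfalso
    have hyreal : ∀ g : G, g * y * g⁻¹ ≠ y⁻¹ := by
      refine not_real hOdd hy3 hy1 (by omega) P.2 (hTP hzT) hyz.symm fun hh => hyQ ?_
      have h1 : fixedBy Ω y ⊆ Q := fun b hb => hfz ▸ mem_pointStab.1 hh b hb
      refine Set.eq_of_subset_of_ncard_le h1 ?_ (Set.toFinite _)
      rw [← Nat.card_coe_set_eq, ← Nat.card_coe_set_eq, hym, hxm]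
    by_cases hsmall : ∀ R : Subgroup G, IsPGroup 3 R → R ≤ centralizer ({y} : Set G) → Nat.card R ≤ 9
    · exact hcn y hyo P hyP hP27 hsmall hyreal
    push Not at hsmall
    obtain ⟨U, hU, hUC, hU9⟩ := hsmall
    -- a large three-subgroup of the centraliser containing `Y`
    set C := centralizer ({y} : Set G) with hC
    obtain ⟨R0, hR0⟩ := (hYp.of_equiv (Subgroup.subgroupOfEquivOfLe (inf_le_right : Y ≤ C)).symm).exists_le_sylow
    set R := (R0 : Subgroup C).map C.subtype with hR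
    have hRp : IsPGroup 3 R := R0.2.map _
    have hRC : R ≤ C := map_subtype_le _
    have hYR : Y ≤ R := fun w hw => ⟨⟨w, hw.2⟩, hR0 hw, rfl⟩
    have hR9 : 9 < Nat.card R := by
      obtain ⟨S, hS⟩ := (hU.of_equiv (Subgroup.subgroupOfEquivOfLe hUC).symm).exists_le_sylow
      refine lt_of_lt_of_le hU9 ?_
      calc Nat.card U = Nat.card (U.subgroupOf C) :=
            (Nat.card_congr (Subgroup.subgroupOfEquivOfLe hUC).toEquiv).symm
        _ ≤ Nat.card S := Nat.card_le_card_of_injective _ (Subgroup.inclusion_injective hS)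
        _ = Nat.card R0 := by rw [Sylow.card_eq_multiplicity, Sylow.card_eq_multiplicity]
        _ = Nat.card R := Nat.card_congr ((R0 : Subgroup C).equivMapOfInjective C.subtype C.subtype_injective).toEquiv
    obtain ⟨w, hwR, hwN, hwY⟩ := Layer.exists_mem_normalizer_not_mem hRp hYR (fun e => by
      rw [← e] at hR9; omega)
    have hwy : Commute w y := mem_centralizer_singleton_iff.1 (hRC hwR)
    have hwz : ¬ Commute w z := by
      intro hwz
      set V := R ⊓ centralizer ({z} : Set G) with hV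
      have hVH : V ≤ H := fun u hu => by
        rw [hH, ← hfz]; exact centralizer_le_stabilizer z hu.2
      have hV9 := (hfree V (hRp.to_le inf_le_left) hVH (inf_le_left.trans hRC)).2
      have hYV : Y ≤ V := le_inf hYR fun u hu => mem_centralizer_singleton_iff.2 (hzc u hu.1)
      have hY9' : 9 ≤ Nat.card Y := by
        have hinj : Function.Injective (fun p : Fin 3 × Fin 3 =>
            (⟨y ^ (p.1 : ℕ) * z ^ (p.2 : ℕ), mul_mem (pow_mem hyY _) (pow_mem hzY _)⟩ : Y)) := by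
          intro p q e
          have e : y ^ (p.1 : ℕ) * z ^ (p.2 : ℕ) = y ^ (q.1 : ℕ) * z ^ (q.2 : ℕ) := congrArg Subtype.val e
          exact nine_inj hyo hz3' hyz hznot hynot e
        simpa using Nat.card_le_card_of_injective _ hinj
      exact hwY ((eq_of_le_of_card_ge hYV (by omega)).ge ⟨hwR, mem_centralizer_singleton_iff.2 hwz.eq⟩)
    have hoddp : ∀ {U : Subgroup G}, IsPGroup 3 U → ∀ u ∈ U, Odd (orderOf u) := fun hU u hu => by
      obtain ⟨k, hk⟩ := exists_pow_three hU hu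
      exact Odd.of_dvd_nat (Odd.pow ⟨1, rfl⟩) (orderOf_dvd_of_pow_eq_one hk)
    obtain ⟨c1, c2⟩ := shear hy3 hz3 (hoddp hRp w hwR) hyz hwy hznot hwz
      (hYmem _ ((mem_normalizer_iff.1 hwN z).1 hzY))
    obtain ⟨v, hvP, hvN, hvY⟩ := Layer.exists_mem_normalizer_not_mem P.2 (inf_le_left : Y ≤ P)
      (fun e => by
        have : Nat.card Y = Nat.card P := congrArg (fun S : Subgroup G => Nat.card S) e
        omega)
    have hvy : ¬ Commute v y := fun hh => hvY ⟨hvP, mem_centralizer_singleton_iff.2 hh.eq⟩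
    obtain ⟨i, j, hi, hj, hij⟩ := hYmem _ ((mem_normalizer_iff.1 hvN y).1 hyY)
    obtain ⟨d1, d2⟩ := shear hz3 hy3 (hoddp P.2 v hvP) hyz.symm (hzc v hvP) hynot hvy
      ⟨j, i, hj, hi, by rw [hij, (hyz.pow_pow i j).eq]⟩
    -- `z` is conjugate to `z y`, to `y` and to `y⁻¹`
    have e1 : IsConj z y := c1.trans (hyz.eq ▸ d1.symm)
    have e2 : IsConj (z * y * y) y⁻¹ := by
      have e : (y * z * z)⁻¹ = z * y * y := by
        refine inv_eq_of_mul_eq_one_right ?_
        calc y * z * z * (z * y * y) = y * (z ^ 3) * (y * y) := by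
              rw [pow_succ, pow_two]; simp only [mul_assoc]
          _ = y ^ 3 := by rw [hz3, mul_one, pow_succ, pow_two]; simp only [mul_assoc]
          _ = 1 := hy3
      rw [← e]
      obtain ⟨q, hq⟩ := isConj_iff.1 d2.symm
      exact isConj_iff.2 ⟨q, (conj_inv).symm.trans (congrArg (·⁻¹) hq)⟩
    obtain ⟨q, hq⟩ := isConj_iff.1 (e1.symm.trans (c2.trans e2))
    exact hyreal q hq
  · right
    have hc9 : Nat.card P ≤ 9 := by
      obtain ⟨j, hj⟩ := IsPGroup.iff_card.1 P.2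
      exact three_pow_le_nine (by omega) ⟨j, hj⟩
    have hP9 : Nat.card P = 9 := by
      refine le_antisymm hc9 ?_
      have hinj : Function.Injective (fun p : Fin 3 × Fin 3 =>
          (⟨y ^ (p.1 : ℕ) * z ^ (p.2 : ℕ), mul_mem (pow_mem hyP _) (pow_mem (hTP hzT) _)⟩ : (P : Subgroup G))) :=
        fun p q e => nine_inj hyo hz3' hyz hznot hynot (congrArg Subtype.val e)
      simpa using Nat.card_le_card_of_injective _ hinj
    have hPY : Y = (P : Subgroup G) := by
      refine eq_of_le_of_card_ge inf_le_left ?_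
      rw [hP9]
      have hinj : Function.Injective (fun p : Fin 3 × Fin 3 =>
          (⟨y ^ (p.1 : ℕ) * z ^ (p.2 : ℕ), mul_mem (pow_mem hyY _) (pow_mem hzY _)⟩ : Y)) :=
        fun p q e => nine_inj hyo hz3' hyz hznot hynot (congrArg Subtype.val e)
      simpa using Nat.card_le_card_of_injective _ hinj
    refine ⟨by rw [Sylow.card_eq_multiplicity, ← Sylow.card_eq_multiplicity P, hP9], fun s hs => ?_⟩
    obtain ⟨k, hk⟩ := exists_conj_of_sylow P P'.2
    obtain ⟨i, j, -, -, e⟩ := hYmem _ (hPY ▸ hk s hs)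
    have h1 : (k⁻¹ * s * k) ^ 3 = 1 := by
      rw [e, (hyz.pow_pow i j).mul_pow, ← pow_mul, ← pow_mul, mul_comm i, mul_comm j, pow_mul, pow_mul,
        hy3, hz3, one_pow, one_pow, one_mul]
    calc s ^ 3 = k * (k⁻¹ * s * k) ^ 3 * k⁻¹ := by rw [← conj_pow]; group
      _ = 1 := by rw [h1]; group

/-- The case of point stabilisers of odd order divisible by three. -/
theorem odd_case [Finite G] [Finite Ω] (h : Ctx G Ω) (a : Ω) (hodd : Odd (Nat.card (stabilizer G a)))
    (h3 : 3 ∣ Nat.card (stabilizer G a)) (P : Sylow 3 G) :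
    (∃ H : Subgroup G, H ≠ ⊤ ∧ 3 ∣ Nat.card H ∧
      ∀ g : G, g ∉ H → ¬ 3 ∣ Nat.card ↥(H ⊓ H.map (MulAut.conj g).toMonoidHom)) ∨
    (Nat.card P = 9 ∧ ∀ x ∈ (P : Subgroup G), x ^ 3 = 1) :=
  haveI := h.simple
  odd_case_of h a hodd h3 (fun _ hx P hxP h27 h9 hreal => cent_nine_false h.na hx P hxP h27 h9 hreal) P

end Cfsg.Agent.FixFour
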