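import Cfsg.Agent.FixFour.Basic

/-!
# Fixity four: the rigid case

Every involution fixing four points fixes exactly the translates of `Q` that it stabilises.
-/

set_option autoImplicit false

namespace Cfsg.Agent.FixFour

open MulAction Pointwise

universe u v

variable {G : Type u} [Group G] {Ω : Type v} [MulAction G Ω]

/-- The data of the rigid case. -/
structure Rigid (Q : Set Ω) : Prop where
  ctx : Ctx G Ω
  card : Nat.card Q = 4
  deg : ¬ 8 ∣ Nat.card Ω
  zero_or_four : ∀ x : G, orderOf x = 2 → fixedBy Ω x = ∅ ∨ Nat.card (fixedBy Ω x) = 4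
  translate : ∀ x : G, orderOf x = 2 → Nat.card (fixedBy Ω x) = 4 → ∃ g : G, fixedBy Ω x = g • Q
  only : ∀ x g : G, orderOf x = 2 → Nat.card (fixedBy Ω x) = 4 → x ∈ stabilizer G (g • Q) →
    fixedBy Ω x = g • Q
  fixer : ∀ u : G, orderOf u = 2 → u ∈ stabilizer G Q →
    ∃ x : G, orderOf x = 2 ∧ fixedBy Ω x = Q ∧ x * u = u * x

/-- A fixed-point-free involution stabilising two translates of `Q`. -/
def Rich (Q : Set Ω) (u : G) : Prop :=
  orderOf u = 2 ∧ fixedBy Ω u = ∅ ∧
    ∃ g k : G, g • Q ≠ k • Q ∧ u ∈ stabilizer G (g • Q) ∧ u ∈ stabilizer G (k • Q)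

/-- `x` is an involution with four fixed points commuting with `u`. -/
def InJ (u x : G) (Ω : Type v) [MulAction G Ω] : Prop :=
  orderOf x = 2 ∧ Nat.card (fixedBy Ω x) = 4 ∧ x * u = u * x

end Cfsg.Agent.FixFour
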