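import Cfsg.Agent.FixFour.Basic
import Cfsg.Agent.Fusion.MaxClassTwo
import Cfsg.Agent.S0112

/-!
# Setwise stabilisers and the maximal-class criterion
-/

set_option autoImplicit false

namespace Cfsg.Agent.FixFour

open MulAction Pointwise

universe u v

variable {G : Type u} [Group G] {Ω : Type v} [MulAction G Ω]

theorem smul_mem_iff {Q : Set Ω} {g : G} (hg : g ∈ stabilizer G Q) (a : Ω) : g • a ∈ Q ↔ a ∈ Q := by
  conv_lhs => rw [← mem_stabilizer_iff.1 hg]
  exact Set.smul_mem_smul_set_iff

/-- The permutation induced on a stable set. -/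
def setHom (Q : Set Ω) : stabilizer G Q →* Equiv.Perm Q where
  toFun g := (MulAction.toPerm (g : G)).subtypePerm fun a => smul_mem_iff g.2 a
  map_one' := Equiv.ext fun a => Subtype.ext (one_smul G (a : Ω))
  map_mul' g h := Equiv.ext fun a => Subtype.ext (mul_smul (g : G) (h : G) (a : Ω))

@[simp] theorem setHom_apply {Q : Set Ω} (g : stabilizer G Q) (a : Q) :
    ((setHom Q g a : Q) : Ω) = (g : G) • (a : Ω) := rfl

theorem ker_setHom (Q : Set Ω) : (setHom (G := G) Q).ker = (pointStab Q).subgroupOf (stabilizer G Q) := by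
  ext g
  rw [MonoidHom.mem_ker, Subgroup.mem_subgroupOf, mem_pointStab]
  exact ⟨fun e a ha => congrArg Subtype.val (Equiv.congr_fun e ⟨a, ha⟩),
    fun e => Equiv.ext fun a => Subtype.ext (e a a.2)⟩

/-- The index of the pointwise stabiliser in a subgroup of the setwise one divides the order of the
symmetric group on the set. -/
theorem relIndex_dvd [Finite Ω] (Q : Set Ω) (S : Subgroup G) (hS : S ≤ stabilizer G Q) :
    (pointStab Q).relIndex S ∣ (Nat.card Q).factorial := by
  rw [← Nat.card_perm (α := Q)]
  let f : ↥S →* Equiv.Perm Q := (setHom Q).comp (Subgroup.inclusion hS)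
  have hk : f.ker = (pointStab Q).subgroupOf S := by
    ext g
    rw [MonoidHom.mem_ker, Subgroup.mem_subgroupOf]
    constructor
    · intro e
      have : Subgroup.inclusion hS g ∈ (setHom (G := G) Q).ker := e
      rw [ker_setHom] at this
      exact this
    · intro e
      have : Subgroup.inclusion hS g ∈ (setHom (G := G) Q).ker := by rw [ker_setHom]; exact e
      exact this
  rw [Subgroup.relIndex, ← hk, Subgroup.index_ker]
  exact Subgroup.card_subgroup_dvd_card _

/-- A 2-subgroup containing an involution `y` and a second involution `z` with centraliser of order at most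
four is dihedral or semidihedral. -/
theorem dihedral_or_semi [Finite G] (S : Subgroup G) (hS : IsPGroup 2 S) {y z : G} (hy : y ∈ S) (hz : z ∈ S)
    (hy2 : orderOf y = 2) (hz2 : orderOf z = 2) (hne : y ≠ z) (hcom : y * z = z * y)
    (hC : Nat.card ↥(S ⊓ Subgroup.centralizer ({y} : Set G)) ≤ 4) :
    (∃ n : ℕ, Nonempty (↥S ≃* DihedralGroup n)) ∨ Cfsg.IsQuasiDihedral ↥S := by
  haveI : Fact (Nat.Prime 2) := ⟨Nat.prime_two⟩
  classical
  obtain ⟨n, hn⟩ := IsPGroup.iff_card.mp hS
  let y' : ↥S := ⟨y, hy⟩
  let z' : ↥S := ⟨z, hz⟩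
  have hy' : orderOf y' = 2 := by rw [← hy2]; exact Subgroup.orderOf_mk _ _
  have hz' : orderOf z' = 2 := by rw [← hz2]; exact Subgroup.orderOf_mk _ _
  have hne' : y' ≠ z' := fun e => hne (congrArg Subtype.val e)
  set C : Subgroup ↥S := Subgroup.centralizer ({y'} : Set ↥S) with hCdef
  have hCcard : Nat.card C ≤ 4 := by
    refine le_trans (Nat.le_of_eq ?_) hC
    have hcm : C = (S ⊓ Subgroup.centralizer ({y} : Set G)).subgroupOf S := by
      ext w
      rw [hCdef, Subgroup.mem_centralizer_singleton_iff, Subgroup.mem_subgroupOf, Subgroup.mem_inf,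
        Subgroup.mem_centralizer_singleton_iff]
      exact ⟨fun e => ⟨w.2, congrArg Subtype.val e⟩, fun e => Subtype.ext e.2⟩
    rw [hcm]
    exact Nat.card_congr (Subgroup.subgroupOfEquivOfLe inf_le_left).toEquiv
  have hy1 : y' ≠ 1 := fun e => by rw [e, orderOf_one] at hy'; omega
  have hz1 : z' ≠ 1 := fun e => by rw [e, orderOf_one] at hz'; omega
  have hyy : y' * y' = 1 := by rw [← pow_two, ← hy']; exact pow_orderOf_eq_one y'
  have hyC : y' ∈ C := Subgroup.mem_centralizer_singleton_iff.2 rfl
  have hzC : z' ∈ C := Subgroup.mem_centralizer_singleton_iff.2 (Subtype.ext hcom.symm)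
  have hlt : 2 < Nat.card C := by
    have h3 : ({1, y', z'} : Finset ↥S).card = 3 := by
      rw [Finset.card_insert_of_notMem, Finset.card_pair hne']
      simp [hy1.symm, hz1.symm]
    have hle : ({1, y', z'} : Finset ↥S).card ≤ Nat.card C := by
      rw [← Nat.card_eq_finsetCard]
      refine Nat.card_le_card_of_injective (fun w => (⟨w.1, ?_⟩ : C)) fun a b e => Subtype.ext ?_
      · have := w.2
        simp only [Finset.mem_insert, Finset.mem_singleton] at this
        rcases this with h | h | h <;> rw [h]
        · exact one_mem C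
        · exact hyC
        · exact hzC
      · exact congrArg (fun c : C => (c : ↥S)) e
    omega
  obtain ⟨k, hk⟩ := IsPGroup.iff_card.mp (hS.to_subgroup C)
  have hk2 : k = 2 := by
    have h1 : k < 3 := by
      by_contra hc
      have := Nat.pow_le_pow_right two_pos (not_lt.1 hc)
      omega
    have h2 : 1 < k := by
      by_contra hc
      have := Nat.pow_le_pow_right two_pos (not_lt.1 hc)
      omega
    omega
  subst hk2
  have habC : IsMulCommutative C := IsPGroup.isMulCommutative_of_card_eq_prime_sq (p := 2) hk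
  have hCC : Subgroup.centralizer (C : Set ↥S) = C := le_antisymm
    (fun w hw => Subgroup.mem_centralizer_singleton_iff.2 ((Subgroup.mem_centralizer_iff.1 hw y' hyC).symm))
    (Subgroup.le_centralizer C)
  by_cases hn3 : 3 ≤ n
  · have hcl := Cfsg.Agent.S0112.result n hn C hk hCC
    rcases (Fusion.mc_of_class hn3 hn hcl).1 with ⟨m, e⟩ | ⟨m, hc, a, b, ha, hb, hab⟩ | ⟨m, ⟨e⟩⟩
    · exact Or.inl ⟨_, e⟩
    · exact Or.inr (MaxClass.isQuasiDihedral_of_data hc ha hb hab)
    · exfalso
      haveI : NeZero (2 ^ (m + 1)) := ⟨pow_ne_zero _ two_ne_zero⟩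
      have hcy : ∀ w : ↥S, w * y' = y' * w := fun w => e.injective (by
        rw [map_mul, map_mul]
        exact MaxClass.quaternion_involution_central (by rw [e.orderOf_eq, hy']) (e w))
      have htop : C = ⊤ := eq_top_iff.2 fun w _ => Subgroup.mem_centralizer_singleton_iff.2 (hcy w)
      rw [htop, Subgroup.card_top, hn] at hk
      have := Nat.pow_le_pow_right two_pos hn3
      omega
  · have hS4 : Nat.card ↥S = 4 := by
      have h1 : Nat.card C ≤ Nat.card ↥S := Subgroup.card_le_card_group C
      rw [hn] at h1 ⊢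
      rw [hk] at h1
      have := Nat.pow_le_pow_right two_pos (show n ≤ 2 by omega)
      omega
    have hCtop : C = ⊤ := Subgroup.eq_top_of_card_eq C (by rw [hk, hS4]; norm_num)
    have hconj : y' * z' * y'⁻¹ = z'⁻¹ := by
      have hzz : z' * z' = 1 := by rw [← pow_two, ← hz']; exact pow_orderOf_eq_one z'
      rw [show y' * z' = z' * y' from Subtype.ext hcom, mul_inv_cancel_right]
      exact (inv_eq_of_mul_eq_one_right hzz).symm
    have hnot : y' ∉ Subgroup.zpowers z' := by
      intro hm
      obtain ⟨i, hi⟩ := mem_powers_iff_mem_zpowers.mpr hm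
      have hi' : z' ^ i = y' := hi
      rw [← pow_mod_orderOf, hz'] at hi'
      rcases Nat.mod_two_eq_zero_or_one i with h0 | h0 <;> rw [h0] at hi'
      · exact hy1 (by rw [← hi', pow_zero])
      · exact hne' (by rw [← hi', pow_one])
    refine Or.inl ⟨2, MaxClass.nonempty_mulEquiv_dihedral 2 hz' hyy hconj hnot fun w => ?_⟩
    have hidx : (Subgroup.zpowers z').index = 2 := by
      have := (Subgroup.zpowers z').card_mul_index
      rw [Nat.card_zpowers, hz', hS4] at this
      omega
    by_cases hw : w ∈ Subgroup.zpowers z'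
    · exact Or.inl hw
    · refine Or.inr ((Subgroup.mul_mem_iff_of_index_two hidx).2 (iff_of_false (fun h => hnot ?_) hw))
      exact (Subgroup.inv_mem_iff _).1 h

end Cfsg.Agent.FixFour
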