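import Cfsg.Agent.FixFour.SetAct
import Cfsg.Prelude.Def_Involutions

/-!
# Fixity four: involutions with at most three fixed points
-/

set_option autoImplicit false

namespace Cfsg.Agent.FixFour

open MulAction Pointwise

universe u v

variable {G : Type u} [Group G] {Ω : Type v} [MulAction G Ω]

/-- A non-identity element of a 2-group has an involution among its powers. -/
theorem exists_pow_invol [Finite G] {S : Subgroup G} (hS : IsPGroup 2 S) {x : G} (hx : x ∈ S) (h1 : x ≠ 1) :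
    ∃ k : ℕ, orderOf (x ^ k) = 2 := by
  obtain ⟨m, hm⟩ := hS ⟨x, hx⟩
  have hm' : x ^ 2 ^ m = 1 := congrArg Subtype.val hm
  obtain ⟨i, -, hi⟩ := (Nat.dvd_prime_pow Nat.prime_two).1 (orderOf_dvd_of_pow_eq_one hm')
  have hi0 : i ≠ 0 := fun e => h1 (orderOf_eq_one_iff.1 (by rw [hi, e, pow_zero]))
  refine ⟨2 ^ (i - 1), ?_⟩
  rw [orderOf_pow' x (pow_ne_zero _ two_ne_zero), hi, Nat.gcd_eq_right (pow_dvd_pow 2 (Nat.sub_le i 1)),
    Nat.pow_div (Nat.sub_le i 1) two_pos]
  rw [show i - (i - 1) = 1 by omega, pow_one]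

theorem eq_of_card_ge [Finite Ω] {A B : Set Ω} (h : A ⊆ B) (hc : Nat.card B ≤ Nat.card A) : A = B :=
  Set.eq_of_subset_of_ncard_le h (by rw [← Nat.card_coe_set_eq, ← Nat.card_coe_set_eq]; exact hc) (Set.toFinite _)

/-- If the involutions fix at most three points and some fixes one, the Sylow 2-subgroups are dihedral or
semidihedral, or there is a strongly embedded subgroup. -/
theorem small_case [Finite G] [Finite Ω] (h : Ctx G Ω) (f : ℕ)
    (hf : ∀ g : G, orderOf g = 2 → Nat.card (fixedBy Ω g) ≤ f)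
    (hf' : ∃ g : G, orderOf g = 2 ∧ Nat.card (fixedBy Ω g) = f) (h1 : 1 ≤ f) (h3 : f ≤ 3) (S : Sylow 2 G) :
    (∃ H : Subgroup G, Cfsg.IsStronglyEmbedded H) ∨
      ((∃ n : ℕ, Nonempty ((S : Subgroup G) ≃* DihedralGroup n)) ∨ Cfsg.IsQuasiDihedral (S : Subgroup G)) := by
  haveI : Fact (Nat.Prime 2) := ⟨Nat.prime_two⟩
  obtain ⟨t₀, ht₀, hf₀⟩ := hf'
  have hall : ∀ t : G, orderOf t = 2 → Nat.card (fixedBy Ω t) = f := by
    intro t ht
    have a := invol_parity h ht
    have b := invol_parity h ht₀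
    have c := hf t ht
    have hn := h.five
    omega
  have h2G : 2 ∣ Nat.card G := ht₀ ▸ orderOf_dvd_natCard t₀
  have hSne : (S : Subgroup G) ≠ ⊥ := fun e => by
    have := S.dvd_card_of_dvd_card h2G
    rw [e, Subgroup.card_bot] at this
    omega
  haveI : Nontrivial ↥(S : Subgroup G) := (Subgroup.nontrivial_iff_ne_bot _).2 hSne
  haveI := S.2.center_nontrivial
  obtain ⟨⟨z, hzc⟩, hzne⟩ := exists_ne (1 : Subgroup.center ↥(S : Subgroup G))
  obtain ⟨k, hk⟩ := exists_pow_invol S.2 z.2 (fun e => hzne (Subtype.ext (Subtype.ext e)))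
  set w : G := (z : G) ^ k with hw
  have hwS : w ∈ (S : Subgroup G) := pow_mem z.2 k
  have hwc : ∀ s ∈ (S : Subgroup G), s * w = w * s := fun s hs =>
    (Commute.pow_right (congrArg Subtype.val (Subgroup.mem_center_iff.1 hzc ⟨s, hs⟩)) k)
  set Q := fixedBy Ω w with hQdef
  have hQf : Nat.card Q = f := hall w hk
  have hQne : Q.Nonempty := by
    rw [← Set.nonempty_coe_sort]
    exact (Nat.card_pos_iff.1 (by omega)).1
  have hQu : Q ≠ Set.univ := h.ne_univ (by omega)
  have hSQ : (S : Subgroup G) ≤ stabilizer G Q := fun s hs => mem_stabilizer_iff.2 (smul_fix_of_comm (hwc s hs))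
  set D := (S : Subgroup G) ⊓ pointStab Q with hD
  have hDfix : ∀ x ∈ D, x ≠ 1 → fixedBy Ω x = Q := by
    intro x hx hx1
    obtain ⟨i, hi⟩ := exists_pow_invol S.2 hx.1 hx1
    have hsub : Q ⊆ fixedBy Ω x := fun a ha => mem_pointStab.1 hx.2 a ha
    have he : Q = fixedBy Ω (x ^ i) := eq_of_card_ge (hsub.trans (fix_pow_subset x i)) (by rw [hall _ hi, hQf])
    exact Set.Subset.antisymm (he ▸ fix_pow_subset x i) hsub
  by_cases hDS : D = (S : Subgroup G)
  · left
    obtain ⟨H, hH, hH2, hH3⟩ := se_of_uniform h S h2G Q hQne hQu (fun x hx => hDfix x (hDS ▸ hx))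
    refine ⟨H, hH, even_iff_two_dvd.2 hH2, fun g hg => ?_⟩
    rw [← Nat.not_even_iff_odd, even_iff_two_dvd]
    exact hH3 g hg
  right
  have hlt : D < (S : Subgroup G) := lt_of_le_of_ne inf_le_left hDS
  have hidx : D.relIndex (S : Subgroup G) = 2 := by
    have hd : D.relIndex (S : Subgroup G) ∣ (Nat.card Q).factorial := by
      rw [hD, Subgroup.inf_relIndex_left]
      exact relIndex_dvd Q _ hSQ
    have hp : ∃ j, D.relIndex (S : Subgroup G) = 2 ^ j := by
      obtain ⟨m, hm⟩ := IsPGroup.iff_card.mp S.2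
      have hdd : D.relIndex (S : Subgroup G) ∣ 2 ^ m := hm ▸ Subgroup.relIndex_dvd_card D _
      obtain ⟨j, -, hj⟩ := (Nat.dvd_prime_pow Nat.prime_two).1 hdd
      exact ⟨j, hj⟩
    obtain ⟨j, hj⟩ := hp
    have hne1 : D.relIndex (S : Subgroup G) ≠ 1 := fun e => hlt.not_ge (Subgroup.relIndex_eq_one.1 e)
    rw [hj] at hd hne1 ⊢
    rw [hQf] at hd
    have hd6 : 2 ^ j ∣ 6 := hd.trans (by interval_cases f <;> decide)
    have hj2 : j < 2 := by
      by_contra hc
      have h4 : (4 : ℕ) ∣ 6 := (pow_dvd_pow 2 (not_lt.1 hc)).trans hd6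
      omega
    interval_cases j
    · exact absurd rfl hne1
    · rfl
  obtain ⟨x, g, hxS, hyS, hout⟩ := exists_fused_out h S D hlt
  -- an element outside `D` with `f` fixed points
  obtain ⟨y, hy, hyD, hyf⟩ : ∃ y ∈ (S : Subgroup G), y ∉ D ∧ Nat.card (fixedBy Ω y) = f := by
    by_cases hxD : x ∈ D
    · by_cases hx1 : x = 1
      · exfalso; apply hout; rw [hx1]; simp
      · refine ⟨g * x * g⁻¹, hyS, fun e => hout (mul_mem e (inv_mem hxD)), ?_⟩
        rw [card_fix_conj, hDfix x hxD hx1, hQf]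
    · by_cases hgD : g * x * g⁻¹ ∈ D
      · refine ⟨x, hxS, hxD, ?_⟩
        have hne : g * x * g⁻¹ ≠ 1 := fun e => hxD (by rw [conj_eq_one_iff.1 e]; exact one_mem _)
        rw [← card_fix_conj g x, hDfix _ hgD hne, hQf]
      · exfalso; apply hout
        have key : ∀ a ∈ (S : Subgroup G), ∀ b ∈ (S : Subgroup G), a ∉ D → b ∉ D → a * b ∈ D := by
          intro a ha b hb haD hbD
          have hi : (D.subgroupOf (S : Subgroup G)).index = 2 := hidx
          have := (Subgroup.mul_mem_iff_of_index_two hi (a := ⟨a, ha⟩) (b := ⟨b, hb⟩)).2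
            (iff_of_false haD hbD)
          exact this
        exact key _ hyS _ (inv_mem hxS) hgD (fun e => hxD ((Subgroup.inv_mem_iff D).1 e))
  have hyQ : fixedBy Ω y ≠ Q := fun e => hyD ⟨hy, mem_pointStab.2 fun a ha => by
    rw [← e] at ha; exact ha⟩
  have hy2D : y ^ 2 ∈ D := by
    have hi : (D.subgroupOf (S : Subgroup G)).index = 2 := hidx
    exact Subgroup.sq_mem_of_index_two hi (⟨y, hy⟩ : (S : Subgroup G))
  have hy2 : orderOf y = 2 := by
    refine orderOf_eq_prime ?_ fun e => hyD (e ▸ one_mem D)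
    by_contra hne
    have hsub : fixedBy Ω y ⊆ Q := by rw [← hDfix _ hy2D hne]; exact fix_pow_subset y 2
    exact hyQ (eq_of_card_ge hsub (by rw [hyf, hQf]))
  have hwD : w ∈ D := ⟨hwS, mem_pointStab.2 fun a ha => ha⟩
  -- `C_D(y)` acts freely on the fixed points of `y` outside `Q`
  set A : Set Ω := fixedBy Ω y \ Q with hA
  have hA2 : Nat.card A ≤ 2 ∧ 1 ≤ Nat.card A := by
    have hAne : A.Nonempty := by
      by_contra he
      rw [Set.not_nonempty_iff_eq_empty, hA, Set.diff_eq_empty] at he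
      exact hyQ (eq_of_card_ge he (by rw [hyf, hQf]))
    refine ⟨?_, ?_⟩
    swap
    · exact Nat.card_pos_iff.2 ⟨hAne.to_subtype, inferInstance⟩
    rw [Nat.card_coe_set_eq]
    have hsum : (fixedBy Ω y ∩ Q).ncard + A.ncard = f := by
      rw [hA, Set.ncard_inter_add_ncard_sdiff_eq_ncard _ _ (Set.toFinite _), ← Nat.card_coe_set_eq, hyf]
    rcases (by omega : f ≤ 2 ∨ f = 3) with hle | h33
    · omega
    · suffices hne : (fixedBy Ω y ∩ Q).Nonempty by
        have := (Set.ncard_pos (Set.toFinite _)).2 hne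
        omega
      classical
      letI := Fintype.ofFinite Q
      have hsig : (setHom Q ⟨y, hSQ hy⟩) ^ 2 ^ 1 = 1 := by
        rw [← map_pow, show (⟨y, hSQ hy⟩ : stabilizer G Q) ^ 2 ^ 1 = 1 from
          Subtype.ext (show y ^ 2 ^ 1 = 1 by rw [pow_one, ← hy2]; exact pow_orderOf_eq_one y), map_one]
      obtain ⟨a, ha⟩ := Equiv.Perm.exists_fixed_point_of_prime (p := 2) (n := 1)
        (by rw [← Nat.card_eq_fintype_card, hQf, h33]; decide) hsig
      exact ⟨(a : Ω), congrArg Subtype.val ha, a.2⟩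
  set CD := D ⊓ Subgroup.centralizer ({y} : Set G) with hCD
  have hCD2 : Nat.card CD ≤ 2 := by
    refine le_trans (Nat.le_of_dvd hA2.2 (card_dvd_of_free CD A ?_ ?_)) hA2.1
    · intro t ht a ha
      have e1 := smul_fix_of_comm (Ω := Ω) (Subgroup.mem_centralizer_singleton_iff.1 ht.2)
      refine ⟨e1 ▸ Set.smul_mem_smul_set ha.1, fun e => ha.2 ?_⟩
      exact (smul_mem_iff (hSQ ht.1.1) a).1 e
    · intro t ht ht1 a ha e
      exact ha.2 (hDfix t ht.1 ht1 ▸ (e : t • a = a))
  refine dihedral_or_semi (S : Subgroup G) S.2 hy hwS hy2 hk (fun e => hyD (e ▸ hwD)) (hwc y hy) ?_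
  set C := (S : Subgroup G) ⊓ Subgroup.centralizer ({y} : Set G) with hC
  have heq : D ⊓ C = CD := by
    rw [hC, hCD, hD]
    ext v
    simp only [Subgroup.mem_inf]
    tauto
  have hrel : D.relIndex C ≤ 2 := by
    rw [← hidx]
    exact Subgroup.relIndex_le_of_le_right inf_le_left Subgroup.index_ne_zero_of_finite
  have := ((D ⊓ C).subgroupOf C).card_mul_index
  rw [Nat.card_congr (Subgroup.subgroupOfEquivOfLe inf_le_right).toEquiv, heq] at this
  have hr : (CD.subgroupOf C).index = D.relIndex C := by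
    rw [← heq]; exact Subgroup.inf_relIndex_right D C
  rw [hr] at this
  rw [← this]
  calc Nat.card CD * D.relIndex C ≤ 2 * 2 := Nat.mul_le_mul hCD2 hrel
    _ = 4 := rfl

end Cfsg.Agent.FixFour
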