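import Cfsg.Agent.FixFour.SmallFix
import Cfsg.Agent.SecRankFour.Basic
import Cfsg.Agent.SecFour.Basic
import Cfsg.Agent.S0501
import Cfsg.Agent.S1232

/-!
# Fixity four: criteria for sectional rank four and small facts on 2-groups
-/

set_option autoImplicit false

namespace Cfsg.Agent.FixFour

open MulAction Pointwise Subgroup

universe u v

variable {G : Type u} [Group G]

theorem sectional_of_sylow [Finite G] (S : Sylow 2 G)
    (h : Cfsg.SectionalPRankLE 2 4 ↥(S : Subgroup G)) : Cfsg.SectionalPRankLE 2 4 G := by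
  refine SecRankFour.sectional_of_good S fun K N hKS hNK hn hsq => ?_
  have := SecFour.rank_bound h (K.subgroupOf S) (N.subgroupOf S) (fun x hx => hNK hx)
    (fun k hk n hn' => mem_subgroupOf.2 (by simpa using hn k hk n hn')) (fun k hk => hsq k hk)
  rwa [Nat.card_congr (subgroupOfEquivOfLe hKS).toEquiv,
    Nat.card_congr (subgroupOfEquivOfLe (hNK.trans hKS)).toEquiv] at this

theorem sec_of_no_normal [Finite G] (S : Subgroup G) (hS : IsPGroup 2 S)
    (h : ∀ A : Subgroup G, A ≤ S → (∀ g ∈ S, ∀ a ∈ A, g * a * g⁻¹ ∈ A) →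
      (∀ a ∈ A, ∀ b ∈ A, a * b = b * a) → (∀ a ∈ A, a * a = 1) → Nat.card A ≤ 4) :
    Cfsg.SectionalPRankLE 2 4 ↥S := by
  refine S0501.result hS fun A hAn hAc hA2 => ?_
  rw [← card_map_of_injective S.subtype_injective]
  refine h _ (map_subtype_le A) ?_ ?_ ?_
  · rintro g hg _ ⟨a, ha, rfl⟩
    exact ⟨⟨g, hg⟩ * a * ⟨g, hg⟩⁻¹, hAn.conj_mem a ha _, rfl⟩
  · rintro _ ⟨a, ha, rfl⟩ _ ⟨b, hb, rfl⟩
    exact congrArg Subtype.val (congrArg Subtype.val (hAc.is_comm.comm ⟨a, ha⟩ ⟨b, hb⟩) : a * b = b * a)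
  · rintro _ ⟨a, ha, rfl⟩
    have := congrArg Subtype.val (hA2 a ha)
    simpa [pow_two] using this

theorem sec_of_self_cent [Finite G] (S : Subgroup G) (hS : IsPGroup 2 S) (E : Subgroup G) (hES : E ≤ S)
    (hEc : ∀ a ∈ E, ∀ b ∈ E, a * b = b * a) (hE2 : ∀ a ∈ E, a * a = 1) (hE8 : Nat.card E = 8)
    (hC : ∀ s ∈ S, (∀ a ∈ E, a * s = s * a) → s ∈ E) : Cfsg.SectionalPRankLE 2 4 ↥S := by
  refine S1232.result hS (E.subgroupOf S) ?_ ?_ ?_
  · exact ⟨⟨⟨fun a b => Subtype.ext (Subtype.ext (hEc _ a.2 _ b.2))⟩⟩,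
      fun a ha => Subtype.ext (by simpa [pow_two] using hE2 _ ha)⟩
  · rw [Nat.card_congr (subgroupOfEquivOfLe hES).toEquiv, hE8]
  · ext s
    rw [mem_centralizer_iff, mem_subgroupOf]
    refine ⟨fun e => hC s s.2 fun a ha => congrArg Subtype.val (e ⟨a, hES ha⟩ ha), fun hs a ha => ?_⟩
    exact Subtype.ext (hEc _ ha _ hs)

/-- The product of two commuting subgroups. -/
def commSup (A B : Subgroup G) (h : ∀ a ∈ A, ∀ b ∈ B, a * b = b * a) : Subgroup G :=
  (MonoidHom.noncommCoprod A.subtype B.subtype fun a b => h a a.2 b b.2).range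

theorem mem_commSup {A B : Subgroup G} {h : ∀ a ∈ A, ∀ b ∈ B, a * b = b * a} {x : G} :
    x ∈ commSup A B h ↔ ∃ a ∈ A, ∃ b ∈ B, x = a * b := by
  constructor
  · rintro ⟨⟨a, b⟩, rfl⟩
    exact ⟨a, a.2, b, b.2, rfl⟩
  · rintro ⟨a, ha, b, hb, rfl⟩
    exact ⟨⟨⟨a, ha⟩, ⟨b, hb⟩⟩, rfl⟩

theorem commSup_left {A B : Subgroup G} (h : ∀ a ∈ A, ∀ b ∈ B, a * b = b * a) : A ≤ commSup A B h :=
  fun a ha => mem_commSup.2 ⟨a, ha, 1, one_mem _, (mul_one a).symm⟩

theorem commSup_right {A B : Subgroup G} (h : ∀ a ∈ A, ∀ b ∈ B, a * b = b * a) : B ≤ commSup A B h :=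
  fun b hb => mem_commSup.2 ⟨1, one_mem _, b, hb, (one_mul b).symm⟩

theorem commSup_le {A B W : Subgroup G} {h : ∀ a ∈ A, ∀ b ∈ B, a * b = b * a} (hA : A ≤ W) (hB : B ≤ W) :
    commSup A B h ≤ W := fun x hx => by
  obtain ⟨a, ha, b, hb, rfl⟩ := mem_commSup.1 hx
  exact mul_mem (hA ha) (hB hb)

theorem eq_of_mul_eq {A B : Subgroup G} (hd : ∀ x ∈ A, x ∈ B → x = 1) {a a' b b' : G} (ha : a ∈ A)
    (ha' : a' ∈ A) (hb : b ∈ B) (hb' : b' ∈ B) (e : a * b = a' * b') : a = a' ∧ b = b' := by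
  have h1 : a'⁻¹ * a = b' * b⁻¹ := by
    rw [eq_mul_inv_iff_mul_eq, mul_assoc, inv_mul_eq_iff_eq_mul, e]
  have h2 := hd _ (mul_mem (inv_mem ha') ha) (h1 ▸ mul_mem hb' (inv_mem hb))
  have h3 : a = a' := (inv_mul_eq_one.1 h2).symm
  exact ⟨h3, by rw [h3] at e; exact mul_left_cancel e⟩

theorem card_commSup {A B : Subgroup G} (h : ∀ a ∈ A, ∀ b ∈ B, a * b = b * a)
    (hd : ∀ x ∈ A, x ∈ B → x = 1) : Nat.card (commSup A B h) = Nat.card A * Nat.card B := by
  rw [← Nat.card_prod]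
  refine (Nat.card_congr (MonoidHom.ofInjective fun x y e => ?_).toEquiv).symm
  obtain ⟨e1, e2⟩ := eq_of_mul_eq hd x.1.2 y.1.2 x.2.2 y.2.2 e
  exact Prod.ext (Subtype.ext e1) (Subtype.ext e2)

theorem commSup_comm {A B : Subgroup G} {h : ∀ a ∈ A, ∀ b ∈ B, a * b = b * a}
    (hA : ∀ a ∈ A, ∀ b ∈ A, a * b = b * a) (hB : ∀ a ∈ B, ∀ b ∈ B, a * b = b * a) :
    ∀ x ∈ commSup A B h, ∀ y ∈ commSup A B h, x * y = y * x := by
  intro x hx y hy
  obtain ⟨a, ha, b, hb, rfl⟩ := mem_commSup.1 hx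
  obtain ⟨c, hc, d, hd, rfl⟩ := mem_commSup.1 hy
  have e1 : Commute a (c * d) := Commute.mul_right (hA a ha c hc) (h a ha d hd)
  have e2 : Commute b (c * d) := Commute.mul_right (h c hc b hb).symm (hB b hb d hd)
  exact e1.mul_left e2

theorem commSup_sq {A B : Subgroup G} {h : ∀ a ∈ A, ∀ b ∈ B, a * b = b * a}
    (hA : ∀ a ∈ A, a * a = 1) (hB : ∀ b ∈ B, b * b = 1) : ∀ x ∈ commSup A B h, x * x = 1 := by
  intro x hx
  obtain ⟨a, ha, b, hb, rfl⟩ := mem_commSup.1 hx
  rw [mul_assoc, ← mul_assoc b, ← h a ha b hb, mul_assoc, hB b hb, mul_one, hA a ha]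

theorem comm_of_sq (A : Subgroup G) (hA : ∀ a ∈ A, a * a = 1) : ∀ a ∈ A, ∀ b ∈ A, a * b = b * a := by
  intro a ha b hb
  have := hA _ (mul_mem ha hb)
  rw [← inv_eq_of_mul_eq_one_right this, mul_inv_rev, inv_eq_of_mul_eq_one_right (hA a ha),
    inv_eq_of_mul_eq_one_right (hA b hb)]

theorem zpowers_two {t : G} (ht : t * t = 1) {x : G} (hx : x ∈ zpowers t) : x = 1 ∨ x = t := by
  obtain ⟨k, rfl⟩ := mem_zpowers_iff.1 hx
  rcases Int.even_or_odd k with ⟨m, rfl⟩ | ⟨m, rfl⟩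
  · left; rw [zpow_add, ← (Commute.refl t).mul_zpow, ht, one_zpow]
  · right; rw [zpow_add_one, two_mul, zpow_add, ← (Commute.refl t).mul_zpow, ht, one_zpow, one_mul]

theorem sq_one_of_two {x : G} (h : orderOf x = 2) : x * x = 1 := by
  rw [← pow_two, ← h]; exact pow_orderOf_eq_one x

theorem order_two {x : G} (h : x * x = 1) (h1 : x ≠ 1) : orderOf x = 2 :=
  orderOf_eq_prime (by rw [pow_two, h]) h1

/-- An involution normalising an elementary abelian group centralises at least the square root of it. -/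
theorem card_le_cent_sq [Finite G] (A : Subgroup G) (hA : ∀ a ∈ A, a * a = 1) (x : G) (hx : x * x = 1)
    (hn : ∀ a ∈ A, x * a * x⁻¹ ∈ A) :
    Nat.card A ≤ Nat.card ↥(A ⊓ centralizer ({x} : Set G)) ^ 2 := by
  have hc := comm_of_sq A hA
  let f : ↥A →* ↥A :=
    { toFun := fun a => ⟨a * (x * a * x⁻¹), mul_mem a.2 (hn a a.2)⟩
      map_one' := Subtype.ext (by simp)
      map_mul' := fun a b => Subtype.ext (by
        show (a : G) * b * (x * (a * b) * x⁻¹) = a * (x * a * x⁻¹) * (b * (x * b * x⁻¹))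
        rw [show x * ((a : G) * b) * x⁻¹ = x * a * x⁻¹ * (x * b * x⁻¹) by group, mul_assoc (a : G),
          mul_assoc (a : G), ← mul_assoc (b : G), hc _ b.2 _ (hn a a.2), mul_assoc (x * (a : G) * x⁻¹)]) }
  have hk : ∀ a : ↥A, a ∈ f.ker ↔ (a : G) ∈ centralizer ({x} : Set G) := by
    intro a
    rw [MonoidHom.mem_ker, mem_centralizer_singleton_iff]
    constructor
    · intro e
      have e' := (inv_eq_of_mul_eq_one_right (congrArg Subtype.val e : (a : G) * (x * a * x⁻¹) = 1))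
      rw [inv_eq_of_mul_eq_one_right (hA _ a.2), eq_mul_inv_iff_mul_eq] at e'
      exact e'
    · intro e
      refine Subtype.ext (show (a : G) * (x * a * x⁻¹) = 1 from ?_)
      rw [← e, mul_inv_cancel_right, hA _ a.2]
  have e1 : Nat.card f.ker = Nat.card ↥(A ⊓ centralizer ({x} : Set G)) :=
    Nat.card_congr ((Equiv.subtypeEquivRight hk).trans (Equiv.subtypeSubtypeEquivSubtypeInter (· ∈ A)
      (· ∈ centralizer ({x} : Set G))))
  have e2 : Nat.card f.range ≤ Nat.card f.ker := by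
    refine Subgroup.card_le_of_le ?_
    rintro _ ⟨a, rfl⟩
    rw [hk, mem_centralizer_singleton_iff]
    have hxi : x⁻¹ = x := inv_eq_of_mul_eq_one_right hx
    have hm := hn a a.2
    rw [hxi] at hm
    show (a : G) * (x * a * x⁻¹) * x = x * (a * (x * a * x⁻¹))
    rw [hxi, show (a : G) * (x * a * x) * x = a * (x * a) * (x * x) by group, hx, mul_one,
      hc a a.2 _ hm]
    calc (a : G) * (x * a) = x * x * (a * (x * a)) := by rw [hx, one_mul]
      _ = x * (x * a * x * a) := by group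
  calc Nat.card A = Nat.card f.ker * f.ker.index := f.ker.card_mul_index.symm
    _ = Nat.card f.ker * Nat.card f.range := by rw [index_ker]
    _ ≤ Nat.card f.ker * Nat.card f.ker := Nat.mul_le_mul_left _ e2
    _ = _ := by rw [e1, sq]

theorem two_pow_card [Finite G] {S A : Subgroup G} (hS : IsPGroup 2 S) (hA : A ≤ S) :
    ∃ k, Nat.card A = 2 ^ k :=
  haveI : Fact (Nat.Prime 2) := ⟨Nat.prime_two⟩
  IsPGroup.iff_card.mp (hS.to_le hA)

/-- A normal elementary abelian subgroup of order at least eight yields an elementary abelian subgroup of order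
at least eight containing a given involution. -/
theorem exists_elem_ge [Finite G] (S : Subgroup G) (hS : IsPGroup 2 S) {t : G} (htS : t ∈ S)
    (ht : orderOf t = 2) (A : Subgroup G) (hAS : A ≤ S) (hAn : ∀ g ∈ S, ∀ a ∈ A, g * a * g⁻¹ ∈ A)
    (hA : ∀ a ∈ A, a * a = 1) (h8 : 4 < Nat.card A) :
    ∃ E : Subgroup G, E ≤ S ⊓ centralizer ({t} : Set G) ∧ t ∈ E ∧ (∀ a ∈ E, a * a = 1) ∧
      8 ≤ Nat.card E := by
  have htt := sq_one_of_two ht
  by_cases htA : t ∈ A
  · refine ⟨A, fun a ha => ⟨hAS ha, mem_centralizer_singleton_iff.2 (comm_of_sq A hA a ha t htA)⟩,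
      htA, hA, ?_⟩
    obtain ⟨k, hk⟩ := two_pow_card hS hAS
    have : 3 ≤ k := by
      by_contra hc
      have := Nat.pow_le_pow_right two_pos (show k ≤ 2 by omega)
      omega
    have := Nat.pow_le_pow_right two_pos this
    omega
  · set C := A ⊓ centralizer ({t} : Set G) with hC
    have hsq := card_le_cent_sq A hA t htt (fun a ha => hAn t htS a ha)
    have hC4 : 4 ≤ Nat.card C := by
      obtain ⟨k, hk⟩ := two_pow_card hS (show C ≤ S from inf_le_left.trans hAS)
      rw [← hC, hk] at hsq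
      rw [hk]
      rcases (by omega : k ≤ 1 ∨ 2 ≤ k) with hk1 | hk2
      · interval_cases k <;> simp at hsq <;> omega
      · exact (Nat.pow_le_pow_right two_pos hk2).trans' (by norm_num)
    have hcomm : ∀ a ∈ C, ∀ b ∈ zpowers t, a * b = b * a := by
      intro a ha b hb
      rcases zpowers_two htt hb with rfl | rfl
      · simp
      · exact mem_centralizer_singleton_iff.1 ha.2
    refine ⟨commSup C (zpowers t) hcomm, commSup_le (le_inf (inf_le_left.trans hAS) inf_le_right)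
      (le_inf (zpowers_le.2 htS) (zpowers_le.2 (mem_centralizer_singleton_iff.2 rfl))),
      commSup_right hcomm (mem_zpowers t), commSup_sq (fun a ha => hA a ha.1) ?_, ?_⟩
    · intro b hb
      rcases zpowers_two htt hb with rfl | rfl
      · simp
      · exact htt
    · rw [card_commSup hcomm ?_, Nat.card_zpowers, ht]
      · omega
      · intro x hx hxt
        rcases zpowers_two htt hxt with rfl | rfl
        · rfl
        · exact absurd hx.1 htA

theorem sec_of_small_cent [Finite G] (S : Subgroup G) (hS : IsPGroup 2 S) {t : G} (htS : t ∈ S)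
    (ht : orderOf t = 2)
    (h : ∀ E : Subgroup G, E ≤ S ⊓ centralizer ({t} : Set G) → (∀ a ∈ E, a * a = 1) → Nat.card E ≤ 4) :
    Cfsg.SectionalPRankLE 2 4 ↥S := by
  refine sec_of_no_normal S hS fun A hAS hAn _ hA2 => ?_
  by_contra hc
  obtain ⟨E, h1, -, h3, h4⟩ := exists_elem_ge S hS htS ht A hAS hAn hA2 (not_le.1 hc)
  have := h E h1 h3
  omega

section Perm

theorem perm_four_central : ((Finset.univ : Finset (Equiv.Perm (Fin 4))).filter fun σ =>
    8 ≤ ((Finset.univ : Finset (Equiv.Perm (Fin 4))).filter fun τ => σ * τ = τ * σ).card).card ≤ 4 := by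
  decide +kernel

/-- A commutative group of permutations of four points has order at most four, or is not a 2-group. -/
theorem perm_four_abelian {α : Type v} [Finite α] (h4 : Nat.card α = 4) (W : Subgroup (Equiv.Perm α))
    (hc : ∀ a ∈ W, ∀ b ∈ W, a * b = b * a) (h8 : 8 ≤ Nat.card W) : False := by
  classical
  let e : α ≃ Fin 4 := (Finite.equivFin α).trans (finCongr h4)
  let V : Subgroup (Equiv.Perm (Fin 4)) := W.map e.permCongrHom.toMonoidHom
  have hV : Nat.card V = Nat.card W := card_map_of_injective e.permCongrHom.injective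
  have hVc : ∀ a ∈ V, ∀ b ∈ V, a * b = b * a := by
    rintro _ ⟨a, ha, rfl⟩ _ ⟨b, hb, rfl⟩
    rw [← map_mul, ← map_mul, hc a ha b hb]
  have key : (Set.toFinset (V : Set (Equiv.Perm (Fin 4)))).card ≤ 4 := by
    refine le_trans (Finset.card_le_card fun σ hσ => ?_) perm_four_central
    rw [Set.mem_toFinset] at hσ
    refine Finset.mem_filter.2 ⟨Finset.mem_univ _, ?_⟩
    refine le_trans (le_of_le_of_eq h8 ?_) (Finset.card_le_card (s := Set.toFinset (V : Set _)) fun τ hτ => ?_)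
    · rw [← hV, Set.toFinset_card, ← Nat.card_eq_fintype_card]; rfl
    · rw [Set.mem_toFinset] at hτ
      exact Finset.mem_filter.2 ⟨Finset.mem_univ _, hVc σ hσ τ hτ⟩
  rw [Set.toFinset_card, ← Nat.card_eq_fintype_card] at key
  have : Nat.card V ≤ 4 := key
  omega

end Perm

section Action

variable {Ω : Type v} [MulAction G Ω]

theorem relIndex_pow [Finite G] [Finite Ω] {Q : Set Ω} (h4 : Nat.card Q = 4) {W : Subgroup G}
    (hW : IsPGroup 2 W) (hWQ : W ≤ stabilizer G Q) :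
    ∃ j ≤ 3, (pointStab Q).relIndex W = 2 ^ j := by
  haveI : Fact (Nat.Prime 2) := ⟨Nat.prime_two⟩
  obtain ⟨m, hm⟩ := IsPGroup.iff_card.mp hW
  have hd := relIndex_dvd Q W hWQ
  rw [h4, show (4 : ℕ).factorial = 24 from rfl] at hd
  have hdd : (pointStab Q).relIndex W ∣ 2 ^ m := hm ▸ relIndex_dvd_card _ _
  obtain ⟨j, -, hj⟩ := (Nat.dvd_prime_pow Nat.prime_two).1 hdd
  refine ⟨j, ?_, hj⟩
  by_contra hc
  rw [hj] at hd
  have : (16 : ℕ) ∣ 24 := (pow_dvd_pow 2 (show 4 ≤ j by omega)).trans hd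
  omega

theorem relIndex_abelian [Finite G] [Finite Ω] {Q : Set Ω} (h4 : Nat.card Q = 4) {W : Subgroup G}
    (hW : IsPGroup 2 W) (hWQ : W ≤ stabilizer G Q) (hc : ∀ a ∈ W, ∀ b ∈ W, a * b = b * a) :
    (pointStab Q).relIndex W ≤ 4 := by
  obtain ⟨j, hj3, hj⟩ := relIndex_pow h4 hW hWQ
  rw [hj]
  by_contra hgt
  have hj' : j = 3 := by
    by_contra hne
    have := Nat.pow_le_pow_right two_pos (show j ≤ 2 by omega)
    omega
  let f : ↥W →* Equiv.Perm Q := (setHom Q).comp (inclusion hWQ)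
  refine perm_four_abelian h4 f.range ?_ ?_
  · rintro _ ⟨a, rfl⟩ _ ⟨b, rfl⟩
    rw [← map_mul, ← map_mul, show a * b = b * a from Subtype.ext (hc a a.2 b b.2)]
  · have hk : f.ker = (pointStab Q).subgroupOf W := by
      rw [← MonoidHom.comap_ker, ker_setHom]
      rfl
    rw [← index_ker, hk]
    show 8 ≤ (pointStab Q).relIndex W
    rw [hj, hj']
    norm_num

/-- A 2-group acting on `Q` whose non-identity elements fix exactly `Q'`, a set different from `Q`. -/
theorem small_on [Finite G] [Finite Ω] {Q Q' : Set Ω} (h4 : Nat.card Q = 4) (h4' : Nat.card Q' = 4)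
    (hne : Q' ≠ Q) {W : Subgroup G} (hW : IsPGroup 2 W) (hWQ : W ≤ stabilizer G Q)
    (hfix : ∀ x ∈ W, x ≠ 1 → fixedBy Ω x = Q') : Nat.card W ≤ 2 ∨ Nat.card W ∣ 4 := by
  by_cases hcm : (Q ∩ Q').Nonempty
  · left
    obtain ⟨a, haQ, haQ'⟩ := hcm
    set R := Q \ {a} with hR
    have hR3 : Nat.card R = 3 := by
      rw [Nat.card_coe_set_eq, hR, Set.ncard_sdiff_singleton_of_mem haQ, ← Nat.card_coe_set_eq, h4]
    have hWR : W ≤ stabilizer G R := by
      intro w hw
      have hwa : w • a = a := by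
        by_cases h1 : w = 1
        · rw [h1, one_smul]
        · exact ((hfix w hw h1).symm ▸ haQ' : a ∈ fixedBy Ω w)
      refine mem_stabilizer_iff.2 ?_
      rw [hR, Set.smul_set_sdiff, mem_stabilizer_iff.1 (hWQ hw), Set.smul_set_singleton, hwa]
    have hd := relIndex_dvd R W hWR
    rw [hR3] at hd
    have hbot : (pointStab R).subgroupOf W = ⊥ := by
      refine eq_bot_iff.2 fun x hx => ?_
      rw [mem_bot]
      by_contra h1
      have hx1 : (x : G) ≠ 1 := fun e => h1 (Subtype.ext e)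
      refine hne (eq_of_card_ge ?_ (by rw [h4, h4'])).symm
      intro b hb
      rw [← hfix x x.2 hx1]
      by_cases hba : b = a
      · rw [hba, hfix x x.2 hx1]; exact haQ'
      · exact mem_pointStab.1 (mem_subgroupOf.1 hx) b ⟨hb, hba⟩
    rw [relIndex, hbot, index_bot] at hd
    obtain ⟨k, hk⟩ := two_pow_card (S := W) hW le_rfl
    rw [hk] at hd ⊢
    rcases (by omega : k ≤ 1 ∨ 2 ≤ k) with hk1 | hk2
    · exact (Nat.pow_le_pow_right two_pos hk1).trans (by norm_num)
    · have : (4 : ℕ) ∣ 6 := (pow_dvd_pow 2 hk2).trans (hd.trans (by decide))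
      omega
  · right
    rw [← h4]
    refine card_dvd_of_free W Q (fun t ht a ha => (smul_mem_iff (hWQ ht) a).2 ha) fun t ht ht1 a ha e => ?_
    exact hcm ⟨a, ha, hfix t ht ht1 ▸ (e : a ∈ fixedBy Ω t)⟩

end Action

end Cfsg.Agent.FixFour
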